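import Mathlib
import Cfsg.Agent.Lib.OrthDeg.Engine
import Cfsg.Agent.Lib.SympWeil.Basic

/-! Multiplicities of the characters of abelian subgroups. -/

set_option autoImplicit false

namespace CfsgLib.G2Deg

open CfsgLib.RadicalBound CfsgLib.OrthDeg

local notation "ψ" => CfsgLib.SympWeil.ψ

variable {G : Type*} [Group G] {A : Type*} [AddCommGroup A] [Fintype A] {k : ℕ}
  (f : A → G) (ρ : Representation ℂ G (Fin k → ℂ)) (hf : ∀ S T, f (S + T) = f S * f T)

include hf in
theorem mem_range_iff (χ : AddChar A ℂ) (v : Fin k → ℂ) :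
    v ∈ LinearMap.range (proj f ρ χ) ↔ ∀ S, ρ (f S) v = χ S • v := by
  classical
  constructor
  · rintro ⟨w, rfl⟩ S
    exact LinearMap.congr_fun (eig_proj f hf ρ χ S) w
  · intro h
    exact ⟨v, by rw [proj_eigen f ρ χ χ h, if_pos rfl]⟩

include hf in
theorem exists_eigen {χ : AddChar A ℂ} (h : mult f ρ χ ≠ 0) :
    ∃ v : Fin k → ℂ, v ≠ 0 ∧ ∀ S, ρ (f S) v = χ S • v := by
  have : LinearMap.range (proj f ρ χ) ≠ ⊥ := fun hb => h (by rw [mult, hb, finrank_bot])
  obtain ⟨v, hv, hv0⟩ := Submodule.exists_mem_ne_zero_of_ne_bot this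
  exact ⟨v, hv0, (mem_range_iff f ρ hf χ v).1 hv⟩

include hf in
theorem mult_pos_of_eigen {χ : AddChar A ℂ} {v : Fin k → ℂ} (hv0 : v ≠ 0)
    (hv : ∀ S, ρ (f S) v = χ S • v) : 0 < mult f ρ χ := by
  rw [mult, Module.finrank_pos_iff_exists_ne_zero]
  exact ⟨⟨v, (mem_range_iff f ρ hf χ v).2 hv⟩, fun h => hv0 (congrArg Subtype.val h)⟩

include hf in
/-- The multiplicity on a smaller group. -/
theorem marginal {B : Type*} [AddCommGroup B] [Fintype B] (ι : B →+ A) (χ : AddChar B ℂ)
    [DecidablePred fun χ' : AddChar A ℂ => χ'.compAddMonoidHom ι = χ] :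
    mult (f ∘ ι) ρ χ = ∑ χ' ∈ Finset.univ.filter (fun χ' : AddChar A ℂ => χ'.compAddMonoidHom ι = χ),
      mult f ρ χ' := by
  classical
  have hg : ∀ S T, (f ∘ ι) (S + T) = (f ∘ ι) S * (f ∘ ι) T := fun S T => by
    simp only [Function.comp_apply, map_add, hf]
  have e : proj (f ∘ ι) ρ χ = ∑ χ' ∈ Finset.univ.filter
      (fun χ' : AddChar A ℂ => χ'.compAddMonoidHom ι = χ), proj f ρ χ' := by
    conv_lhs => rw [← mul_one (proj (f ∘ ι) ρ χ), ← sum_proj f ρ hf, Finset.mul_sum]
    rw [Finset.sum_filter]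
    refine Finset.sum_congr rfl fun χ' _ => LinearMap.ext fun x => ?_
    rw [Module.End.mul_apply, proj_eigen (f ∘ ι) ρ χ (χ'.compAddMonoidHom ι)
      (fun S => LinearMap.congr_fun (eig_proj f hf ρ χ' (ι S)) x)]
    by_cases h : χ = χ'.compAddMonoidHom ι
    · rw [if_pos h, if_pos h.symm]
    · rw [if_neg h, if_neg (Ne.symm h), LinearMap.zero_apply]
  apply Nat.cast_injective (R := ℂ)
  rw [← trace_proj (f ∘ ι) ρ hg, e, map_sum, Nat.cast_sum]
  exact Finset.sum_congr rfl fun χ' _ => trace_proj f ρ hf χ'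

variable {F : Type*} [Field F] [Fintype F] {n : ℕ}

/-- The character of a coordinate vector. -/
noncomputable def chv (c : Fin n → F) : AddChar (Fin n → F) ℂ :=
  ⟨fun x => (ψ : AddChar F ℂ) (∑ i, c i * x i), by simp,
    fun x y => by simp [mul_add, Finset.sum_add_distrib, AddChar.map_add_eq_mul]⟩

theorem chv_apply (c x : Fin n → F) : chv c x = (ψ : AddChar F ℂ) (∑ i, c i * x i) := rfl

theorem chv_zero : chv (0 : Fin n → F) = 1 := by
  ext x; simp [chv_apply]

theorem chv_injective : Function.Injective (chv : (Fin n → F) → AddChar (Fin n → F) ℂ) := by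
  intro c c' h
  funext i
  by_contra hne
  obtain ⟨t, ht⟩ := CfsgLib.SympWeil.ψ_ne (sub_ne_zero.2 hne)
  apply ht
  classical
  have e := DFunLike.congr_fun h (Pi.single i t)
  simp only [chv_apply, Pi.single_apply, mul_ite, mul_zero, Finset.sum_ite_eq', Finset.mem_univ,
    if_true] at e
  rw [sub_mul, sub_eq_add_neg, AddChar.map_add_eq_mul, e, ← AddChar.map_add_eq_mul, add_neg_cancel,
    AddChar.map_zero_eq_one]

theorem chv_bijective : Function.Bijective (chv : (Fin n → F) → AddChar (Fin n → F) ℂ) := by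
  classical
  exact (Fintype.bijective_iff_injective_and_card _).2 ⟨chv_injective, (AddChar.card_eq).symm⟩

variable (g : (Fin n → F) → G) (hg : ∀ S T, g (S + T) = g S * g T)

/-- The multiplicity of a coordinate vector. -/
noncomputable def M (c : Fin n → F) : ℕ := mult g ρ (chv c)

include hg in
theorem sum_M : ∑ c : Fin n → F, M ρ g c = k := by
  classical
  refine Eq.trans (Fintype.sum_bijective chv chv_bijective _ _ fun c => rfl) (sum_mult g ρ hg)

include hg in
theorem M_marginal {m : ℕ} (ι : (Fin m → F) →+ (Fin n → F)) (π : (Fin n → F) → Fin m → F)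
    (hπ : ∀ c, (chv c).compAddMonoidHom ι = chv (π c)) (d : Fin m → F) [DecidableEq F] :
    M ρ (g ∘ ι) d = ∑ c ∈ Finset.univ.filter (fun c => π c = d), M ρ g c := by
  classical
  rw [M, marginal g ρ hg ι]
  symm
  refine Finset.sum_bij (fun c _ => chv c) (fun c hc => ?_) (fun a _ b _ h => chv_injective h)
    (fun χ hχ => ?_) (fun c _ => rfl)
  · rw [Finset.mem_filter] at hc ⊢
    exact ⟨Finset.mem_univ _, by rw [hπ, hc.2]⟩
  · obtain ⟨c, rfl⟩ := chv_bijective.2 χ
    rw [Finset.mem_filter] at hχ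
    exact ⟨c, Finset.mem_filter.2 ⟨Finset.mem_univ _, chv_injective (by rw [← hπ]; exact hχ.2)⟩, rfl⟩

include hg in
/-- Invariance under a normalising element. -/
theorem M_conj (x : G) (L : (Fin n → F) ≃+ (Fin n → F)) (hx : ∀ S, x * g S = g (L S) * x)
    (c c' : Fin n → F) (hc : ∀ S, chv c' (L S) = chv c S) : M ρ g c = M ρ g c' :=
  mult_conj g ρ hg x L hx _ _ hc

include hg in
theorem M_pos {c : Fin n → F} {v : Fin k → ℂ} (hv0 : v ≠ 0) (hv : ∀ S, ρ (g S) v = chv c S • v) :
    0 < M ρ g c :=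
  mult_pos_of_eigen g ρ hg hv0 hv

end CfsgLib.G2Deg
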