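import Cfsg.Agent.Lib.G2Deg.Morph

/-! The abelian group of the roots a+b, 2a+b, 3a+b, 3a+2b in characteristic three. -/

set_option autoImplicit false
set_option linter.unusedSectionVars false
set_option linter.unnecessarySeqFocus false

namespace CfsgLib.G2Deg

open CfsgLib.RadicalBound CfsgLib.OrthDeg

local notation "ψ" => CfsgLib.SympWeil.ψ

variable {F : Type*} [Field F] [Fintype F] [CharP F 3] {k : ℕ}

theorem three_zero : (3 : F) = 0 := by exact_mod_cast CharP.cast_eq_zero F 3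

theorem two_eq : (2 : F) = -1 := by linear_combination three_zero (F := F)

theorem x89_comm (u v : F) : xr 8 u * xr 9 v = xr 9 v * xr 8 u := by
  rw [x8_x9, three_zero, zero_mul, zero_mul, xr_zero, mul_one]

theorem x79_comm (u v : F) : xr 7 u * xr 9 v = xr 9 v * xr 7 u := by
  rw [x7_x9, three_zero, zero_mul, zero_mul, xr_zero, mul_one]

theorem x78_eq (t u : F) : xr 7 t * xr 8 u = xr 8 u * xr 9 (t * u) * xr 7 t := by
  rw [x7_x8, two_eq, three_zero, show -((-1 : F) * t * u) = t * u by ring]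
  simp [xr_zero]

/-- The abelian group. -/
noncomputable def a4 (x : Fin 4 → F) : GG F := xr 8 (x 0) * xr 9 (x 1) * xr 10 (x 2) * xr 11 (x 3)

theorem a4_add (S T : Fin 4 → F) : a4 (S + T) = a4 S * a4 T := by
  have c98 : xr 9 (S 1) * xr 8 (T 0) = xr 8 (T 0) * xr 9 (S 1) := (x89_comm _ _).symm
  have c108 : xr 10 (S 2) * xr 8 (T 0) = xr 8 (T 0) * xr 10 (S 2) :=
    comm_xr 10 8 (by decide) (by decide +kernel) _ _
  have c118 : xr 11 (S 3) * xr 8 (T 0) = xr 8 (T 0) * xr 11 (S 3) :=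
    comm_xr 11 8 (by decide) (by decide +kernel) _ _
  have c109 : xr 10 (S 2) * xr 9 (T 1) = xr 9 (T 1) * xr 10 (S 2) :=
    comm_xr 10 9 (by decide) (by decide +kernel) _ _
  have c119 : xr 11 (S 3) * xr 9 (T 1) = xr 9 (T 1) * xr 11 (S 3) :=
    comm_xr 11 9 (by decide) (by decide +kernel) _ _
  have c1110 : xr 11 (S 3) * xr 10 (T 2) = xr 10 (T 2) * xr 11 (S 3) :=
    comm_xr 11 10 (by decide) (by decide +kernel) _ _
  simp only [a4, Pi.add_apply, xr_add]
  calc xr 8 (S 0) * xr 8 (T 0) * (xr 9 (S 1) * xr 9 (T 1)) * (xr 10 (S 2) * xr 10 (T 2)) *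
        (xr 11 (S 3) * xr 11 (T 3))
      = xr 8 (S 0) * (xr 8 (T 0) * xr 9 (S 1)) * (xr 9 (T 1) * xr 10 (S 2)) * (xr 10 (T 2) * xr 11 (S 3)) *
          xr 11 (T 3) := by group
    _ = xr 8 (S 0) * (xr 9 (S 1) * xr 8 (T 0)) * (xr 10 (S 2) * xr 9 (T 1)) * (xr 11 (S 3) * xr 10 (T 2)) *
          xr 11 (T 3) := by rw [← c98, ← c109, ← c1110]
    _ = xr 8 (S 0) * xr 9 (S 1) * (xr 8 (T 0) * xr 10 (S 2)) * (xr 9 (T 1) * xr 11 (S 3)) * xr 10 (T 2) *
          xr 11 (T 3) := by group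
    _ = xr 8 (S 0) * xr 9 (S 1) * (xr 10 (S 2) * xr 8 (T 0)) * (xr 11 (S 3) * xr 9 (T 1)) * xr 10 (T 2) *
          xr 11 (T 3) := by rw [← c108, ← c119]
    _ = xr 8 (S 0) * xr 9 (S 1) * xr 10 (S 2) * (xr 8 (T 0) * xr 11 (S 3)) * xr 9 (T 1) * xr 10 (T 2) *
          xr 11 (T 3) := by group
    _ = xr 8 (S 0) * xr 9 (S 1) * xr 10 (S 2) * (xr 11 (S 3) * xr 8 (T 0)) * xr 9 (T 1) * xr 10 (T 2) *
          xr 11 (T 3) := by rw [← c118]
    _ = _ := by group

variable (ρ : Representation ℂ (GG F) (Fin k → ℂ))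

/-- A multiplicity. -/
noncomputable def N (a b c d : F) : ℕ := M ρ a4 ![a, b, c, d]

theorem N_eq (c : Fin 4 → F) : M ρ a4 c = N ρ (c 0) (c 1) (c 2) (c 3) := by
  rw [N]
  congr 1
  funext i
  fin_cases i <;> rfl

theorem N_move (x : GG F) (L : (Fin 4 → F) → (Fin 4 → F)) (hadd : ∀ S T, L (S + T) = L S + L T)
    (hinj : Function.Injective L) (hx : ∀ S, x * a4 S = a4 (L S) * x) (a b c d a' b' c' d' : F)
    (h : ∀ S : Fin 4 → F, a' * L S 0 + b' * L S 1 + c' * L S 2 + d' * L S 3 =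
      a * S 0 + b * S 1 + c * S 2 + d * S 3) :
    N ρ a b c d = N ρ a' b' c' d' :=
  M_subst ρ a4 a4_add x L hadd hinj hx _ _ fun S => by simpa [Fin.sum_univ_four] using h S

theorem N_shift7 (t a b c d : F) : N ρ (a + t * b) b c d = N ρ a b c d := by
  refine N_move ρ (xr 7 t) (fun x => ![x 0, x 1 + t * x 0, x 2, x 3])
    (fun S T => by funext i; fin_cases i <;> simp <;> ring)
    (fun S T h => by
      have h0 : S 0 = T 0 := congrFun h 0
      have h1 : S 1 + t * S 0 = T 1 + t * T 0 := congrFun h 1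
      funext i; fin_cases i
      · exact h0
      · show S 1 = T 1; linear_combination h1 - t * h0
      · exact congrFun h 2
      · exact congrFun h 3)
    (fun S => ?_) _ _ _ _ _ _ _ _ (fun S => by simp; ring)
  have c710 : xr 7 t * xr 10 (S 2) = xr 10 (S 2) * xr 7 t := comm_xr 7 10 (by decide) (by decide +kernel) _ _
  have c711 : xr 7 t * xr 11 (S 3) = xr 11 (S 3) * xr 7 t := comm_xr 7 11 (by decide) (by decide +kernel) _ _
  simp only [a4, Matrix.cons_val_zero, Matrix.cons_val_one, Matrix.cons_val]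
  calc xr 7 t * (xr 8 (S 0) * xr 9 (S 1) * xr 10 (S 2) * xr 11 (S 3))
      = xr 7 t * xr 8 (S 0) * xr 9 (S 1) * xr 10 (S 2) * xr 11 (S 3) := by group
    _ = xr 8 (S 0) * xr 9 (t * S 0) * (xr 7 t * xr 9 (S 1)) * xr 10 (S 2) * xr 11 (S 3) := by
        rw [x78_eq]; group
    _ = xr 8 (S 0) * (xr 9 (t * S 0) * xr 9 (S 1)) * (xr 7 t * xr 10 (S 2)) * xr 11 (S 3) := by
        rw [x79_comm]; group
    _ = xr 8 (S 0) * xr 9 (S 1 + t * S 0) * xr 10 (S 2) * (xr 7 t * xr 11 (S 3)) := by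
        rw [c710, ← xr_add, add_comm (t * S 0)]; group
    _ = _ := by rw [c711]; group

theorem N_shift6 (s a b c d : F) : N ρ a b (c + s * d) d = N ρ a b c d := by
  refine N_move ρ (xr 6 s) (fun x => ![x 0, x 1, x 2, x 3 + s * x 2])
    (fun S T => by funext i; fin_cases i <;> simp <;> ring)
    (fun S T h => by
      have h2 : S 2 = T 2 := congrFun h 2
      have h3 : S 3 + s * S 2 = T 3 + s * T 2 := congrFun h 3
      funext i; fin_cases i
      · exact congrFun h 0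
      · exact congrFun h 1
      · exact h2
      · show S 3 = T 3; linear_combination h3 - s * h2)
    (fun S => ?_) _ _ _ _ _ _ _ _ (fun S => by simp; ring)
  have c68 : xr 6 s * xr 8 (S 0) = xr 8 (S 0) * xr 6 s := comm_xr 6 8 (by decide) (by decide +kernel) _ _
  have c69 : xr 6 s * xr 9 (S 1) = xr 9 (S 1) * xr 6 s := comm_xr 6 9 (by decide) (by decide +kernel) _ _
  have c611 : xr 6 s * xr 11 (S 3) = xr 11 (S 3) * xr 6 s := comm_xr 6 11 (by decide) (by decide +kernel) _ _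
  simp only [a4, Matrix.cons_val_zero, Matrix.cons_val_one, Matrix.cons_val]
  calc xr 6 s * (xr 8 (S 0) * xr 9 (S 1) * xr 10 (S 2) * xr 11 (S 3))
      = xr 6 s * xr 8 (S 0) * xr 9 (S 1) * xr 10 (S 2) * xr 11 (S 3) := by group
    _ = xr 8 (S 0) * (xr 6 s * xr 9 (S 1)) * xr 10 (S 2) * xr 11 (S 3) := by rw [c68]; group
    _ = xr 8 (S 0) * xr 9 (S 1) * (xr 6 s * xr 10 (S 2)) * xr 11 (S 3) := by rw [c69]; group
    _ = xr 8 (S 0) * xr 9 (S 1) * xr 10 (S 2) * xr 11 (s * S 2) * (xr 6 s * xr 11 (S 3)) := by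
        rw [x6_x10]; group
    _ = xr 8 (S 0) * xr 9 (S 1) * xr 10 (S 2) * (xr 11 (s * S 2) * xr 11 (S 3)) * xr 6 s := by
        rw [c611]; group
    _ = _ := by rw [← xr_add, add_comm (s * S 2)]

theorem N_torus (u v : Fˣ) (a b c d : F) :
    N ρ ((wt u v 8 : F) * a) ((wt u v 9 : F) * b) ((wt u v 10 : F) * c) ((wt u v 11 : F) * d) =
      N ρ a b c d := by
  refine N_move ρ (tor u v) (fun x => ![(wt u v 8 : F) * x 0, (wt u v 9 : F) * x 1,
      (wt u v 10 : F) * x 2, (wt u v 11 : F) * x 3])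
    (fun S T => by funext i; fin_cases i <;> simp <;> ring)
    (fun S T h => by
      funext i; fin_cases i
      · exact mul_left_cancel₀ (Units.ne_zero _) (congrFun h 0)
      · exact mul_left_cancel₀ (Units.ne_zero _) (congrFun h 1)
      · exact mul_left_cancel₀ (Units.ne_zero _) (congrFun h 2)
      · exact mul_left_cancel₀ (Units.ne_zero _) (congrFun h 3))
    (fun S => ?_) _ _ _ _ _ _ _ _ (fun S => by simp; ring)
  simp only [a4, Matrix.cons_val_zero, Matrix.cons_val_one, Matrix.cons_val]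
  simp only [← mul_assoc]
  rw [tor_xr, mul_assoc (xr 8 _), tor_xr, ← mul_assoc, mul_assoc (xr 8 _ * xr 9 _), tor_xr, ← mul_assoc,
    mul_assoc (xr 8 _ * xr 9 _ * xr 10 _), tor_xr, ← mul_assoc]

open Classical in
/-- The sum over the first coordinate. -/
theorem M3_from_N (b c d : F) : M3 ρ b c d = ∑ a : F, N ρ a b c d := by
  let ι : (Fin 3 → F) →+ (Fin 4 → F) := AddMonoidHom.mk' (fun x => ![0, x 0, x 1, x 2])
    fun S T => by funext i; fin_cases i <;> simp
  have h := mult_chv ρ a4 a4_add ι (chv ![b, c, d]) (fun e => e 1 = b ∧ e 2 = c ∧ e 3 = d) (fun e => by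
    have h' : (chv e).compAddMonoidHom ι = chv ![e 1, e 2, e 3] := by
      ext x; simp [ι, chv_apply, Fin.sum_univ_three, Fin.sum_univ_four]
    rw [h', chv_injective.eq_iff, funext_iff, Fin.forall_fin_succ, Fin.forall_fin_two]
    rfl)
  have e : a4 ∘ ι = (g3 : (Fin 3 → F) → GG F) := by
    funext x
    simp [ι, a4, g3, xr_zero]
  rw [e] at h
  refine h.trans ?_
  refine Finset.sum_bij' (fun e _ => e 0) (fun a _ => ![a, b, c, d]) (fun e _ => Finset.mem_univ _)
    (fun a _ => by simp) (fun e he => by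
      rw [Finset.mem_filter] at he
      funext i; fin_cases i
      · rfl
      · exact he.2.1.symm
      · exact he.2.2.1.symm
      · exact he.2.2.2.symm) (fun a _ => rfl) (fun e he => by
      rw [Finset.mem_filter] at he
      rw [N_eq, he.2.1, he.2.2.1, he.2.2.2])

/-- The generic multiplicity. -/
noncomputable def mm : ℕ := N ρ 0 1 0 1

/-- The multiplicity of the characters of the short root 2a+b alone. -/
noncomputable def nn : ℕ := N ρ 0 1 0 0

/-- The multiplicity of the characters trivial on 2a+b. -/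
noncomputable def beta : ℕ := M3 ρ 0 0 1

theorem N_zero_first (a : F) {b : F} (hb : b ≠ 0) (c d : F) : N ρ a b c d = N ρ 0 b c d := by
  have h := N_shift7 ρ (a / b) 0 b c d
  rw [zero_add, div_mul_cancel₀ a hb] at h
  exact h

theorem M3_top {b : F} (hb : b ≠ 0) (c d : F) : M3 ρ b c d = Fintype.card F * N ρ 0 b c d := by
  rw [M3_from_N, Finset.sum_congr rfl fun a _ => N_zero_first ρ a hb c d, Finset.sum_const, Finset.card_univ,
    smul_eq_mul]

theorem M3_gen {b : F} (hb : b ≠ 0) {c d : F} (h : c ≠ 0 ∨ d ≠ 0) :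
    M3 ρ b c d = Fintype.card F * mm ρ := by
  rw [mm, ← M3_top ρ one_ne_zero]
  have key : ∀ b c d : F, b ≠ 0 → d ≠ 0 → M3 ρ b c d = M3 ρ 1 0 1 := fun b c d hb hd => by
    have h2 := shift6 ρ (c / d) b 0 d
    rw [zero_add, div_mul_cancel₀ c hd] at h2
    have h4 := torus3 ρ (Units.mk0 (b ^ 2 / d) (div_ne_zero (pow_ne_zero _ hb) hd))
      (Units.mk0 (d ^ 2 / b ^ 3) (div_ne_zero (pow_ne_zero _ hd) (pow_ne_zero _ hb))) 1 0 1
    have hw : (wt (Units.mk0 (b ^ 2 / d) (div_ne_zero (pow_ne_zero _ hb) hd))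
        (Units.mk0 (d ^ 2 / b ^ 3) (div_ne_zero (pow_ne_zero _ hd) (pow_ne_zero _ hb))) 9 : F) = b ∧
        (wt (Units.mk0 (b ^ 2 / d) (div_ne_zero (pow_ne_zero _ hb) hd))
        (Units.mk0 (d ^ 2 / b ^ 3) (div_ne_zero (pow_ne_zero _ hd) (pow_ne_zero _ hb))) 11 : F) = d := by
      constructor <;> · simp [wt]; field_simp
    rw [mul_zero, mul_one, mul_one, hw.1, hw.2] at h4
    rw [h2, h4]
  rcases eq_or_ne d 0 with rfl | hd
  · have hc : c ≠ 0 := h.resolve_right (by simp)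
    obtain ⟨e₀, e₁, e₂, he0, -, he2, he⟩ := weyl3 ρ
    rw [← he b c 0]
    exact key _ _ _ (mul_ne_zero he0 hb) (mul_ne_zero he2 hc)
  · exact key b c d hb hd

theorem M3_short {b : F} (hb : b ≠ 0) : M3 ρ b 0 0 = Fintype.card F * nn ρ := by
  rw [nn, ← M3_top ρ one_ne_zero]
  have h := torus3 ρ 1 (Units.mk0 b hb) 1 0 0
  rw [mul_zero, mul_zero, mul_one] at h
  simpa [wt] using h

theorem M3_long {c d : F} (h : c ≠ 0 ∨ d ≠ 0) : M3 ρ 0 c d = beta ρ := by
  have key : ∀ c d : F, d ≠ 0 → M3 ρ 0 c d = beta ρ := fun c d hd => by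
    have h2 := shift6 ρ (c / d) 0 0 d
    rw [zero_add, div_mul_cancel₀ c hd] at h2
    have h4 := torus3 ρ (Units.mk0 d hd) (Units.mk0 d hd)⁻¹ 0 0 1
    have hw : (wt (Units.mk0 d hd) (Units.mk0 d hd)⁻¹ 11 : F) = d := by
      simp [wt]; field_simp
    rw [mul_zero, mul_zero, mul_one, hw] at h4
    rw [h2, h4, beta]
  rcases eq_or_ne d 0 with rfl | hd
  · have hc : c ≠ 0 := h.resolve_right (by simp)
    obtain ⟨e₀, e₁, e₂, -, -, he2, he⟩ := weyl3 ρ
    rw [← he 0 c 0, mul_zero]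
    exact key _ _ (mul_ne_zero he2 hc)
  · exact key c d hd

theorem N_gen (a : F) {b : F} (hb : b ≠ 0) {c d : F} (h : c ≠ 0 ∨ d ≠ 0) : N ρ a b c d = mm ρ := by
  rw [N_zero_first ρ a hb]
  exact Nat.eq_of_mul_eq_mul_left Fintype.card_pos ((M3_top ρ hb c d).symm.trans (M3_gen ρ hb h))

theorem N_short (a : F) {b : F} (hb : b ≠ 0) : N ρ a b 0 0 = nn ρ := by
  rw [N_zero_first ρ a hb]
  exact Nat.eq_of_mul_eq_mul_left Fintype.card_pos ((M3_top ρ hb 0 0).symm.trans (M3_short ρ hb))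

/-- The fixed space of the four roots. -/
noncomputable def F8 : ℕ := N ρ 0 0 0 0

/-- The weights of the short root a+b inside the fixed space of the other three. -/
noncomputable def P8 (a : F) : ℕ := N ρ a 0 0 0

theorem degree_three : k = (Fintype.card F - 1) * ((Fintype.card F ^ 2 - 1) * (Fintype.card F * mm ρ)) +
    (Fintype.card F - 1) * (Fintype.card F * nn ρ) + (Fintype.card F ^ 2 - 1) * beta ρ + M3 ρ 0 0 0 := by
  classical
  have h2 : ∀ b : F, ∑ p : F × F, M3 ρ b p.1 p.2 =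
      M3 ρ b 0 0 + ∑ p ∈ Finset.univ.erase ((0 : F), (0 : F)), M3 ρ b p.1 p.2 := fun b => by
    rw [← Finset.add_sum_erase (Finset.univ : Finset (F × F)) (fun p : F × F => M3 ρ b p.1 p.2)
      (Finset.mem_univ ((0 : F), (0 : F)))]
  have hne : ∀ p ∈ Finset.univ.erase ((0 : F), (0 : F)), p.1 ≠ 0 ∨ p.2 ≠ 0 := fun p hp =>
    not_and_or.1 fun h => (Finset.mem_erase.1 hp).1 (Prod.ext h.1 h.2)
  have hcard : (Finset.univ.erase ((0 : F), (0 : F))).card = Fintype.card F ^ 2 - 1 := by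
    rw [Finset.card_erase_of_mem (Finset.mem_univ _), Finset.card_univ, Fintype.card_prod, pow_two]
  have hk : k = ∑ b : F, ∑ p : F × F, M3 ρ b p.1 p.2 := by
    rw [← Fintype.sum_prod_type' (fun (b : F) (p : F × F) => M3 ρ b p.1 p.2)]
    refine Eq.trans (sum_M ρ g3 g3_add).symm ?_
    refine Fintype.sum_equiv
      { toFun := fun c => (c 0, c 1, c 2)
        invFun := fun p => ![p.1, p.2.1, p.2.2]
        left_inv := fun c => by funext i; fin_cases i <;> rfl
        right_inv := fun p => rfl } _ _ fun c => ?_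
    rw [M3_eq]
    rfl
  rw [Finset.sum_congr rfl fun b _ => h2 b, Finset.sum_add_distrib] at hk
  rw [← Finset.add_sum_erase (Finset.univ : Finset F) (fun b => ∑ p ∈ Finset.univ.erase ((0 : F), (0 : F)),
    M3 ρ b p.1 p.2) (Finset.mem_univ (0 : F)), ← Finset.add_sum_erase (Finset.univ : Finset F)
    (fun b => M3 ρ b 0 0) (Finset.mem_univ (0 : F))] at hk
  rw [Finset.sum_congr rfl fun p hp => M3_long ρ (hne p hp),
    Finset.sum_congr rfl fun b hb => M3_short ρ (Finset.mem_erase.1 hb).1,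
    Finset.sum_congr rfl (f := fun b => ∑ p ∈ Finset.univ.erase ((0 : F), (0 : F)), M3 ρ b p.1 p.2)
      (g := fun _ => (Fintype.card F ^ 2 - 1) * (Fintype.card F * mm ρ)) (fun b hb => by
      rw [Finset.sum_congr rfl fun p hp => M3_gen ρ (Finset.mem_erase.1 hb).1 (hne p hp), Finset.sum_const,
        smul_eq_mul, hcard]),
    Finset.sum_const, Finset.sum_const, Finset.sum_const, Finset.card_erase_of_mem (Finset.mem_univ _),
    Finset.card_univ, smul_eq_mul, smul_eq_mul, smul_eq_mul, hcard] at hk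
  clear h2 hne hcard
  omega

end CfsgLib.G2Deg
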