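import Mathlib
import Cfsg.Agent.Lib.G2Deg.Weights

/-! The representation of a normaliser on an eigenspace of an abelian subgroup. -/

set_option autoImplicit false

namespace CfsgLib.G2Deg

open CfsgLib.RadicalBound CfsgLib.OrthDeg

variable {G : Type*} [Group G] {A : Type*} [AddCommGroup A] [Fintype A] {k : ℕ}
  (f : A → G) (ρ : Representation ℂ G (Fin k → ℂ)) (hf : ∀ S T, f (S + T) = f S * f T)

/-- The dimension of the fixed space. -/
noncomputable def fixDim : ℕ := mult f ρ 1

/-- The elements commuting with the projection to the fixed space. -/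
def stab : Submonoid G where
  carrier := {g | ρ g * proj f ρ 1 = proj f ρ 1 * ρ g}
  one_mem' := show ρ 1 * _ = _ * ρ 1 by rw [map_one, one_mul, mul_one]
  mul_mem' {a b} ha hb := show ρ (a * b) * _ = _ * ρ (a * b) by
    rw [map_mul, mul_assoc, hb, ← mul_assoc, ha, mul_assoc]

/-- The new group. -/
abbrev SubG := (Module.End ℂ (Fin (fixDim f ρ) → ℂ))ˣ

/-- The new representation. -/
noncomputable def subRep : Representation ℂ (SubG f ρ) (Fin (fixDim f ρ) → ℂ) := Units.coeHom _

/-- Coordinates on the fixed space. -/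
noncomputable def coord : LinearMap.range (proj f ρ 1) ≃ₗ[ℂ] (Fin (fixDim f ρ) → ℂ) :=
  (Module.finBasis ℂ _).equivFun

/-- The vector of the fixed space with given coordinates. -/
noncomputable def emb : (Fin (fixDim f ρ) → ℂ) →ₗ[ℂ] (Fin k → ℂ) :=
  (LinearMap.range (proj f ρ 1)).subtype.comp (coord f ρ).symm.toLinearMap

theorem emb_injective : Function.Injective (emb f ρ) :=
  Subtype.val_injective.comp (coord f ρ).symm.injective

theorem range_emb : LinearMap.range (emb f ρ) = LinearMap.range (proj f ρ 1) := by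
  rw [emb, LinearMap.range_comp, LinearEquiv.range, Submodule.map_top, Submodule.range_subtype]

include hf in
theorem mem_fix_iff (v : Fin k → ℂ) :
    v ∈ LinearMap.range (proj f ρ 1) ↔ ∀ S, ρ (f S) v = v := by
  rw [mem_range_iff f ρ hf]
  exact forall_congr' fun S => by rw [AddChar.one_apply, one_smul]

include hf in
theorem emb_fix (w : Fin (fixDim f ρ) → ℂ) (S : A) : ρ (f S) (emb f ρ w) = emb f ρ w :=
  (mem_fix_iff f ρ hf _).1 (range_emb f ρ ▸ LinearMap.mem_range_self _ w) S

theorem mem_range_of_stab {g : G} (hg : g ∈ stab f ρ) (x : LinearMap.range (proj f ρ 1)) :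
    ρ g x ∈ LinearMap.range (proj f ρ 1) := by
  obtain ⟨w, hw⟩ := x.2
  exact ⟨ρ g w, by rw [← hw, ← Module.End.mul_apply, ← Module.End.mul_apply, hg]⟩

/-- The operator of an element. -/
noncomputable def opS (g : stab f ρ) : Module.End ℂ (Fin (fixDim f ρ) → ℂ) :=
  (coord f ρ).conj ((ρ g.1).restrict fun x hx => mem_range_of_stab f ρ g.2 ⟨x, hx⟩)

theorem emb_opS (g : stab f ρ) (w : Fin (fixDim f ρ) → ℂ) : emb f ρ (opS f ρ g w) = ρ g.1 (emb f ρ w) := by
  simp only [emb, opS, LinearMap.coe_comp, LinearEquiv.coe_coe, Function.comp_apply, LinearEquiv.conj_apply,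
    Submodule.coe_subtype, LinearEquiv.symm_apply_apply, LinearMap.coe_restrict_apply]

theorem opS_mul (g h : stab f ρ) : opS f ρ (g * h) = opS f ρ g * opS f ρ h :=
  LinearMap.ext fun w => emb_injective f ρ (by
    rw [Module.End.mul_apply, emb_opS, emb_opS, emb_opS, Submonoid.coe_mul, map_mul, Module.End.mul_apply])

theorem opS_one : opS f ρ 1 = 1 :=
  LinearMap.ext fun w => emb_injective f ρ (by rw [emb_opS, Submonoid.coe_one, map_one]; rfl)

/-- The operators as a homomorphism. -/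
noncomputable def opHom : stab f ρ →* Module.End ℂ (Fin (fixDim f ρ) → ℂ) where
  toFun := opS f ρ
  map_one' := opS_one f ρ
  map_mul' := opS_mul f ρ

open Classical in
/-- The image of an element in the new group. -/
noncomputable def res (g : G) : SubG f ρ :=
  if h : g ∈ stab f ρ ∧ g⁻¹ ∈ stab f ρ then
    ⟨opHom f ρ ⟨g, h.1⟩, opHom f ρ ⟨g⁻¹, h.2⟩,
      by rw [← map_mul, ← map_one (opHom f ρ)]; exact congrArg _ (Subtype.ext (mul_inv_cancel g)),
      by rw [← map_mul, ← map_one (opHom f ρ)]; exact congrArg _ (Subtype.ext (inv_mul_cancel g))⟩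
  else 1

/-- The elements which can be transported. -/
def stabG : Subgroup G where
  carrier := {g | g ∈ stab f ρ ∧ g⁻¹ ∈ stab f ρ}
  one_mem' := ⟨one_mem _, by rw [inv_one]; exact one_mem _⟩
  mul_mem' {a b} ha hb := ⟨mul_mem ha.1 hb.1, by rw [_root_.mul_inv_rev]; exact mul_mem hb.2 ha.2⟩
  inv_mem' {a} ha := ⟨ha.2, by rw [inv_inv]; exact ha.1⟩

theorem emb_res {g : G} (hg : g ∈ stabG f ρ) (w : Fin (fixDim f ρ) → ℂ) :
    emb f ρ (subRep f ρ (res f ρ g) w) = ρ g (emb f ρ w) := by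
  rw [res, dif_pos (show g ∈ stab f ρ ∧ g⁻¹ ∈ stab f ρ from hg)]
  exact emb_opS f ρ ⟨g, hg.1⟩ w

theorem res_ext {g h : SubG f ρ} (e : ∀ w, emb f ρ (subRep f ρ g w) = emb f ρ (subRep f ρ h w)) : g = h :=
  Units.ext (LinearMap.ext fun w => emb_injective f ρ (e w))

theorem res_mul {g h : G} (hg : g ∈ stabG f ρ) (hh : h ∈ stabG f ρ) :
    res f ρ (g * h) = res f ρ g * res f ρ h :=
  res_ext f ρ fun w => by
    rw [emb_res f ρ (mul_mem hg hh), map_mul, map_mul, Module.End.mul_apply, Module.End.mul_apply,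
      emb_res f ρ hg, emb_res f ρ hh]

include hf in
theorem res_apply {S : A} (hS : f S ∈ stabG f ρ) : res f ρ (f S) = 1 :=
  res_ext f ρ fun w => by rw [emb_res f ρ hS, emb_fix f ρ hf, map_one]; rfl

include hf in
theorem mem_stabG (g : G) (c : A ≃+ A) (hc : ∀ S, g * f S = f (c S) * g) : g ∈ stabG f ρ := by
  refine ⟨proj_comm f ρ hf g c hc 1 fun S => rfl, proj_comm f ρ hf g⁻¹ c.symm (fun S => ?_) 1 fun S => rfl⟩
  have := hc (c.symm S)
  rw [AddEquiv.apply_symm_apply] at this
  rw [eq_mul_inv_iff_mul_eq.2 this.symm]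
  group

include hf in
theorem mem_stabG_of_mem (S : A) : f S ∈ stabG f ρ :=
  mem_stabG f ρ hf (f S) (AddEquiv.refl A) fun T => by rw [← hf, AddEquiv.refl_apply, ← hf, add_comm]

variable {B : Type*} [AddCommGroup B] [Fintype B] (g : B → G) (hg : ∀ b, g b ∈ stabG f ρ)
  (hg' : ∀ S T, res f ρ (g (S + T)) = res f ρ (g S) * res f ρ (g T))

include hg' in
theorem res_hom : ∀ S T, (res f ρ ∘ g) (S + T) = (res f ρ ∘ g) S * (res f ρ ∘ g) T := hg'

include hg hg' hf in
/-- Joint eigenvectors give multiplicities on the fixed space. -/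
theorem sub_pos {χ : AddChar B ℂ} {v : Fin k → ℂ} (hv0 : v ≠ 0) (hvf : ∀ S, ρ (f S) v = v)
    (hv : ∀ b, ρ (g b) v = χ b • v) : 0 < mult (res f ρ ∘ g) (subRep f ρ) χ := by
  obtain ⟨w, rfl⟩ : v ∈ LinearMap.range (emb f ρ) := range_emb f ρ ▸ (mem_fix_iff f ρ hf v).2 hvf
  have hw : w ≠ 0 := fun h => hv0 (by rw [h, map_zero])
  refine mult_pos_of_eigen _ _ hg' hw fun b => emb_injective f ρ ?_
  rw [Function.comp_apply, emb_res f ρ (hg b), hv, map_smul]

include hg hg' hf in
theorem sub_eigen {χ : AddChar B ℂ} (h : mult (res f ρ ∘ g) (subRep f ρ) χ ≠ 0) :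
    ∃ v : Fin k → ℂ, v ≠ 0 ∧ (∀ S, ρ (f S) v = v) ∧ ∀ b, ρ (g b) v = χ b • v := by
  obtain ⟨w, hw0, hw⟩ := exists_eigen _ _ hg' h
  refine ⟨emb f ρ w, fun h0 => hw0 (emb_injective f ρ (by rw [h0, map_zero])), emb_fix f ρ hf w, fun b => ?_⟩
  rw [← emb_res f ρ (hg b), ← map_smul]
  exact congrArg _ (hw b)

include hg hg' hf in
/-- Multiplicities of a larger group whose characters are trivial on the first one. -/
theorem sub_mult {C : Type*} [AddCommGroup C] [Fintype C] (e : C → G) (he : ∀ S T, e (S + T) = e S * e T)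
    (χ : AddChar C ℂ) (ι : B →+ C) (χ' : AddChar B ℂ) (hι : χ.compAddMonoidHom ι = χ')
    (hge : ∀ b, e (ι b) = g b) (κ : A →+ C) (hκ : ∀ S, e (κ S) = f S) (hχ : χ.compAddMonoidHom κ = 1)
    (hgen : ∀ c, ∃ b S, c = ι b + κ S) :
    mult (res f ρ ∘ g) (subRep f ρ) χ' = mult e ρ χ := by
  have key : Submodule.map (emb f ρ) (LinearMap.range (proj (res f ρ ∘ g) (subRep f ρ) χ')) =
      LinearMap.range (proj e ρ χ) := by
    ext v
    constructor
    · rintro ⟨w, hw, rfl⟩
      rw [SetLike.mem_coe, mem_range_iff _ _ hg'] at hw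
      rw [mem_range_iff e ρ he]
      intro c
      obtain ⟨b, S, rfl⟩ := hgen c
      rw [he, map_mul, Module.End.mul_apply, hκ, emb_fix f ρ hf, hge, ← emb_res f ρ (hg b),
        show subRep f ρ (res f ρ (g b)) w = χ' b • w from hw b, map_smul, AddChar.map_add_eq_mul,
        show χ (κ S) = 1 from DFunLike.congr_fun hχ S, mul_one, ← hι]
      rfl
    · intro hv
      rw [mem_range_iff e ρ he] at hv
      obtain ⟨w, rfl⟩ : v ∈ LinearMap.range (emb f ρ) := range_emb f ρ ▸ (mem_fix_iff f ρ hf v).2 fun S => by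
        rw [← hκ, hv, show χ (κ S) = 1 from DFunLike.congr_fun hχ S, one_smul]
      refine ⟨w, ?_, rfl⟩
      rw [SetLike.mem_coe, mem_range_iff _ _ hg']
      intro b
      refine emb_injective f ρ ?_
      rw [Function.comp_apply, emb_res f ρ (hg b), ← hge, hv, map_smul, ← hι]
      rfl
  rw [mult, mult, ← key]
  exact LinearEquiv.finrank_eq (Submodule.equivMapOfInjective _ (emb_injective f ρ) _)

end CfsgLib.G2Deg
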