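import Cfsg.Agent.Lib.G2Deg.Rels
import Cfsg.Agent.Lib.G2Deg.Sub
import Cfsg.Agent.Lib.CharTheory.Degree
import Cfsg.Agent.Lib.AltSection.G2
import Cfsg.Agent.S1055

/-! Generalities on representations of the group of type G2. -/

set_option autoImplicit false
set_option linter.unusedSectionVars false
set_option linter.style.haveILetI false

namespace CfsgLib.G2Deg

open CfsgLib.RadicalBound CfsgLib.OrthDeg

variable {F : Type*} [Field F] [Fintype F] {k : ℕ}

/-- A field with more than two elements has a third element. -/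
theorem exists_third (hq : 2 < Fintype.card F) : ∃ a : F, a ≠ 0 ∧ a ≠ 1 := by
  classical
  obtain ⟨a, -, ha⟩ := Finset.exists_mem_notMem_of_card_lt_card (s := ({0, 1} : Finset F)) (t := Finset.univ)
    (by rw [Finset.card_univ]; exact lt_of_le_of_lt Finset.card_le_two hq)
  simp only [Finset.mem_insert, Finset.mem_singleton, not_or] at ha
  exact ⟨a, ha.1, ha.2⟩

/-- An element outside 0, 1 as a unit. -/
theorem exists_unit_ne_one (hq : 2 < Fintype.card F) : ∃ a : Fˣ, a ≠ 1 := by
  obtain ⟨a, h0, h1⟩ := exists_third hq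
  exact ⟨Units.mk0 a h0, fun h => h1 (by simpa using congrArg Units.val h)⟩

/-- An irreducible representation of degree at least two of the simple group is faithful. -/
theorem faithful (hq : 2 < Fintype.card F) (ρ : Representation ℂ (GG F) (Fin k → ℂ))
    (hρ : ρ.IsIrreducible) (hk : 2 ≤ k) {g : GG F} (hg : ρ g = 1) : g = 1 := by
  haveI := (Cfsg.Agent.S1055.result (exists_third hq)).1
  rcases IsSimpleGroup.eq_bot_or_eq_top_of_normal (MonoidHom.ker ρ) inferInstance with h | h
  · rw [← Subgroup.mem_bot, ← h]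
    exact hg
  · exfalso
    have hall : ∀ x, ρ x = 1 := fun x => MonoidHom.mem_ker.1 (h ▸ Subgroup.mem_top x)
    haveI := hρ
    have h1 := CfsgLib.CharTheory.degree_dvd_index_of_scalar ρ ⊤ fun z _ => ⟨1, by rw [hall, one_smul]; rfl⟩
    rw [Subgroup.index_top, Module.finrank_fintype_fun_eq_card, Fintype.card_fin] at h1
    have := Nat.le_of_dvd one_pos h1
    omega

/-- The degree divides the order of the group. -/
theorem dvd_order (ρ : Representation ℂ (GG F) (Fin k → ℂ)) (hρ : ρ.IsIrreducible) :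
    k ∣ Fintype.card F ^ 6 * ((Fintype.card F ^ 2 - 1) * (Fintype.card F ^ 6 - 1)) := by
  haveI := hρ
  have h1 := CfsgLib.CharTheory.degree_dvd_index_of_scalar ρ ⊥ fun z hz => ⟨1, by
    rw [Subgroup.mem_bot.1 hz, map_one, one_smul]; rfl⟩
  rw [Subgroup.index_bot, Module.finrank_fintype_fun_eq_card, Fintype.card_fin,
    CfsgLib.Chev.G2Alt.card_G, Nat.card_eq_fintype_card] at h1
  exact h1

section Linear

variable {G : Type*} [Group G] {A : Type*} [AddCommGroup A] [Fintype A]
  (f : A → G) (ρ : Representation ℂ G (Fin k → ℂ)) (hf : ∀ S T, f (S + T) = f S * f T)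

include hf in
/-- Without nontrivial characters the subgroup acts trivially. -/
theorem trivial_of_mult (h : ∀ χ : AddChar A ℂ, χ ≠ 1 → mult f ρ χ = 0) (S : A) : ρ (f S) = 1 := by
  classical
  have hp : ∀ χ : AddChar A ℂ, χ ≠ 1 → proj f ρ χ = 0 := fun χ hχ =>
    LinearMap.range_eq_bot.1 (Submodule.finrank_eq_zero.1 (h χ hχ))
  have e1 : proj f ρ 1 = 1 := by
    refine Eq.trans ?_ (sum_proj f ρ hf)
    rw [Finset.sum_eq_single (1 : AddChar A ℂ) (fun χ _ hχ => hp χ hχ) (by simp)]
  rw [rho_eq f ρ hf S, Finset.sum_eq_single (1 : AddChar A ℂ) (fun χ _ hχ => by rw [hp χ hχ, smul_zero])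
    (by simp), AddChar.one_apply, one_smul, e1]

include hf in
/-- A nontrivially acting subgroup has a nontrivial character. -/
theorem exists_mult (S : A) (h : ρ (f S) ≠ 1) : ∃ χ : AddChar A ℂ, χ ≠ 1 ∧ mult f ρ χ ≠ 0 := by
  by_contra hc
  exact h (trivial_of_mult f ρ hf (fun χ hχ => by_contra fun hm => hc ⟨χ, hχ, hm⟩) S)

end Linear

section Coordinates

variable {n : ℕ}

/-- A linear substitution with a left inverse, as an automorphism of the additive group. -/
noncomputable def subst (L : (Fin n → F) →+ (Fin n → F)) (hL : Function.Injective L) :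
    (Fin n → F) ≃+ (Fin n → F) :=
  AddEquiv.ofBijective L (Finite.injective_iff_bijective.1 hL)

theorem subst_apply (L : (Fin n → F) →+ (Fin n → F)) (hL : Function.Injective L) (x : Fin n → F) :
    subst L hL x = L x := rfl

variable {G : Type*} [Group G] (ρ : Representation ℂ G (Fin k → ℂ)) (g : (Fin n → F) → G)
  (hg : ∀ S T, g (S + T) = g S * g T)

include hg in
/-- Invariance of multiplicities under a substitution. -/
theorem M_subst (x : G) (L : (Fin n → F) → (Fin n → F)) (hadd : ∀ S T, L (S + T) = L S + L T)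
    (hinj : Function.Injective L) (hx : ∀ S, x * g S = g (L S) * x)
    (c c' : Fin n → F) (hc : ∀ S, ∑ i, c' i * L S i = ∑ i, c i * S i) : M ρ g c = M ρ g c' :=
  M_conj ρ g hg x (subst (AddMonoidHom.mk' L hadd) hinj) hx c c' fun S => by
    rw [chv_apply, chv_apply]
    exact congrArg _ (hc S)

end Coordinates

/-- An element mapping each root subgroup to another. -/
def Carries (x : GG F) (r s : Fin 12) : Prop := ∃ e : F, e ≠ 0 ∧ ∀ u, x * xr r u = xr s (e * u) * x

theorem carries_nA (r s : Fin 12) (h : sA r = s) : Carries (nA : GG F) r s := h ▸ nA_xr r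

theorem carries_nB (r s : Fin 12) (h : sB r = s) : Carries (nB : GG F) r s := h ▸ nB_xr r

theorem Carries.mul {x y : GG F} {r s t : Fin 12} (hy : Carries y r s) (hx : Carries x s t) :
    Carries (x * y) r t := by
  obtain ⟨e, he, h⟩ := hy
  obtain ⟨e', he', h'⟩ := hx
  exact ⟨e' * e, mul_ne_zero he' he, fun u => by
    rw [mul_assoc, h, ← mul_assoc, h', mul_assoc, mul_assoc e']⟩

theorem Carries.inv {x : GG F} {r s : Fin 12} (hx : Carries x r s) : Carries x⁻¹ s r := by
  obtain ⟨e, he, h⟩ := hx
  refine ⟨e⁻¹, inv_ne_zero he, fun u => ?_⟩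
  have := h (e⁻¹ * u)
  rw [← mul_assoc e, mul_inv_cancel₀ he, one_mul] at this
  rw [eq_mul_inv_iff_mul_eq, mul_assoc, ← this, inv_mul_cancel_left]

/-- The fixed-space subgroup attached to the highest root. -/
theorem mem_stabG11 (ρ : Representation ℂ (GG F) (Fin k → ℂ)) (x : GG F) (hx : Carries x 11 11) :
    x ∈ stabG (xr 11 : F → GG F) ρ := by
  obtain ⟨e, he, h⟩ := hx
  refine mem_stabG (xr 11 : F → GG F) ρ (xr_add 11) x
    { toFun := fun u => e * u
      invFun := fun u => e⁻¹ * u
      left_inv := fun u => by simp [he]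
      right_inv := fun u => by simp [he]
      map_add' := fun u v => mul_add _ _ _ } h

theorem carries_self (r s : Fin 12) (hneg : s.val ≠ Cfsg.Lie.chevG2.neg r.val)
    (h : (Cfsg.Lie.chevG2.commTerms r.val s.val) = []) (u : F) : Carries (xr r u) s s :=
  ⟨1, one_ne_zero, fun v => by rw [one_mul, comm_xr r s hneg h]⟩

theorem carries_tor (a b : Fˣ) (r : Fin 12) : Carries (tor a b : GG F) r r :=
  ⟨_, Units.ne_zero _, tor_xr a b r⟩

end CfsgLib.G2Deg
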