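import Cfsg.Agent.Lib.G2Deg.Basic

/-! Averages over root subgroups. -/

set_option autoImplicit false
set_option linter.unusedSectionVars false

namespace CfsgLib.G2Deg

open CfsgLib.RadicalBound CfsgLib.OrthDeg

variable {F : Type*} [Field F] [Fintype F] {k : ℕ} (ρ : Representation ℂ (GG F) (Fin k → ℂ))

/-- Being fixed by a root subgroup. -/
def Fixed (r : Fin 12) (v : Fin k → ℂ) : Prop := ∀ u : F, ρ (xr r u) v = v

/-- The average over a root subgroup. -/
noncomputable def av (r : Fin 12) : Module.End ℂ (Fin k → ℂ) := proj (xr r : F → GG F) ρ 1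

variable {ρ}

theorem av_fixed (r : Fin 12) (v : Fin k → ℂ) : Fixed ρ r (av ρ r v) := fun u => by
  have h := LinearMap.congr_fun (eig_proj (xr r : F → GG F) (xr_add r) ρ 1 u) v
  rwa [AddChar.one_apply, one_smul, Module.End.mul_apply] at h

theorem av_eq {r : Fin 12} {v : Fin k → ℂ} (h : Fixed ρ r v) : av ρ r v = v := by
  classical
  rw [av, proj_eigen (xr r : F → GG F) ρ 1 1 (fun S => by rw [AddChar.one_apply, one_smul, h S]), if_pos rfl]

theorem av_sum (r : Fin 12) (v : Fin k → ℂ) :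
    av ρ r v = (Fintype.card F : ℂ)⁻¹ • ∑ u : F, ρ (xr r u) v := by
  simp [av, proj]

theorem av_absorb (r : Fin 12) (u : F) (v : Fin k → ℂ) : av ρ r (ρ (xr r u) v) = av ρ r v := by
  rw [av_sum, av_sum]
  congr 1
  refine Fintype.sum_equiv (Equiv.addRight u) _ _ fun s => ?_
  rw [Equiv.coe_addRight, xr_add, map_mul, Module.End.mul_apply]

theorem sum_root (r : Fin 12) (v : Fin k → ℂ) :
    ∑ u : F, ρ (xr r u) v = (Fintype.card F : ℂ) • av ρ r v := by
  rw [av_sum, smul_smul, mul_inv_cancel₀ (Nat.cast_ne_zero.2 Fintype.card_ne_zero), one_smul]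

theorem av_eigen {r : Fin 12} {χ : AddChar F ℂ} (hχ : χ ≠ 1) {v : Fin k → ℂ}
    (h : ∀ u, ρ (xr r u) v = χ u • v) : av ρ r v = 0 := by
  classical
  rw [av, proj_eigen (xr r : F → GG F) ρ 1 χ h, if_neg (Ne.symm hχ)]

theorem carries_av {x : GG F} {r s : Fin 12} (hx : Carries x r s) (v : Fin k → ℂ) :
    ρ x (av ρ r v) = av ρ s (ρ x v) := by
  obtain ⟨e, he, h⟩ := hx
  rw [av_sum, av_sum, map_smul, map_sum]
  congr 1
  refine Fintype.sum_equiv (Equiv.mulLeft₀ e he) _ _ fun u => ?_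
  rw [Equiv.mulLeft₀_apply, ← Module.End.mul_apply, ← map_mul, h, map_mul, Module.End.mul_apply]

theorem carries_fixed {x : GG F} {r s : Fin 12} (hx : Carries x r s) {v : Fin k → ℂ} (h : Fixed ρ r v) :
    Fixed ρ s (ρ x v) := by
  rw [← av_eq h, carries_av hx]
  exact av_fixed s _

theorem fixed_add {r : Fin 12} {v w : Fin k → ℂ} (hv : Fixed ρ r v) (hw : Fixed ρ r w) :
    Fixed ρ r (v + w) := fun u => by rw [map_add, hv u, hw u]

theorem fixed_smul {r : Fin 12} {v : Fin k → ℂ} (c : ℂ) (hv : Fixed ρ r v) : Fixed ρ r (c • v) := fun u => by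
  rw [map_smul, hv u]

theorem fixed_zero (r : Fin 12) : Fixed ρ r (0 : Fin k → ℂ) := fun u => map_zero _

theorem fixed_sum {r : Fin 12} {ι : Type*} (s : Finset ι) (f : ι → Fin k → ℂ) (h : ∀ i ∈ s, Fixed ρ r (f i)) :
    Fixed ρ r (∑ i ∈ s, f i) := fun u => by
  rw [map_sum]; exact Finset.sum_congr rfl fun i hi => h i hi u

theorem fixed_av {r s : Fin 12} (hneg : r.val ≠ Cfsg.Lie.chevG2.neg s.val)
    (h : Cfsg.Lie.chevG2.commTerms s.val r.val = []) {v : Fin k → ℂ} (hv : Fixed ρ r v) :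
    Fixed ρ r (av ρ s v) := by
  rw [av_sum]
  exact fixed_smul _ (fixed_sum _ _ fun u _ => carries_fixed (carries_self s r hneg h u) hv)

variable (ρ)

/-- The average over the two highest roots. -/
noncomputable def pz : Module.End ℂ (Fin k → ℂ) := av ρ 10 * av ρ 11

/-- Being fixed by the two highest roots. -/
def InZ (v : Fin k → ℂ) : Prop := Fixed ρ 10 v ∧ Fixed ρ 11 v

variable {ρ}

theorem av_comm (v : Fin k → ℂ) : av ρ 10 (av ρ 11 v) = av ρ 11 (av ρ 10 v) := by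
  rw [av_sum 10 (av ρ 11 v), Finset.sum_congr rfl fun u _ =>
    carries_av (carries_self 10 11 (by decide) (by decide +kernel) u) v, ← map_sum, ← map_smul, ← av_sum]

theorem pz_mem (v : Fin k → ℂ) : InZ ρ (pz ρ v) := by
  refine ⟨?_, ?_⟩
  · exact av_fixed 10 _
  · exact fixed_av (by decide) (by decide +kernel) (av_fixed 11 v)

theorem pz_eq {v : Fin k → ℂ} (h : InZ ρ v) : pz ρ v = v := by
  rw [pz, Module.End.mul_apply, av_eq h.2, av_eq h.1]

theorem pz_swap {x : GG F} (h1 : Carries x 10 11) (h2 : Carries x 11 10) (v : Fin k → ℂ) :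
    ρ x (pz ρ v) = pz ρ (ρ x v) := by
  rw [pz, Module.End.mul_apply, Module.End.mul_apply, carries_av h1, carries_av h2, av_comm]

theorem pz_keep {x : GG F} (h1 : Carries x 10 10) (h2 : Carries x 11 11) (v : Fin k → ℂ) :
    ρ x (pz ρ v) = pz ρ (ρ x v) := by
  rw [pz, Module.End.mul_apply, Module.End.mul_apply, carries_av h1, carries_av h2]

theorem pz_six (s : F) (v : Fin k → ℂ) : ρ (xr 6 s) (pz ρ v) = pz ρ (ρ (xr 6 s) v) := by
  have h11 : ρ (xr 6 s) (av ρ 11 v) = av ρ 11 (ρ (xr 6 s) v) :=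
    carries_av (carries_self 6 11 (by decide) (by decide +kernel) s) v
  rw [pz, Module.End.mul_apply, Module.End.mul_apply, ← h11, av_sum 10, av_sum 10, map_smul, map_sum]
  congr 1
  refine Finset.sum_congr rfl fun u _ => ?_
  rw [← Module.End.mul_apply, ← map_mul, x6_x10, map_mul, map_mul, Module.End.mul_apply, Module.End.mul_apply,
    h11, av_fixed 11 (ρ (xr 6 s) v) (s * u)]

theorem inZ_six {v : Fin k → ℂ} (h : InZ ρ v) (s : F) : InZ ρ (ρ (xr 6 s) v) := by
  have e := pz_six (ρ := ρ) s v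
  rw [pz_eq h] at e
  rw [e]
  exact pz_mem _

theorem inZ_swap {x : GG F} (h1 : Carries x 10 11) (h2 : Carries x 11 10) {v : Fin k → ℂ} (h : InZ ρ v) :
    InZ ρ (ρ x v) :=
  ⟨carries_fixed h2 h.2, carries_fixed h1 h.1⟩

variable (ρ)

/-- The average over the roots b, 3a+b, 3a+2b. -/
noncomputable def pp : Module.End ℂ (Fin k → ℂ) := av ρ 6 * pz ρ

/-- Being fixed by the roots b, 3a+b, 3a+2b. -/
def InP (v : Fin k → ℂ) : Prop := Fixed ρ 6 v ∧ InZ ρ v

variable {ρ}

theorem pz_av6 (v : Fin k → ℂ) : pz ρ (av ρ 6 v) = av ρ 6 (pz ρ v) := by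
  rw [av_sum, av_sum, map_smul, map_sum]
  congr 1
  exact Finset.sum_congr rfl fun u _ => (pz_six u v).symm

theorem pp_mem (v : Fin k → ℂ) : InP ρ (pp ρ v) :=
  ⟨av_fixed 6 _, by rw [pp, Module.End.mul_apply, ← pz_av6]; exact pz_mem _⟩

theorem pp_eq {v : Fin k → ℂ} (h : InP ρ v) : pp ρ v = v := by
  rw [pp, Module.End.mul_apply, pz_eq h.2, av_eq h.1]

theorem pp_pz (v : Fin k → ℂ) : pp ρ (pz ρ v) = pp ρ v := by
  rw [pp, Module.End.mul_apply, Module.End.mul_apply, pz_eq (pz_mem v)]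

theorem pp_six (s : F) (v : Fin k → ℂ) : pp ρ (ρ (xr 6 s) v) = pp ρ v := by
  rw [pp, Module.End.mul_apply, Module.End.mul_apply, ← pz_six, av_absorb]

theorem pp_inZ {v : Fin k → ℂ} (h : InZ ρ v) : pp ρ v = av ρ 6 v := by
  rw [pp, Module.End.mul_apply, pz_eq h]

theorem pp_keep {x : GG F} (h6 : Carries x 6 6) (h1 : Carries x 10 10) (h2 : Carries x 11 11)
    (v : Fin k → ℂ) : ρ x (pp ρ v) = pp ρ (ρ x v) := by
  rw [pp, Module.End.mul_apply, Module.End.mul_apply, carries_av h6, pz_keep h1 h2]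

/-- Exchanging the order of the averages. -/
theorem pp_flip (v : Fin k → ℂ) : pp ρ v = av ρ 10 (av ρ 6 (av ρ 11 v)) := by
  have h11 : av ρ 6 (av ρ 11 v) = av ρ 11 (av ρ 6 v) := by
    rw [av_sum 6 (av ρ 11 v), Finset.sum_congr rfl fun u _ =>
      carries_av (carries_self 6 11 (by decide) (by decide +kernel) u) v, ← map_sum, ← map_smul, ← av_sum]
  rw [pp, Module.End.mul_apply, ← pz_av6, pz, Module.End.mul_apply, h11]

end CfsgLib.G2Deg
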