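import Cfsg.Agent.Lib.G2Deg.A4
import Cfsg.Agent.Lib.G2Deg.Proj

/-! A Heisenberg commutation bounds a multiplicity from below, in characteristic three. -/

set_option autoImplicit false
set_option linter.unusedSectionVars false
set_option linter.unnecessarySeqFocus false
set_option maxHeartbeats 1000000

namespace CfsgLib.G2Deg

open CfsgLib.RadicalBound CfsgLib.OrthDeg

local notation "ψ" => CfsgLib.SympWeil.ψ

theorem eig_apply {G : Type*} [Group G] {A : Type*} [AddCommGroup A] [Fintype A] {k : ℕ} (f : A → G)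
    (ρ : Representation ℂ G (Fin k → ℂ)) (hf : ∀ S T, f (S + T) = f S * f T) (χ : AddChar A ℂ) (S : A)
    (x : Fin k → ℂ) (z : ℂ) (hz : χ S = z) : ρ (f S) (proj f ρ χ x) = z • proj f ρ χ x := by
  rw [← hz]
  exact LinearMap.congr_fun (eig_proj f hf ρ χ S) x

theorem twist_eq {G : Type*} [Group G] {A : Type*} [AddCommGroup A] [Fintype A] {k : ℕ} (f : A → G)
    (ρ : Representation ℂ G (Fin k → ℂ)) (hf : ∀ S T, f (S + T) = f S * f T) (χ : AddChar A ℂ) (x y : G) (S : A)
    (z : ℂ) (hz : χ S = z) (hx : ρ x * proj f ρ χ = proj f ρ χ * ρ x) (h : x * y = y * f S * x) :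
    ρ x * ρ y * proj f ρ χ = z • (ρ y * ρ x * proj f ρ χ) := by
  refine LinearMap.ext fun w => ?_
  have hxw : ρ x (proj f ρ χ w) = proj f ρ χ (ρ x w) := LinearMap.congr_fun hx w
  rw [← map_mul, h, map_mul, map_mul]
  simp only [Module.End.mul_apply, LinearMap.smul_apply]
  rw [hxw, eig_apply f ρ hf χ S _ z hz, map_smul]

/-- Two operators commuting up to a scalar force a root of unity. -/
theorem pow_eq_one_of_twist {G : Type*} [Group G] {k : ℕ} (ρ : Representation ℂ G (Fin k → ℂ))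
    (P : Module.End ℂ (Fin k → ℂ)) (x y : G) (hx : ρ x * P = P * ρ x) (hy : ρ y * P = P * ρ y) (ζ : ℂ)
    (h : ρ x * ρ y * P = ζ • (ρ y * ρ x * P)) :
    ζ ^ Module.finrank ℂ (LinearMap.range P) = 1 := by
  have inv : ∀ g : G, ρ g * P = P * ρ g → ∀ w ∈ LinearMap.range P, ρ g w ∈ LinearMap.range P := by
    rintro g hg _ ⟨u, rfl⟩
    rw [← Module.End.mul_apply, hg, Module.End.mul_apply]
    exact LinearMap.mem_range_self _ _
  let A := (ρ x).restrict (inv x hx)
  let B := (ρ y).restrict (inv y hy)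
  have e : A * B = ζ • (B * A) := LinearMap.ext fun w => Subtype.ext (by
    obtain ⟨u, hu⟩ := w.2
    show ρ x (ρ y w) = ζ • ρ y (ρ x w)
    rw [← hu]
    exact LinearMap.congr_fun h u)
  have ne : ∀ (g : G) (hg : ρ g * P = P * ρ g), LinearMap.det ((ρ g).restrict (inv g hg)) ≠ 0 := by
    intro g hg h0
    obtain ⟨w, hw, hw0⟩ := Submodule.exists_mem_ne_zero_of_ne_bot
      (LinearMap.bot_lt_ker_of_det_eq_zero h0).ne'
    refine hw0 (Subtype.ext ?_)
    have hz : ρ g (w : Fin k → ℂ) = 0 := congrArg Subtype.val (LinearMap.mem_ker.1 hw)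
    have := congrArg (ρ g⁻¹) hz
    rwa [← Module.End.mul_apply, ← map_mul, inv_mul_cancel, map_one, map_zero] at this
  have hd := congrArg LinearMap.det e
  rw [LinearMap.det_smul, map_mul, map_mul, mul_comm (LinearMap.det A)] at hd
  exact (mul_eq_right₀ (mul_ne_zero (ne y hy) (ne x hx))).1 hd.symm

variable {F : Type*} [Field F] [Fintype F] [CharP F 3] {k : ℕ} (ρ : Representation ℂ (GG F) (Fin k → ℂ))

/-- The abelian group of the roots a, 2a+b, 3a+b, 3a+2b. -/
noncomputable def a7 (x : Fin 4 → F) : GG F := xr 7 (x 0) * xr 9 (x 1) * xr 10 (x 2) * xr 11 (x 3)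

theorem a7_eq (x : Fin 4 → F) : a7 x = xr 7 (x 0) * g3 ![x 1, x 2, x 3] := by
  simp [a7, g3, mul_assoc]

theorem x7_g3 (t : F) (y : Fin 3 → F) : Commute (xr 7 t) (g3 y) := by
  refine Commute.mul_right (Commute.mul_right (x79_comm t _) ?_) ?_
  · exact comm_xr 7 10 (by decide) (by decide +kernel) _ _
  · exact comm_xr 7 11 (by decide) (by decide +kernel) _ _

theorem a7_add (S T : Fin 4 → F) : a7 (S + T) = a7 S * a7 T := by
  rw [a7_eq, a7_eq, a7_eq, Pi.add_apply, xr_add,
    show (![(S + T) 1, (S + T) 2, (S + T) 3] : Fin 3 → F) = ![S 1, S 2, S 3] + ![T 1, T 2, T 3] by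
      funext i; fin_cases i <;> simp,
    g3_add]
  have h := (x7_g3 (T 0) ![S 1, S 2, S 3]).eq
  simp only [mul_assoc]
  rw [← mul_assoc (xr 7 (T 0)), h]
  simp only [mul_assoc]

/-- A weight on a+b and 3a+b of the fixed space occurs with multiplicity at least three. -/
theorem N_three (hq : 3 < Fintype.card F) {s l : F} (hs : s ≠ 0) (hl : l ≠ 0) (hN : 0 < N ρ s 0 l 0) :
    3 ≤ N ρ s 0 l 0 := by
  classical
  obtain ⟨e8, h8, n8⟩ := carries_nB (F := F) 8 7 (by rw [sB_eq]; rfl)
  obtain ⟨e9, h9, n9⟩ := carries_nB (F := F) 9 9 (by rw [sB_eq]; rfl)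
  obtain ⟨e10, h10, n10⟩ := carries_nB (F := F) 10 11 (by rw [sB_eq]; rfl)
  obtain ⟨e11, h11, n11⟩ := carries_nB (F := F) 11 10 (by rw [sB_eq]; rfl)
  set c : Fin 4 → F := ![s / e8, 0, 0, l / e10] with hc
  let σ : (Fin 4 → F) ≃+ (Fin 4 → F) := subst
    (AddMonoidHom.mk' (fun x => ![e8 * x 0, e9 * x 1, e11 * x 3, e10 * x 2])
      fun S T => by funext i; fin_cases i <;> simp <;> ring)
    fun S T h => by
      funext i; fin_cases i
      · exact mul_left_cancel₀ h8 (congrFun h 0)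
      · exact mul_left_cancel₀ h9 (congrFun h 1)
      · exact mul_left_cancel₀ h10 (congrFun h 3)
      · exact mul_left_cancel₀ h11 (congrFun h 2)
  have hd : mult a7 ρ (chv c) = N ρ s 0 l 0 := by
    refine (mult_carry a4 a7 ρ a4_add a7_add σ nB (fun S => ?_) _ (chv c) fun S => ?_).symm
    · show nB * a4 S = a7 ![e8 * S 0, e9 * S 1, e11 * S 3, e10 * S 2] * nB
      have c1110 : xr 11 (e10 * S 2) * xr 10 (e11 * S 3) = xr 10 (e11 * S 3) * xr 11 (e10 * S 2) :=
        comm_xr 11 10 (by decide) (by decide +kernel) _ _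
      simp only [a4, a7, Matrix.cons_val_zero, Matrix.cons_val_one, Matrix.cons_val]
      simp only [← mul_assoc]
      rw [n8, mul_assoc (xr 7 _), n9, ← mul_assoc, mul_assoc (xr 7 _ * xr 9 _), n10, ← mul_assoc,
        mul_assoc (xr 7 _ * xr 9 _ * xr 11 _), n11, ← mul_assoc, mul_assoc (xr 7 _ * xr 9 _) (xr 11 _), c1110,
        ← mul_assoc]
    · rw [chv_apply, chv_apply]
      congr 1
      simp [σ, c, subst, AddEquiv.ofBijective_apply, Fin.sum_univ_four]
      field_simp
  set P := proj a7 ρ (chv c) with hP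
  -- the root -b commutes with the projection
  have h5 : ∀ v : F, ρ (xr 5 v) * P = P * ρ (xr 5 v) := fun v => by
    let L : (Fin 4 → F) →+ (Fin 4 → F) := AddMonoidHom.mk' (fun x => ![x 0, x 1, x 2 + v * x 3, x 3])
      fun S T => by funext i; fin_cases i <;> simp <;> ring
    refine proj_comm a7 ρ a7_add (xr 5 v) (subst L fun S T h => ?_) (fun S => ?_) (chv c) fun S => ?_
    · have h3' : S 3 = T 3 := congrFun h 3
      have h2 : S 2 + v * S 3 = T 2 + v * T 3 := congrFun h 2
      funext i; fin_cases i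
      · exact congrFun h 0
      · exact congrFun h 1
      · show S 2 = T 2; linear_combination h2 - v * h3'
      · exact h3'
    · have c57 : xr 5 v * xr 7 (S 0) = xr 7 (S 0) * xr 5 v := comm_xr 5 7 (by decide) (by decide +kernel) _ _
      have c59 : xr 5 v * xr 9 (S 1) = xr 9 (S 1) * xr 5 v := comm_xr 5 9 (by decide) (by decide +kernel) _ _
      have c510 : xr 5 v * xr 10 (S 2) = xr 10 (S 2) * xr 5 v := comm_xr 5 10 (by decide) (by decide +kernel) _ _
      have c1110 : xr 11 (S 3) * xr 10 (v * S 3) = xr 10 (v * S 3) * xr 11 (S 3) :=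
        comm_xr 11 10 (by decide) (by decide +kernel) _ _
      show xr 5 v * a7 S = a7 ![S 0, S 1, S 2 + v * S 3, S 3] * xr 5 v
      simp only [a7, Matrix.cons_val_zero, Matrix.cons_val_one, Matrix.cons_val]
      simp only [← mul_assoc]
      rw [c57, mul_assoc (xr 7 _), c59, ← mul_assoc, mul_assoc (xr 7 _ * xr 9 _), c510, ← mul_assoc,
        mul_assoc (xr 7 _ * xr 9 _ * xr 10 _), x5_x11, c1110, ← mul_assoc, ← mul_assoc,
        mul_assoc (xr 7 _ * xr 9 _) (xr 10 _), ← xr_add]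
    · rw [chv_apply, chv_apply]
      congr 1
      simp [subst, AddEquiv.ofBijective_apply, L, c, Fin.sum_univ_four]
  have h8c : ∀ u : F, ρ (xr 8 u) * P = P * ρ (xr 8 u) := fun u => by
    let L : (Fin 4 → F) →+ (Fin 4 → F) := AddMonoidHom.mk' (fun x => ![x 0, x 1 + 2 * u * x 0, x 2, x 3])
      fun S T => by funext i; fin_cases i <;> simp <;> ring
    refine proj_comm a7 ρ a7_add (xr 8 u) (subst L fun S T h => ?_) (fun S => ?_) (chv c) fun S => ?_
    · have h0 : S 0 = T 0 := congrFun h 0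
      have h1 : S 1 + 2 * u * S 0 = T 1 + 2 * u * T 0 := congrFun h 1
      funext i; fin_cases i
      · exact h0
      · show S 1 = T 1; linear_combination h1 - 2 * u * h0
      · exact congrFun h 2
      · exact congrFun h 3
    · have c810 : xr 8 u * xr 10 (S 2) = xr 10 (S 2) * xr 8 u := comm_xr 8 10 (by decide) (by decide +kernel) _ _
      have c811 : xr 8 u * xr 11 (S 3) = xr 11 (S 3) * xr 8 u := comm_xr 8 11 (by decide) (by decide +kernel) _ _
      have e87 : xr 8 u * xr 7 (S 0) = xr 7 (S 0) * xr 9 (2 * u * S 0) * xr 8 u := by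
        rw [x8_x7, three_zero]; simp [xr_zero]
      show xr 8 u * a7 S = a7 ![S 0, S 1 + 2 * u * S 0, S 2, S 3] * xr 8 u
      simp only [a7, Matrix.cons_val_zero, Matrix.cons_val_one, Matrix.cons_val]
      simp only [← mul_assoc]
      rw [e87, mul_assoc (xr 7 _ * xr 9 _) (xr 8 _), x89_comm, ← mul_assoc, mul_assoc (xr 7 _) (xr 9 _),
        ← xr_add, add_comm (2 * u * S 0), mul_assoc (xr 7 _ * xr 9 _) (xr 8 _), c810, ← mul_assoc,
        mul_assoc _ (xr 8 u) (xr 11 _), c811, ← mul_assoc]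
    · rw [chv_apply, chv_apply]
      congr 1
      simp [subst, AddEquiv.ofBijective_apply, L, c, Fin.sum_univ_four]
  -- a scalar different from one
  have hs' : s / e8 ≠ 0 := div_ne_zero hs h8
  have hl' : l / e10 ≠ 0 := div_ne_zero hl h10
  obtain ⟨u, hu⟩ : ∃ u : F, s / e8 * u + l / e10 * u ^ 3 ≠ 0 := by
    obtain ⟨a, ha0, ha1⟩ := exists_third (F := F) (by omega)
    by_contra hc
    simp only [not_exists, not_not] at hc
    have e1 := hc 1
    have ea := hc a
    rw [mul_one, one_pow, mul_one] at e1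
    have e : (l / e10 * a) * ((a - 1) * (a + 1)) = 0 := by linear_combination ea - a * e1
    have hb : ∀ b : F, b ≠ 0 → b ≠ 1 → b = -1 := fun b hb0 hb1 => by
      have eb := hc b
      have e : (l / e10 * b) * ((b - 1) * (b + 1)) = 0 := by linear_combination eb - b * e1
      rcases mul_eq_zero.1 ((mul_eq_zero.1 e).resolve_left (mul_ne_zero hl' hb0)) with h | h
      · exact absurd (sub_eq_zero.1 h) hb1
      · exact eq_neg_of_add_eq_zero_left h
    have hsub : (Finset.univ : Finset F) ⊆ ({0, 1, -1} : Finset F) := fun b _ => by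
      by_cases hb0 : b = 0
      · simp [hb0]
      by_cases hb1 : b = 1
      · simp [hb1]
      simp [hb b hb0 hb1]
    have := (Finset.card_le_card hsub).trans Finset.card_le_three
    rw [Finset.card_univ] at this
    omega
  obtain ⟨v, hv⟩ := CfsgLib.SympWeil.ψ_ne hu
  set ζ : ℂ := (ψ : AddChar F ℂ) ((s / e8 * u + l / e10 * u ^ 3) * v) with hζ
  have hζ3 : ζ ^ 3 = 1 := by
    rw [hζ, ← AddChar.map_nsmul_eq_pow, nsmul_eq_mul]
    simp [three_zero]
  set W : Fin 4 → F := ![v * u, -(v * u ^ 2), 2 * v ^ 2 * u ^ 3, v * u ^ 3] with hW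
  have htw : ρ (xr 5 v) * ρ (xr 8 u) * P = ζ • (ρ (xr 8 u) * ρ (xr 5 v) * P) := by
    have e : xr 5 v * xr 8 u = xr 8 u * a7 W * xr 5 v := by
      have c1110 : xr 11 (v * u ^ 3) * xr 10 (2 * v ^ 2 * u ^ 3) = xr 10 (2 * v ^ 2 * u ^ 3) * xr 11 (v * u ^ 3) :=
        comm_xr 11 10 (by decide) (by decide +kernel) _ _
      rw [x5_x8]
      simp only [a7, hW, Matrix.cons_val_zero, Matrix.cons_val_one, Matrix.cons_val]
      simp only [← mul_assoc (xr 8 u)]
      rw [mul_assoc (xr 8 u * xr 7 (v * u) * xr 9 (-(v * u ^ 2))), c1110, ← mul_assoc]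
    have hval : chv c W = ζ := by
      rw [chv_apply, hζ]
      congr 1
      simp [c, hW, Fin.sum_univ_four]
      ring
    exact twist_eq a7 ρ a7_add (chv c) (xr 5 v) (xr 8 u) W ζ hval (h5 v) e
  have hpow := pow_eq_one_of_twist ρ P (xr 5 v) (xr 8 u) (h5 v) (h8c u) ζ htw
  have hfin : Module.finrank ℂ (LinearMap.range P) = N ρ s 0 l 0 := hd
  rw [hfin] at hpow
  haveI := Fact.mk Nat.prime_three
  exact Nat.le_of_dvd hN (orderOf_eq_prime hζ3 hv ▸ orderOf_dvd_of_pow_eq_one hpow)

end CfsgLib.G2Deg
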