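import Cfsg.Agent.Lib.G2Deg.Pairs
import Cfsg.Agent.Lib.G2Deg.Twist3

/-! The degree bound in characteristic three. -/

set_option autoImplicit false
set_option linter.unusedSectionVars false
set_option linter.unnecessarySeqFocus false
set_option maxHeartbeats 1000000

namespace CfsgLib.G2Deg

open CfsgLib.RadicalBound CfsgLib.OrthDeg

local notation "ψ" => CfsgLib.SympWeil.ψ

variable {F : Type*} [Field F] [Fintype F] [CharP F 3] {k : ℕ}

/-- The abelian group of the roots 2a+b, 3a+2b. -/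
noncomputable def ge (x : Fin 2 → F) : GG F := g3 ![x 0, 0, x 1]

theorem ge_add (S T : Fin 2 → F) : ge (S + T) = ge S * ge T := by
  rw [ge, ge, ge, ← g3_add]
  congr 1
  funext i
  fin_cases i <;> simp

variable (ρ : Representation ℂ (GG F) (Fin k → ℂ))

open Classical in
theorem ME_sum (a d : F) : M ρ ge ![a, d] = ∑ c : F, M3 ρ a c d := by
  let ι : (Fin 2 → F) →+ (Fin 3 → F) := AddMonoidHom.mk' (fun x => ![x 0, 0, x 1])
    fun S T => by funext i; fin_cases i <;> simp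
  have h := mult_chv ρ g3 g3_add ι (chv ![a, d]) (fun c => c 0 = a ∧ c 2 = d) (fun c => by
    have e : (chv c).compAddMonoidHom ι = chv ![c 0, c 2] := by
      ext x; simp [ι, chv_apply, Fin.sum_univ_three]
    rw [e, chv_injective.eq_iff, funext_iff, Fin.forall_fin_two]
    rfl)
  rw [show g3 ∘ ι = (ge : (Fin 2 → F) → GG F) from rfl] at h
  refine h.trans ?_
  refine Finset.sum_bij' (fun c _ => c 1) (fun b _ => ![a, b, d]) (fun c _ => Finset.mem_univ _)
    (fun b _ => by simp) (fun c hc => by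
      rw [Finset.mem_filter] at hc
      funext i; fin_cases i
      · exact hc.2.1.symm
      · rfl
      · exact hc.2.2.symm) (fun b _ => rfl) (fun c hc => by
      rw [Finset.mem_filter] at hc
      rw [M3_eq, hc.2.1, hc.2.2])

theorem ME_gen {a d : F} (ha : a ≠ 0) (hd : d ≠ 0) :
    M ρ ge ![a, d] = Fintype.card F * (Fintype.card F * mm ρ) := by
  rw [ME_sum, Finset.sum_congr rfl fun c _ => M3_gen ρ ha (Or.inr hd), Finset.sum_const, Finset.card_univ,
    smul_eq_mul]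

theorem ME_short {a : F} (ha : a ≠ 0) : M ρ ge ![a, 0] =
    Fintype.card F * nn ρ + (Fintype.card F - 1) * (Fintype.card F * mm ρ) := by
  classical
  rw [ME_sum, ← Finset.add_sum_erase _ _ (Finset.mem_univ (0 : F)), M3_short ρ ha,
    Finset.sum_congr rfl fun c hc => M3_gen ρ ha (Or.inl (Finset.mem_erase.1 hc).1), Finset.sum_const,
    Finset.card_erase_of_mem (Finset.mem_univ _), Finset.card_univ, smul_eq_mul]

theorem ME_long {d : F} (hd : d ≠ 0) : M ρ ge ![0, d] = Fintype.card F * beta ρ := by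
  rw [ME_sum, Finset.sum_congr rfl fun c _ => M3_long ρ (Or.inr hd), Finset.sum_const, Finset.card_univ,
    smul_eq_mul]

/-- The transfer by the special endomorphism. -/
structure IsTwin (ρ' : Representation ℂ (GG F) (Fin k → ℂ)) : Prop where
  h7 : ∀ t, ρ' (xr 7 t) = ρ (xr 6 (t ^ 3))
  h8 : ∀ t, ρ' (xr 8 t) = ρ (xr 10 (t ^ 3))
  h9 : ∀ t, ρ' (xr 9 t) = ρ (xr 11 (t ^ 3))
  h10 : ∀ t, ρ' (xr 10 t) = ρ (xr 8 t)
  h11 : ∀ t, ρ' (xr 11 t) = ρ (xr 9 t)

variable {ρ}

theorem exists_twin (hρ : ρ.IsIrreducible) :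
    ∃ ρ' : Representation ℂ (GG F) (Fin k → ℂ), ρ'.IsIrreducible ∧ IsTwin ρ ρ' := by
  obtain ⟨α, hs, -, h7, h8, h9, h10, h11⟩ := exists_special (F := F)
  refine ⟨ρ.comp α, irreducible_comp ρ hρ α hs, ⟨fun t => ?_, fun t => ?_, fun t => ?_, fun t => ?_, fun t => ?_⟩⟩
  · exact congrArg ρ (h7 t)
  · exact congrArg ρ (h8 t)
  · exact congrArg ρ (h9 t)
  · exact congrArg ρ (h10 t)
  · exact congrArg ρ (h11 t)

theorem IsTwin.ge_transfer {ρ' : Representation ℂ (GG F) (Fin k → ℂ)} (h : IsTwin ρ ρ') :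
    ∃ τ : F → F, (∀ c, τ c = 0 ↔ c = 0) ∧ ∀ a b, M ρ ge ![a, b] = M ρ' ge ![τ b, a] := by
  obtain ⟨τ, h0, hτ⟩ := exists_dual (cube F)
  refine ⟨τ, h0, fun a b => ?_⟩
  let σ : (Fin 2 → F) ≃+ (Fin 2 → F) := subst
    (AddMonoidHom.mk' (fun x => ![x 1, cube F (x 0)]) fun S T => by funext i; fin_cases i <;> simp)
    fun S T e => by
      funext i; fin_cases i
      · exact (cube F).injective (congrFun e 1)
      · exact congrFun e 0
  have hσ : ∀ S, σ S = ![S 1, cube F (S 0)] := fun S => by simp only [σ, subst, AddEquiv.ofBijective_apply, AddMonoidHom.mk'_apply]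
  unfold M
  refine (mult_comp ge ge ρ ρ' σ (fun S => ?_) (chv ![τ b, a]) (chv ![a, b]) fun S => ?_).symm
  · rw [hσ, cube_apply]
    have e : ge ![S 1, (S 0) ^ 3] = xr 9 (S 1) * xr 11 ((S 0) ^ 3) := by simp [ge, g3, xr_zero]
    have e' : ge S = xr 9 (S 0) * xr 11 (S 1) := by simp [ge, g3, xr_zero]
    rw [e, e', map_mul, h.h9, h.h11, ← map_mul, comm_xr 11 9 (by decide) (by decide +kernel)]
  · rw [hσ]
    simp only [chv_apply, Fin.sum_univ_two, Matrix.cons_val_zero, Matrix.cons_val_one, AddChar.map_add_eq_mul,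
      hτ]
    rw [mul_comm]

theorem IsTwin.a4_transfer {ρ' : Representation ℂ (GG F) (Fin k → ℂ)} (h : IsTwin ρ ρ') :
    ∃ τ : F → F, (∀ c, τ c = 0 ↔ c = 0) ∧ ∀ a b c d, N ρ a b c d = N ρ' (τ c) (τ d) a b := by
  obtain ⟨τ, h0, hτ⟩ := exists_dual (cube F)
  refine ⟨τ, h0, fun a b c d => ?_⟩
  let σ : (Fin 4 → F) ≃+ (Fin 4 → F) := subst
    (AddMonoidHom.mk' (fun x => ![x 2, x 3, cube F (x 0), cube F (x 1)])
      fun S T => by funext i; fin_cases i <;> simp)
    fun S T e => by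
      funext i; fin_cases i
      · exact (cube F).injective (congrFun e 2)
      · exact (cube F).injective (congrFun e 3)
      · exact congrFun e 0
      · exact congrFun e 1
  have hσ : ∀ S, σ S = ![S 2, S 3, cube F (S 0), cube F (S 1)] := fun S => by
    simp only [σ, subst, AddEquiv.ofBijective_apply, AddMonoidHom.mk'_apply]
  unfold N M
  refine (mult_comp a4 a4 ρ ρ' σ (fun S => ?_) (chv ![τ c, τ d, a, b]) (chv ![a, b, c, d]) fun S => ?_).symm
  · rw [hσ, cube_apply, cube_apply]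
    have c1 : xr 10 ((S 0) ^ 3) * xr 8 (S 2) = xr 8 (S 2) * xr 10 ((S 0) ^ 3) :=
      comm_xr 10 8 (by decide) (by decide +kernel) _ _
    have c2 : xr 11 ((S 1) ^ 3) * xr 8 (S 2) = xr 8 (S 2) * xr 11 ((S 1) ^ 3) :=
      comm_xr 11 8 (by decide) (by decide +kernel) _ _
    have c3 : xr 11 ((S 1) ^ 3) * xr 9 (S 3) = xr 9 (S 3) * xr 11 ((S 1) ^ 3) :=
      comm_xr 11 9 (by decide) (by decide +kernel) _ _
    have c4 : xr 10 ((S 0) ^ 3) * xr 9 (S 3) = xr 9 (S 3) * xr 10 ((S 0) ^ 3) :=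
      comm_xr 10 9 (by decide) (by decide +kernel) _ _
    simp only [a4, map_mul, Matrix.cons_val_zero, Matrix.cons_val_one, Matrix.cons_val, h.h8, h.h9, h.h10, h.h11]
    simp only [← map_mul]
    congr 1
    calc xr 10 (S 0 ^ 3) * xr 11 (S 1 ^ 3) * xr 8 (S 2) * xr 9 (S 3)
        = (xr 10 (S 0 ^ 3) * xr 8 (S 2)) * (xr 11 (S 1 ^ 3) * xr 9 (S 3)) := by
          rw [mul_assoc (xr 10 _) (xr 11 _), c2, ← mul_assoc, mul_assoc (_ * _) (xr 11 _)]
      _ = xr 8 (S 2) * (xr 10 (S 0 ^ 3) * xr 9 (S 3)) * xr 11 (S 1 ^ 3) := by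
          rw [c1, c3]; simp only [mul_assoc]
      _ = _ := by rw [c4, ← mul_assoc]
  · rw [hσ]
    simp only [chv_apply, Fin.sum_univ_four, Matrix.cons_val_zero, Matrix.cons_val_one, Matrix.cons_val,
      AddChar.map_add_eq_mul, hτ]
    ring

theorem IsTwin.equations {ρ' : Representation ℂ (GG F) (Fin k → ℂ)} (h : IsTwin ρ ρ') :
    mm ρ = mm ρ' ∧ beta ρ = nn ρ' + (Fintype.card F - 1) * mm ρ' := by
  obtain ⟨τ, h0, hτ⟩ := h.ge_transfer
  have hne : ∀ c : F, c ≠ 0 → τ c ≠ 0 := fun c hc => fun e => hc ((h0 c).1 e)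
  have hq : 0 < Fintype.card F := Fintype.card_pos
  refine ⟨?_, ?_⟩
  · have e := hτ 1 1
    rw [ME_gen ρ one_ne_zero one_ne_zero, ME_gen ρ' (hne 1 one_ne_zero) one_ne_zero] at e
    exact Nat.eq_of_mul_eq_mul_left hq (Nat.eq_of_mul_eq_mul_left hq e)
  · have e := hτ 0 1
    rw [ME_long ρ one_ne_zero, ME_short ρ' (hne 1 one_ne_zero)] at e
    refine Nat.eq_of_mul_eq_mul_left hq (e.trans ?_)
    ring

/-- A vanishing generic multiplicity is impossible. -/
theorem mm_pos (hρ : ρ.IsIrreducible) (hk : 2 ≤ k) (hq : 3 < Fintype.card F) : 0 < mm ρ := by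
  classical
  by_contra hm
  have hm0 : mm ρ = 0 := Nat.eq_zero_of_not_pos hm
  obtain ⟨ρ', -, htw⟩ := exists_twin hρ
  have hm' : mm ρ' = 0 := by rw [← htw.equations.1, hm0]
  obtain ⟨τ, hτ0, hτ⟩ := htw.a4_transfer
  have hb : ∀ a b c d : F, d ≠ 0 → N ρ a b c d ≠ 0 → a = 0 ∧ b = 0 := fun a b c d hd hN => by
    have hb0 : b = 0 := by_contra fun hb => hN (by rw [N_gen ρ a hb (Or.inr hd), hm0])
    refine ⟨by_contra fun ha => hN ?_, hb0⟩
    rw [hτ, N_gen ρ' _ (fun e => hd ((hτ0 d).1 e)) (Or.inl ha), hm']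
  -- the root a+b acts trivially away from the fixed space of the highest root
  have fix8 : ∀ (χ : AddChar F ℂ) (v : Fin k → ℂ), χ ≠ 1 → (∀ u, ρ (xr 11 u) v = χ u • v) →
      ∀ u, ρ (xr 8 u) v = v := by
    intro χ v hχ hv u
    have e := LinearMap.congr_fun (sum_proj a4 ρ a4_add) v
    rw [Module.End.one_apply, LinearMap.sum_apply] at e
    conv_rhs => rw [← e]
    conv_lhs => rw [← e, map_sum]
    refine Finset.sum_congr rfl fun χ' _ => ?_
    obtain ⟨c, rfl⟩ := chv_bijective.2 χ'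
    by_cases h0 : proj a4 ρ (chv c) v = 0
    · rw [h0, map_zero]
    have he : ∀ S, ρ (a4 S) (proj a4 ρ (chv c) v) = chv c S • proj a4 ρ (chv c) v := fun S =>
      eig_apply a4 ρ a4_add (chv c) S v (chv c S) rfl
    have hpos := M_pos ρ a4 a4_add h0 he
    rw [N_eq] at hpos
    by_cases hd : c 3 = 0
    · refine absurd (DFunLike.ext _ _ fun w => ?_) hχ
      have e1 := he ![0, 0, 0, w]
      have e11 : a4 ![(0 : F), 0, 0, w] = xr 11 w := by simp [a4, xr_zero]
      have e2 : ρ (xr 11 w) (proj a4 ρ (chv c) v) = χ w • proj a4 ρ (chv c) v := by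
        have h2 := LinearMap.congr_fun (proj_comm a4 ρ a4_add (a4 ![0, 0, 0, w]) (AddEquiv.refl _)
          (fun T => by rw [AddEquiv.refl_apply, ← a4_add, ← a4_add, add_comm]) (chv c) fun T => rfl) v
        rw [Module.End.mul_apply, Module.End.mul_apply, e11, hv, map_smul] at h2
        exact h2
      rw [e11, e2] at e1
      rw [smul_left_injective ℂ h0 e1, chv_apply, AddChar.one_apply]
      simp [Fin.sum_univ_four, hd]
    · have ha := (hb _ _ _ _ hd hpos.ne').1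
      have e1 := he ![u, 0, 0, 0]
      rw [show a4 ![u, (0 : F), 0, 0] = xr 8 u by simp [a4, xr_zero], chv_apply] at e1
      simpa [Fin.sum_univ_four, ha] using e1
  have fix7 : ∀ (χ : AddChar F ℂ) (v : Fin k → ℂ), χ ≠ 1 → (∀ u, ρ (xr 10 u) v = χ u • v) →
      ∀ u, ρ (xr 7 u) v = v := by
    intro χ v hχ hv u
    obtain ⟨e, he, h11⟩ := carries_nB (F := F) 11 10 (by rw [sB_eq]; rfl)
    obtain ⟨e', he', h8⟩ := carries_nB (F := F) 8 7 (by rw [sB_eq]; rfl)
    set z := ρ nB⁻¹ v with hz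
    have hzv : ρ nB z = v := by
      rw [hz, ← Module.End.mul_apply, ← map_mul, mul_inv_cancel, map_one, Module.End.one_apply]
    let χ' : AddChar F ℂ := χ.compAddMonoidHom (AddMonoidHom.mulLeft e)
    have hχ' : χ' ≠ 1 := fun h => hχ (DFunLike.ext _ _ fun w => by
      have := DFunLike.congr_fun h (e⁻¹ * w)
      simpa [χ', AddChar.compAddMonoidHom_apply, he] using this)
    have hinj : Function.Injective (ρ nB) := fun a b hab => by
      have := congrArg (ρ nB⁻¹) hab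
      rwa [← Module.End.mul_apply, ← Module.End.mul_apply, ← map_mul, inv_mul_cancel, map_one] at this
    have hz11 : ∀ w, ρ (xr 11 w) z = χ' w • z := fun w => hinj (by
      rw [← Module.End.mul_apply, ← map_mul, h11, map_mul, Module.End.mul_apply, hzv, hv, map_smul, hzv]
      rfl)
    have h := congrArg (ρ nB) (fix8 χ' z hχ' hz11 (e'⁻¹ * u))
    rw [← Module.End.mul_apply, ← map_mul, h8, ← mul_assoc e', mul_inv_cancel₀ he', one_mul, map_mul,
      Module.End.mul_apply, hzv] at h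
    exact h
  -- a vector
  have hβ : beta ρ ≠ 0 := fun hb0 => by
    refine one_ne_zero (xr_eq_one_iff.1 (faithful (by omega) ρ hρ hk
      (trivial_of_mult (xr 10 : F → GG F) ρ (xr_add 10) (fun χ hχ => ?_) (1 : F))))
    have h := mult_chv ρ g3 g3_add (AddMonoidHom.single (fun _ : Fin 3 => F) 1) χ
      (fun c => (chv c).compAddMonoidHom (AddMonoidHom.single (fun _ : Fin 3 => F) 1) = χ) (fun c => Iff.rfl)
    have e : (g3 : (Fin 3 → F) → GG F) ∘ AddMonoidHom.single (fun _ : Fin 3 => F) 1 = xr 10 := by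
      funext u; simp [g3, xr_zero]
    rw [e] at h
    rw [h]
    refine Finset.sum_eq_zero fun c hc => ?_
    have hc1 : c 1 ≠ 0 := fun h0 => hχ (by
      rw [← (Finset.mem_filter.1 hc).2]
      ext u
      simp [AddChar.compAddMonoidHom_apply, chv_apply, Fin.sum_univ_three, h0])
    rw [M3_eq]
    rcases eq_or_ne (c 0) 0 with h0 | h0
    · rw [h0, M3_long ρ (Or.inl hc1), hb0]
    · rw [M3_gen ρ h0 (Or.inl hc1), hm0, mul_zero]
  obtain ⟨a, ha⟩ : ∃ a, N ρ a 0 1 1 ≠ 0 := by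
    by_contra hc
    simp only [not_exists, not_not] at hc
    exact hβ (by rw [← M3_long ρ (c := 1) (d := 1) (Or.inl one_ne_zero), M3_from_N,
      Finset.sum_eq_zero fun a _ => hc a])
  obtain rfl : a = 0 := (hb a 0 1 1 one_ne_zero ha).1
  obtain ⟨v, hv0, hv⟩ := exists_eigen a4 ρ a4_add ha
  have v8 : ∀ u, ρ (xr 8 u) v = v := fun u => by
    have e := hv ![u, 0, 0, 0]
    rw [show a4 ![u, (0 : F), 0, 0] = xr 8 u by simp [a4, xr_zero], chv_apply] at e
    simpa [Fin.sum_univ_four] using e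
  have v9 : ∀ u, ρ (xr 9 u) v = v := fun u => by
    have e := hv ![0, u, 0, 0]
    rw [show a4 ![(0 : F), u, 0, 0] = xr 9 u by simp [a4, xr_zero], chv_apply] at e
    simpa [Fin.sum_univ_four] using e
  have v10 : ∀ u, ρ (xr 10 u) v = (ψ : AddChar F ℂ) u • v := fun u => by
    have e := hv ![0, 0, u, 0]
    rw [show a4 ![(0 : F), 0, u, 0] = xr 10 u by simp [a4, xr_zero], chv_apply] at e
    simpa [Fin.sum_univ_four] using e
  have v11 : ∀ u, ρ (xr 11 u) v = (ψ : AddChar F ℂ) u • v := fun u => by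
    have e := hv ![0, 0, 0, u]
    rw [show a4 ![(0 : F), 0, 0, u] = xr 11 u by simp [a4, xr_zero], chv_apply] at e
    simpa [Fin.sum_univ_four] using e
  obtain ⟨s, -, hs⟩ := Finset.exists_mem_notMem_of_card_lt_card (s := ({0, 1, -1} : Finset F))
    (t := Finset.univ) (by rw [Finset.card_univ]; exact lt_of_le_of_lt Finset.card_le_three hq)
  simp only [Finset.mem_insert, Finset.mem_singleton, not_or] at hs
  set w := ρ (xr 6 s) v with hw
  have c6 : ∀ (r : Fin 12), r = 8 ∨ r = 9 ∨ r = 11 → ∀ u, xr r u * xr 6 s = xr 6 s * xr r u := by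
    rintro r (rfl | rfl | rfl) u
    · exact comm_xr 8 6 (by decide) (by decide +kernel) u s
    · exact comm_xr 9 6 (by decide) (by decide +kernel) u s
    · exact comm_xr 11 6 (by decide) (by decide +kernel) u s
  have w8 : ∀ u, ρ (xr 8 u) w = w := fun u => by
    rw [hw, ← Module.End.mul_apply, ← map_mul, c6 8 (Or.inl rfl), map_mul, Module.End.mul_apply, v8]
  have w9 : ∀ u, ρ (xr 9 u) w = w := fun u => by
    rw [hw, ← Module.End.mul_apply, ← map_mul, c6 9 (Or.inr (Or.inl rfl)), map_mul, Module.End.mul_apply, v9]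
  have w11 : ∀ u, ρ (xr 11 u) w = (ψ : AddChar F ℂ) u • w := fun u => by
    rw [hw, ← Module.End.mul_apply, ← map_mul, c6 11 (Or.inr (Or.inr rfl)), map_mul, Module.End.mul_apply,
      v11, map_smul]
  have w10 : ∀ u, ρ (xr 10 u) w = (ψ : AddChar F ℂ) ((1 - s) * u) • w := fun u => by
    have e : xr 10 u * xr 6 s = xr 6 s * (xr 10 u * xr 11 (-(s * u))) := by
      have c6' := c6 11 (Or.inr (Or.inr rfl)) (-(s * u))
      rw [← mul_assoc, x6_x10, mul_assoc _ (xr 6 s), ← c6', ← mul_assoc, mul_assoc (xr 10 u), ← xr_add,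
        add_neg_cancel, xr_zero, mul_one]
    rw [hw, ← Module.End.mul_apply, ← map_mul, e, map_mul, map_mul, Module.End.mul_apply, Module.End.mul_apply,
      v11, map_smul, v10, smul_smul, map_smul, ← AddChar.map_add_eq_mul]
    congr 2
    ring
  have hw0 : w ≠ 0 := fun h => hv0 (by
    have := congrArg (ρ (xr 6 s)⁻¹) h
    rwa [hw, ← Module.End.mul_apply, ← map_mul, inv_mul_cancel, map_one, Module.End.one_apply, map_zero] at this)
  have hne1 : (ψ : AddChar F ℂ) ≠ 1 := fun h => by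
    obtain ⟨u, hu⟩ := CfsgLib.SympWeil.ψ_ne (one_ne_zero (α := F))
    exact hu (by rw [one_mul]; exact DFunLike.congr_fun h u)
  let χw : AddChar F ℂ := (ψ : AddChar F ℂ).compAddMonoidHom (AddMonoidHom.mulLeft (1 - s))
  have hχw : χw ≠ 1 := fun h => by
    obtain ⟨u, hu⟩ := CfsgLib.SympWeil.ψ_ne (sub_ne_zero.2 (Ne.symm hs.2.1))
    exact hu (DFunLike.congr_fun h u)
  have v7 := fix7 _ v hne1 v10
  have w7 := fix7 χw w hχw w10
  have hval : ∀ u : F, (ψ : AddChar F ℂ) (-(s * (1 + s)) * u ^ 3) = 1 := fun u => by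
    have e := congrArg (fun x => ρ x v) (x6_x7 s u)
    simp only [map_mul, Module.End.mul_apply] at e
    rw [v7, ← hw, w11, map_smul, w10, smul_smul, ← AddChar.map_add_eq_mul, map_smul, w9, map_smul, w8,
      map_smul, w7] at e
    have e' : (1 : ℂ) • w =
        (ψ : AddChar F ℂ) (-(2 * s ^ 2 * u ^ 3) + (1 - s) * -(s * u ^ 3)) • w := by rw [one_smul]; exact e
    rw [smul_left_injective ℂ hw0 e']
    congr 1
    ring
  have hz : -(s * (1 + s)) ≠ 0 :=
    neg_ne_zero.2 (mul_ne_zero hs.1 fun h => hs.2.2 (eq_neg_of_add_eq_zero_right h))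
  obtain ⟨z, hz'⟩ := CfsgLib.SympWeil.ψ_ne hz
  obtain ⟨u, hu⟩ := (cube F).surjective z
  rw [cube_apply] at hu
  exact hz' (by rw [← hu]; exact hval u)

open Classical in
/-- The weights of the short root a+b. -/
theorem P8_equation {s : F} (hs : s ≠ 0) :
    Fintype.card F * nn ρ + (Fintype.card F - 1) * (Fintype.card F * mm ρ) =
      (Fintype.card F - 1) * (nn ρ + (Fintype.card F - 1) * mm ρ) +
        (P8 ρ s + ∑ l ∈ Finset.univ.erase (0 : F), N ρ s 0 l 0) := by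
  let g8 : (Fin 2 → F) → GG F := fun x => a4 ![x 0, 0, 0, x 1]
  let ι : (Fin 2 → F) →+ (Fin 4 → F) := AddMonoidHom.mk' (fun x => ![x 0, 0, 0, x 1])
    fun S T => by funext i; fin_cases i <;> simp
  have hg8 : ∀ S T, g8 (S + T) = g8 S * g8 T := fun S T => by
    show a4 (ι (S + T)) = a4 (ι S) * a4 (ι T)
    rw [map_add, a4_add]
  obtain ⟨e8, h8, n8⟩ := carries_nA (F := F) 8 9 (by rw [sA_eq]; rfl)
  obtain ⟨e11, h11, n11⟩ := carries_nA (F := F) 11 11 (by rw [sA_eq]; rfl)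
  let σ : (Fin 2 → F) ≃+ (Fin 2 → F) := subst
    (AddMonoidHom.mk' (fun x => ![e8 * x 0, e11 * x 1]) fun S T => by funext i; fin_cases i <;> simp <;> ring)
    fun S T e => by
      funext i; fin_cases i
      · exact mul_left_cancel₀ h8 (congrFun e 0)
      · exact mul_left_cancel₀ h11 (congrFun e 1)
  have h1 : mult g8 ρ (chv ![s, 0]) = M ρ ge ![s / e8, 0] := by
    refine mult_carry g8 ge ρ hg8 ge_add σ nA (fun S => ?_) _ (chv ![s / e8, 0]) fun S => ?_
    · show nA * a4 ![S 0, 0, 0, S 1] = ge ![e8 * S 0, e11 * S 1] * nA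
      simp only [a4, ge, g3, Matrix.cons_val_zero, Matrix.cons_val_one, Matrix.cons_val, xr_zero, mul_one]
      rw [← mul_assoc, n8, mul_assoc, n11, ← mul_assoc]
    · show chv ![s / e8, 0] ![e8 * S 0, e11 * S 1] = chv ![s, 0] S
      simp only [chv_apply, Fin.sum_univ_two, Matrix.cons_val_zero, Matrix.cons_val_one]
      congr 1
      field_simp
      ring
  rw [ME_short ρ (div_ne_zero hs h8)] at h1
  rw [← h1]
  have h2 := mult_chv ρ a4 a4_add ι (chv ![s, 0]) (fun c => c 0 = s ∧ c 3 = 0) (fun c => by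
    have e : (chv c).compAddMonoidHom ι = chv ![c 0, c 3] := by
      ext x; simp [ι, chv_apply, Fin.sum_univ_four]
    rw [e, chv_injective.eq_iff, funext_iff, Fin.forall_fin_two]
    rfl)
  rw [show a4 ∘ ι = g8 from rfl] at h2
  rw [h2]
  have h3 : (∑ c ∈ Finset.univ.filter (fun c : Fin 4 → F => c 0 = s ∧ c 3 = 0), M ρ a4 c) =
      ∑ p : F × F, N ρ s p.1 p.2 0 := by
    refine Finset.sum_bij' (fun c _ => (c 1, c 2)) (fun p _ => ![s, p.1, p.2, 0]) (fun c _ => Finset.mem_univ _)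
      (fun b _ => by simp) (fun c hc => by
        rw [Finset.mem_filter] at hc
        funext i; fin_cases i
        · exact hc.2.1.symm
        · rfl
        · rfl
        · exact hc.2.2.symm) (fun b _ => rfl) (fun c hc => by
        rw [Finset.mem_filter] at hc
        rw [N_eq, hc.2.1, hc.2.2])
  rw [h3, Fintype.sum_prod_type, ← Finset.add_sum_erase _ _ (Finset.mem_univ (0 : F))]
  dsimp only
  rw [Finset.sum_congr rfl (s₁ := Finset.univ.erase (0 : F)) (f := fun b => ∑ y, N ρ s b y 0)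
    (g := fun _ => nn ρ + (Fintype.card F - 1) * mm ρ) (fun b hb => by
    have hb' := (Finset.mem_erase.1 hb).1
    rw [← Finset.add_sum_erase _ _ (Finset.mem_univ (0 : F)), N_short ρ s hb',
      Finset.sum_congr rfl fun c hc => N_gen ρ s hb' (Or.inl (Finset.mem_erase.1 hc).1), Finset.sum_const,
      Finset.card_erase_of_mem (Finset.mem_univ _), Finset.card_univ, smul_eq_mul]),
    Finset.sum_const, Finset.card_erase_of_mem (Finset.mem_univ _), Finset.card_univ, smul_eq_mul,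
    ← Finset.add_sum_erase (Finset.univ : Finset F) (fun l => N ρ s 0 l 0) (Finset.mem_univ (0 : F)), P8,
    add_comm]

open Classical in
/-- The structure of the minimal configuration. -/
theorem minimal_config (hq : 9 ≤ Fintype.card F) (hm : mm ρ = 1) (hn : nn ρ ≤ 3) :
    nn ρ = 1 ∧ rr ρ = 1 := by
  have hG : ∀ l : F, l ≠ 0 → N ρ 1 0 l 0 = 0 := fun l hl => by
    by_contra hN
    have h3 := N_three ρ (by omega) one_ne_zero hl (Nat.pos_of_ne_zero hN)
    let P : Fˣ → F := fun t => (t : F) ^ 2 * l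
    have hP : ∀ t : Fˣ, 3 ≤ N ρ 1 0 (P t) 0 := fun t => by
      have h := N_torus ρ t t⁻¹ 1 0 l 0
      simp only [mul_zero, mul_one] at h
      have e8 : (wt t t⁻¹ 8 : F) = 1 := by simp [wt]
      have e10 : (wt t t⁻¹ 10 : F) = (t : F) ^ 2 := by
        simp [wt]
        field_simp
      rw [e8, e10] at h
      show 3 ≤ N ρ 1 0 ((t : F) ^ 2 * l) 0
      rw [h]
      exact h3
    have hfib : ∀ y ∈ Finset.univ.image P, (Finset.univ.filter fun t => P t = y).card ≤ 2 := by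
      intro y hy
      obtain ⟨t₀, -, rfl⟩ := Finset.mem_image.1 hy
      refine le_trans (Finset.card_le_card_of_injOn (fun t : Fˣ => (t : F)) (fun t ht => ?_)
        (fun a _ b _ h => Units.ext h))
        (le_trans (Multiset.toFinset_card_le (Polynomial.nthRoots 2 ((t₀ : F) ^ 2))) (Polynomial.card_nthRoots 2 _))
      rw [Finset.mem_coe, Multiset.mem_toFinset, Polynomial.mem_nthRoots (by norm_num)]
      exact mul_right_cancel₀ hl (Finset.mem_filter.1 ht).2
    have h1 := Finset.card_le_mul_card_image (Finset.univ : Finset Fˣ) 2 hfib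
    rw [Finset.card_univ, Fintype.card_units] at h1
    have hlow : 3 * (Finset.univ.image P).card ≤ ∑ c ∈ Finset.univ.erase (0 : F), N ρ 1 0 c 0 := by
      refine le_trans ?_ (Finset.sum_le_sum_of_subset (s := Finset.univ.image P) fun c hc => by
        obtain ⟨t, -, rfl⟩ := Finset.mem_image.1 hc
        exact Finset.mem_erase.2 ⟨mul_ne_zero (pow_ne_zero _ t.ne_zero) hl, Finset.mem_univ _⟩)
      rw [mul_comm, ← smul_eq_mul]
      refine Finset.card_nsmul_le_sum _ _ _ fun c hc => ?_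
      obtain ⟨t, -, rfl⟩ := Finset.mem_image.1 hc
      exact hP t
    have he := P8_equation (ρ := ρ) (s := (1 : F)) one_ne_zero
    rw [hm] at he
    obtain ⟨r, hr⟩ : ∃ r, Fintype.card F = r + 9 := ⟨Fintype.card F - 9, by omega⟩
    rw [hr, show r + 9 - 1 = r + 8 by omega] at he h1
    ring_nf at he h1
    nlinarith
  have he := P8_equation (ρ := ρ) (s := (1 : F)) one_ne_zero
  rw [hm, Finset.sum_eq_zero fun l hl => hG l (Finset.mem_erase.1 hl).1, P8_eq ρ one_ne_zero] at he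
  obtain ⟨r, hr⟩ : ∃ r, Fintype.card F = r + 9 := ⟨Fintype.card F - 9, by omega⟩
  rw [hr, show r + 9 - 1 = r + 8 by omega] at he
  have hx : rr ρ ≤ 1 := by
    by_contra h
    have h2 : 2 ≤ rr ρ := by omega
    nlinarith [Nat.mul_le_mul_left (r + 9) h2]
  rcases Nat.le_one_iff_eq_zero_or_eq_one.1 hx with h | h
  · exfalso
    rw [h] at he
    ring_nf at he
    omega
  · refine ⟨?_, h⟩
    rw [h] at he
    ring_nf at he
    omega

/-- Three exceptional values do not divide the order. -/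
theorem not_dvd_order {q k : ℕ} (hq : 9 ≤ q) (hodd : q % 2 = 1) (h3 : q % 3 = 0)
    (hk : k = q ^ 4 + q ^ 2 - 2 ∨ k = q ^ 4 + q ^ 2 - 1 ∨ k = q ^ 4 + q ^ 2) :
    ¬ k ∣ q ^ 6 * ((q ^ 2 - 1) * (q ^ 6 - 1)) := by
  intro hd
  have h2 : 1 ≤ q ^ 2 := Nat.one_le_pow _ _ (by omega)
  have h6 : 1 ≤ q ^ 6 := Nat.one_le_pow _ _ (by omega)
  have h4 : 81 ≤ q ^ 2 := by nlinarith
  obtain ⟨a, ha⟩ := hd
  have ha' : ((q : ℤ) ^ 6 * (((q : ℤ) ^ 2 - 1) * ((q : ℤ) ^ 6 - 1))) = (k : ℤ) * a := by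
    have := congrArg (Nat.cast : ℕ → ℤ) ha
    push_cast [Nat.cast_sub h2, Nat.cast_sub h6] at this
    exact this
  rcases hk with hk | hk | hk
  · -- the factor q^2+2
    have hK : (k : ℤ) = ((q : ℤ) ^ 2 + 2) * ((q : ℤ) ^ 2 - 1) := by
      rw [hk, Nat.cast_sub (by nlinarith)]; push_cast; ring
    have hne : ((q : ℤ) ^ 2 - 1) ≠ 0 := by
      have : (81 : ℤ) ≤ (q : ℤ) ^ 2 := by exact_mod_cast h4
      omega
    have e : ((q : ℤ) ^ 6 * (((q : ℤ) ^ 2 - 1) * ((q : ℤ) ^ 4 + (q : ℤ) ^ 2 + 1))) = ((q : ℤ) ^ 2 + 2) * a := by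
      refine mul_left_cancel₀ hne ?_
      linear_combination ha' + (a : ℤ) * hK
    have hdvd : (q ^ 2 + 2 : ℕ) ∣ 9 * q ^ 6 := by
      refine Int.natCast_dvd_natCast.1 ⟨(q : ℤ) ^ 6 * ((q : ℤ) ^ 4 - 2 * (q : ℤ) ^ 2 + 4) - a, ?_⟩
      push_cast
      linear_combination (-1 : ℤ) * e
    have hcop : Nat.Coprime (q ^ 2 + 2) q := by
      have hg : Nat.gcd (q ^ 2 + 2) q ∣ 2 := by
        have h1 := Nat.gcd_dvd_left (q ^ 2 + 2) q
        have h2 := Nat.gcd_dvd_right (q ^ 2 + 2) q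
        exact (Nat.dvd_add_right (dvd_trans h2 (dvd_pow_self q (by norm_num)))).1 h1
      rcases (Nat.dvd_prime Nat.prime_two).1 hg with h | h
      · exact h
      · exfalso
        have := Nat.gcd_dvd_right (q ^ 2 + 2) q
        rw [h] at this
        omega
    have h9 := Nat.le_of_dvd (by norm_num) ((hcop.pow_right 6).dvd_of_dvd_mul_right hdvd)
    omega
  · have hK : (k : ℤ) = (q : ℤ) ^ 4 + (q : ℤ) ^ 2 - 1 := by
      rw [hk, Nat.cast_sub (by nlinarith)]; push_cast; ring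
    have c1 : IsCoprime (k : ℤ) (q : ℤ) := ⟨-1, (q : ℤ) ^ 3 + q, by rw [hK]; ring⟩
    have c2 : IsCoprime (k : ℤ) ((q : ℤ) ^ 2 - 1) := ⟨1, -((q : ℤ) ^ 2 + 2), by rw [hK]; ring⟩
    obtain ⟨j, hj⟩ : ∃ j, k = 2 * j + 1 := by
      refine ⟨k / 2, ?_⟩
      have : (q ^ 4 + q ^ 2) % 2 = 0 := by simp [Nat.add_mod, Nat.pow_mod, hodd]
      have : 0 < q ^ 4 + q ^ 2 := by positivity
      omega
    have c3 : IsCoprime (k : ℤ) ((q : ℤ) ^ 4 + (q : ℤ) ^ 2 + 1) := ⟨1 + j, -(j : ℤ), by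
      have hj' : (k : ℤ) = 2 * (j : ℤ) + 1 := by exact_mod_cast hj
      linear_combination hj' + (j : ℤ) * hK⟩
    have hd' : (k : ℤ) ∣ (q : ℤ) ^ 6 * ((((q : ℤ) ^ 2 - 1) * ((q : ℤ) ^ 2 - 1)) * ((q : ℤ) ^ 4 + (q : ℤ) ^ 2 + 1)) :=
      ⟨a, by linear_combination ha'⟩
    have hu := IsUnit.dvd
      (((c1.pow_right (n := 6)).mul_right ((c2.mul_right c2).mul_right c3)).isUnit_of_dvd' dvd_rfl hd')
      (a := (1 : ℤ))
    have h1 : k ∣ 1 := by exact_mod_cast hu
    have := Nat.le_of_dvd one_pos h1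
    have : 81 ≤ k := by
      rw [hk]
      have : q ^ 2 ≤ q ^ 4 := Nat.pow_le_pow_right (by omega) (by norm_num)
      omega
    omega
  · have hK : (k : ℤ) = (q : ℤ) ^ 2 * ((q : ℤ) ^ 2 + 1) := by rw [hk]; push_cast; ring
    have hdvd : (q ^ 2 + 1 : ℕ) ∣ 4 * q ^ 6 := by
      refine Int.natCast_dvd_natCast.1 ⟨(q : ℤ) ^ 2 * a -
        (q : ℤ) ^ 6 * ((q : ℤ) ^ 6 - 2 * (q : ℤ) ^ 4 + 2 * (q : ℤ) ^ 2 - 3), ?_⟩
      push_cast
      linear_combination ha' + (a : ℤ) * hK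
    have hcop : Nat.Coprime (q ^ 2 + 1) q := by
      rw [pow_two, Nat.coprime_mul_left_add_left]
      exact Nat.coprime_one_left q
    have h9 := Nat.le_of_dvd (by norm_num) ((hcop.pow_right 6).dvd_of_dvd_mul_right hdvd)
    omega

/-- The bound in characteristic three. -/
theorem char_three (hρ : ρ.IsIrreducible) (hk : 2 ≤ k) (hq : 9 ≤ Fintype.card F) :
    Fintype.card F ^ 4 + Fintype.card F ^ 2 + 1 ≤ k := by
  classical
  obtain ⟨ρ', hρ', htw⟩ := exists_twin hρ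
  obtain ⟨hm', hβ⟩ := htw.equations
  have hm := mm_pos hρ hk (by omega)
  have hD := degree_three ρ
  rw [hβ, ← hm'] at hD
  obtain ⟨r, hr⟩ : ∃ r, Fintype.card F = r + 9 := ⟨Fintype.card F - 9, by omega⟩
  have h2 : (r + 9) ^ 2 - 1 = (r + 8) * (r + 10) := Nat.sub_eq_of_eq_add (by ring)
  rw [hr, show r + 9 - 1 = r + 8 by omega, h2] at hD
  rw [hr]
  rcases Nat.lt_or_ge (mm ρ) 2 with hlt | hge
  swap
  · have e1 := Nat.mul_le_mul_left ((r + 8) * (r + 10) * ((r + 8) * (r + 9))) hge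
    have e2 := Nat.mul_le_mul_left ((r + 8) * (r + 10) * (r + 8)) hge
    ring_nf at hD e1 e2 ⊢
    omega
  have hm1 : mm ρ = 1 := by omega
  rw [hm1] at hD
  by_cases hn : nn ρ ≤ 3
  swap
  · have e1 := Nat.mul_le_mul_left ((r + 8) * (r + 9)) (show 4 ≤ nn ρ by omega)
    ring_nf at hD e1 ⊢
    omega
  by_cases hn' : nn ρ' ≤ 3
  swap
  · have e1 := Nat.mul_le_mul_left ((r + 8) * (r + 10)) (show 4 ≤ nn ρ' by omega)
    ring_nf at hD e1 ⊢
    omega
  obtain ⟨e1, er⟩ := minimal_config (ρ := ρ) hq hm1 hn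
  obtain ⟨e1', er'⟩ := minimal_config (ρ := ρ') hq (hm'.symm.trans hm1) hn'
  rw [e1, e1'] at hD
  -- the fixed space
  have hR : M3 ρ 0 0 0 = F8 ρ + (r + 8) * (r + 9) := by
    rw [M3_from_N, ← Finset.add_sum_erase _ _ (Finset.mem_univ (0 : F)),
      Finset.sum_congr rfl (g := fun _ => r + 9) (fun a ha => by
        have h := P8_eq ρ (Finset.mem_erase.1 ha).1
        rw [er, mul_one, hr] at h
        exact h),
      Finset.sum_const, Finset.card_erase_of_mem (Finset.mem_univ _), Finset.card_univ, hr, smul_eq_mul, F8,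
      show r + 9 - 1 = r + 8 by omega]
  obtain ⟨v7, h70, h7f, h7⟩ := rr_vector ρ (by rw [er]; exact one_ne_zero)
  obtain ⟨v6, h60, h6f', h67⟩ := rr_vector ρ' (by rw [er']; exact one_ne_zero)
  obtain ⟨τ, hτ0, hτ⟩ := exists_dual (cube F).symm
  have h6 : ∀ u : F, ρ (xr 6 u) v6 = (ψ : AddChar F ℂ) (τ 1 * u) • v6 := fun u => by
    obtain ⟨t, ht⟩ := (cube F).surjective u
    rw [hτ, one_mul, ← ht, AddEquiv.symm_apply_apply, cube_apply, ← htw.h7, h67]
  have f10 : ∀ u, ρ (xr 10 u) v6 = v6 := fun u => by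
    obtain ⟨t, ht⟩ := (cube F).surjective u
    have h := h6f' ![t, 0, 0, 0]
    rw [show a4 ![t, (0 : F), 0, 0] = xr 8 t by simp [a4, xr_zero], htw.h8, ← cube_apply, ht] at h
    exact h
  have f11 : ∀ u, ρ (xr 11 u) v6 = v6 := fun u => by
    obtain ⟨t, ht⟩ := (cube F).surjective u
    have h := h6f' ![0, t, 0, 0]
    rw [show a4 ![(0 : F), t, 0, 0] = xr 9 t by simp [a4, xr_zero], htw.h9, ← cube_apply, ht] at h
    exact h
  have f8 : ∀ u, ρ (xr 8 u) v6 = v6 := fun u => by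
    have h := h6f' ![0, 0, u, 0]
    rw [show a4 ![(0 : F), 0, u, 0] = xr 10 u by simp [a4, xr_zero], htw.h10] at h
    exact h
  have f9 : ∀ u, ρ (xr 9 u) v6 = v6 := fun u => by
    have h := h6f' ![0, 0, 0, u]
    rw [show a4 ![(0 : F), 0, 0, u] = xr 11 u by simp [a4, xr_zero], htw.h11] at h
    exact h
  have h6f : ∀ S, ρ (a4 S) v6 = v6 := fun S => by
    simp only [a4, map_mul, Module.End.mul_apply]
    rw [f11, f10, f9, f8]
  have hF8 := F8_bound ρ v7 v6 h70 h7f h7 h60 h6f (fun e => one_ne_zero ((hτ0 1).1 e)) h6 (by omega)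
  rw [hr, show r + 9 - 1 = r + 8 by omega] at hF8
  rw [hR] at hD
  by_contra hlt'
  have hodd : (r + 9) % 2 = 1 ∧ (r + 9) % 3 = 0 := by
    obtain ⟨n, -, hn⟩ := FiniteField.card F 3
    rw [hr] at hn
    constructor
    · rw [hn, Nat.pow_mod]; norm_num
    · rw [hn]; exact Nat.mod_eq_zero_of_dvd (dvd_pow_self 3 n.ne_zero) |> fun e => e
  refine not_dvd_order (k := k) (show 9 ≤ r + 9 by omega) hodd.1 hodd.2 ?_ (hr ▸ dvd_order ρ hρ)
  have e4 : (r + 9) ^ 4 + (r + 9) ^ 2 ≤ k + 2 := by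
    ring_nf at hD hF8 ⊢
    omega
  omega

end CfsgLib.G2Deg
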