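import Cfsg.Agent.Lib.G2Deg.W4

/-! Counting weights on the fixed space of the highest root group. -/

set_option autoImplicit false
set_option linter.unusedSectionVars false

namespace CfsgLib.G2Deg

open CfsgLib.RadicalBound CfsgLib.OrthDeg

variable {F : Type*} [Field F] [Fintype F] {k : ℕ} (ρ : Representation ℂ (GG F) (Fin k → ℂ))

/-- The fixed space of the two highest roots. -/
noncomputable def R3 : ℕ := ∑ a : F, M3 ρ a 0 0

theorem fibre_const (h3 : (3 : F) ≠ 0) {l : F} (hl : l ≠ 0) :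
    ∑ a : F, M3 ρ a l 0 = Fintype.card F * mu ρ := by
  rw [Finset.sum_congr rfl fun a _ => M3_const ρ h3 a l 0 (Or.inl hl), Finset.sum_const, smul_eq_mul,
    Finset.card_univ]

theorem W11_split (h3 : (3 : F) ≠ 0) :
    W11 ρ = R3 ρ + (Fintype.card F - 1) * (Fintype.card F * mu ρ) := by
  classical
  rw [← sum_M4 ρ, ← Finset.sum_fiberwise (g := fun c : Fin 4 → F => c 3)]
  rw [Finset.sum_congr rfl fun l _ => fibre_ten ρ l, ← Finset.add_sum_erase _ _ (Finset.mem_univ (0 : F))]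
  congr 1
  rw [Finset.sum_congr rfl fun l hl => fibre_const ρ h3 (Finset.mem_erase.1 hl).1, Finset.sum_const,
    Finset.card_erase_of_mem (Finset.mem_univ _), Finset.card_univ, smul_eq_mul]

open Classical in
theorem R3_eq : R3 ρ =
    ∑ c ∈ Finset.univ.filter (fun c : Fin 4 → F => c 3 = 0), M (rep11 ρ) (g4 ρ) c := (fibre_ten ρ 0).symm

/-- An orbit of weights of large size. -/
theorem generic_bound (h3 : (3 : F) ≠ 0) {d e l : F} (hl : l ≠ 0) (hde : d ≠ 0 ∨ e ≠ 0) (hM : 0 < M4 ρ d e 0 l) :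
    Fintype.card F * (Fintype.card F - 1) ^ 2 ≤ 3 * W11 ρ := by
  classical
  let P : F × Fˣ × Fˣ → Fin 4 → F := fun p =>
    ![(p.2.2 : F) * d - p.1 * ((p.2.1 : F) * (p.2.2 : F) * e) + p.1 ^ 3 * ((p.2.1 : F) ^ 3 * (p.2.2 : F) * l),
      (p.2.1 : F) * (p.2.2 : F) * e - 3 * p.1 ^ 2 * ((p.2.1 : F) ^ 3 * (p.2.2 : F) * l),
      3 * p.1 * ((p.2.1 : F) ^ 3 * (p.2.2 : F) * l), (p.2.1 : F) ^ 3 * (p.2.2 : F) * l]
  have hpos : ∀ p, 0 < M (rep11 ρ) (g4 ρ) (P p) := by
    rintro ⟨t, a, b⟩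
    have h1 := torus4 ρ a b d e 0 l
    have w : (wt a b 6 : F) = b ∧ (wt a b 8 : F) = a * b ∧ (wt a b 10 : F) = a ^ 3 * b := by
      simp [wt]
    rw [w.1, w.2.1, w.2.2, mul_zero] at h1
    have h2 := sh ρ t ((b : F) * d) ((a : F) * (b : F) * e) 0 ((a : F) ^ 3 * (b : F) * l)
    rw [h1] at h2
    rw [M4_eq]
    show 0 < M4 ρ ((b : F) * d - t * ((a : F) * (b : F) * e) + t ^ 3 * ((a : F) ^ 3 * (b : F) * l))
      ((a : F) * (b : F) * e - 3 * t ^ 2 * ((a : F) ^ 3 * (b : F) * l))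
      (3 * t * ((a : F) ^ 3 * (b : F) * l)) ((a : F) ^ 3 * (b : F) * l)
    rwa [← h2, mul_zero, add_zero, mul_zero, sub_zero, zero_add] at hM
  have hfib : ∀ y ∈ Finset.univ.image P, (Finset.univ.filter fun p => P p = y).card ≤ 3 := by
    intro y hy
    obtain ⟨⟨t₀, a₀, b₀⟩, -, rfl⟩ := Finset.mem_image.1 hy
    have key : ∀ p, P p = P (t₀, a₀, b₀) → p.1 = t₀ ∧ (p.2.2 : F) * d = (b₀ : F) * d ∧
        (p.2.1 : F) * (p.2.2 : F) * e = (a₀ : F) * (b₀ : F) * e ∧
        (p.2.1 : F) ^ 3 * (p.2.2 : F) = (a₀ : F) ^ 3 * (b₀ : F) := by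
      rintro ⟨t, a, b⟩ h
      have e0 : (b : F) * d - t * ((a : F) * (b : F) * e) + t ^ 3 * ((a : F) ^ 3 * (b : F) * l) =
          (b₀ : F) * d - t₀ * ((a₀ : F) * (b₀ : F) * e) + t₀ ^ 3 * ((a₀ : F) ^ 3 * (b₀ : F) * l) := congrFun h 0
      have e1 : (a : F) * (b : F) * e - 3 * t ^ 2 * ((a : F) ^ 3 * (b : F) * l) =
          (a₀ : F) * (b₀ : F) * e - 3 * t₀ ^ 2 * ((a₀ : F) ^ 3 * (b₀ : F) * l) := congrFun h 1
      have e2 : 3 * t * ((a : F) ^ 3 * (b : F) * l) = 3 * t₀ * ((a₀ : F) ^ 3 * (b₀ : F) * l) := congrFun h 2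
      have e3 : (a : F) ^ 3 * (b : F) * l = (a₀ : F) ^ 3 * (b₀ : F) * l := congrFun h 3
      rw [← e3] at e0 e1 e2
      have hne : (a : F) ^ 3 * (b : F) * l ≠ 0 :=
        mul_ne_zero (mul_ne_zero (pow_ne_zero _ a.ne_zero) b.ne_zero) hl
      obtain rfl : t = t₀ := mul_left_cancel₀ h3 (mul_right_cancel₀ hne e2)
      refine ⟨rfl, ?_, ?_, mul_right_cancel₀ hl e3⟩
      · linear_combination e0 + t * e1
      · linear_combination e1
    rcases eq_or_ne d 0 with hd | hd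
    · have he : e ≠ 0 := hde.resolve_left (by simp [hd])
      refine le_trans (Finset.card_le_card_of_injOn (fun p : F × Fˣ × Fˣ => (p.2.1 : F)) (fun p hp => ?_) ?_)
        (le_trans (Multiset.toFinset_card_le (Polynomial.nthRoots 2 ((a₀ : F) ^ 2)))
          (le_trans (Polynomial.card_nthRoots 2 _) (by norm_num)))
      · obtain ⟨-, -, hab, h3b⟩ := key p (Finset.mem_filter.1 hp).2
        rw [Finset.mem_coe, Multiset.mem_toFinset, Polynomial.mem_nthRoots (by norm_num)]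
        have hab' : (p.2.1 : F) * (p.2.2 : F) = (a₀ : F) * (b₀ : F) := mul_right_cancel₀ he hab
        refine mul_right_cancel₀ (mul_ne_zero a₀.ne_zero b₀.ne_zero) ?_
        calc (p.2.1 : F) ^ 2 * ((a₀ : F) * (b₀ : F)) = (p.2.1 : F) ^ 2 * ((p.2.1 : F) * (p.2.2 : F)) := by
              rw [hab']
          _ = (p.2.1 : F) ^ 3 * (p.2.2 : F) := by ring
          _ = _ := by rw [h3b]; ring
      · intro p hp p' hp' h
        obtain ⟨ht, -, hab, -⟩ := key p (Finset.mem_filter.1 hp).2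
        obtain ⟨ht', -, hab', -⟩ := key p' (Finset.mem_filter.1 hp').2
        have ha : p.2.1 = p'.2.1 := Units.ext h
        have hb := mul_right_cancel₀ he (hab.trans hab'.symm)
        rw [ha] at hb
        exact Prod.ext (ht.trans ht'.symm) (Prod.ext ha (Units.ext (mul_left_cancel₀ (Units.ne_zero _) hb)))
    · refine le_trans (Finset.card_le_card_of_injOn (fun p : F × Fˣ × Fˣ => (p.2.1 : F)) (fun p hp => ?_) ?_)
        (le_trans (Multiset.toFinset_card_le (Polynomial.nthRoots 3 ((a₀ : F) ^ 3)))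
          (Polynomial.card_nthRoots 3 _))
      · obtain ⟨-, hb, -, h3b⟩ := key p (Finset.mem_filter.1 hp).2
        rw [Finset.mem_coe, Multiset.mem_toFinset, Polynomial.mem_nthRoots (by norm_num)]
        rw [mul_right_cancel₀ hd hb] at h3b
        exact mul_right_cancel₀ b₀.ne_zero h3b
      · intro p hp p' hp' h
        obtain ⟨ht, hb, -, -⟩ := key p (Finset.mem_filter.1 hp).2
        obtain ⟨ht', hb', -, -⟩ := key p' (Finset.mem_filter.1 hp').2
        exact Prod.ext (ht.trans ht'.symm)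
          (Prod.ext (Units.ext h) (Units.ext (mul_right_cancel₀ hd (hb.trans hb'.symm))))
  have h1 := Finset.card_le_mul_card_image (Finset.univ : Finset (F × Fˣ × Fˣ)) 3 hfib
  rw [Finset.card_univ, Fintype.card_prod, Fintype.card_prod, Fintype.card_units] at h1
  refine le_trans (le_of_eq (by ring)) (h1.trans (Nat.mul_le_mul_left 3 ?_))
  rw [← sum_M4 ρ, Finset.card_eq_sum_ones]
  refine le_trans (Finset.sum_le_sum fun y hy => ?_) (Finset.sum_le_sum_of_subset (Finset.subset_univ _))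
  obtain ⟨p, -, rfl⟩ := Finset.mem_image.1 hy
  exact hpos p

/-- All weights are shifts of the distinguished ones. -/
def Cubic : Prop := ∀ d e l : F, l ≠ 0 → d ≠ 0 ∨ e ≠ 0 → M4 ρ d e 0 l = 0

theorem Cubic.shape {ρ : Representation ℂ (GG F) (Fin k → ℂ)} (hC : Cubic ρ) (h3 : (3 : F) ≠ 0)
    {a b c l : F} (hl : l ≠ 0) (hM : 0 < M4 ρ a b c l) :
    ∃ t : F, a = t ^ 3 * l ∧ b = -(3 * t ^ 2 * l) ∧ c = 3 * t * l := by
  obtain ⟨t, ht⟩ : ∃ t : F, c + 3 * t * l = 0 := ⟨-c / (3 * l), by field_simp; ring⟩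
  have h := sh ρ t a b c l
  rw [ht] at h
  by_cases hz : a - t * b + t ^ 2 * c + t ^ 3 * l = 0 ∧ b - 2 * t * c - 3 * t ^ 2 * l = 0
  · refine ⟨-t, ?_, ?_, by linear_combination ht⟩
    · linear_combination hz.1 + t * hz.2 + t ^ 2 * ht
    · linear_combination hz.2 + 2 * t * ht
  · rw [hC _ _ l hl (not_and_or.1 hz)] at h
    omega

theorem Cubic.one {ρ : Representation ℂ (GG F) (Fin k → ℂ)} (hC : Cubic ρ) (h3 : (3 : F) ≠ 0)
    (h1 : mu ρ = 1) {l : F} (hl : l ≠ 0) : M4 ρ 0 0 0 l = 1 := by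
  classical
  have h := fibre_ten ρ l
  rw [fibre_const ρ h3 hl, h1, mul_one] at h
  let P : F → Fin 4 → F := fun t => ![t ^ 3 * l, -(3 * t ^ 2 * l), 3 * t * l, l]
  have hP : Function.Injective P := fun s t e => mul_left_cancel₀ h3 (mul_right_cancel₀ hl (congrFun e 2))
  rw [← Finset.sum_subset (s₁ := Finset.univ.map ⟨P, hP⟩) (fun y hy => by
      obtain ⟨t, -, rfl⟩ := Finset.mem_map.1 hy
      simp [P]) (fun y hy hy' => by
      by_contra h0
      rw [Finset.mem_filter] at hy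
      rw [M4_eq, hy.2] at h0
      obtain ⟨t, ha, hb, hc⟩ := hC.shape h3 hl (Nat.pos_of_ne_zero h0)
      refine hy' (Finset.mem_map.2 ⟨t, Finset.mem_univ _, ?_⟩)
      funext i; fin_cases i
      · exact ha.symm
      · exact hb.symm
      · exact hc.symm
      · exact hy.2.symm), Finset.sum_map] at h
  rw [Finset.sum_congr rfl (g := fun _ => M4 ρ 0 0 0 l) (fun t _ => by
    rw [← sh ρ t 0 0 0 l, M4_eq]
    simp [P]), Finset.sum_const, Finset.card_univ, smul_eq_mul] at h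
  exact (Nat.mul_eq_left Fintype.card_ne_zero).1 h

theorem Cubic.line {ρ : Representation ℂ (GG F) (Fin k → ℂ)} (hC : Cubic ρ) (h3 : (3 : F) ≠ 0)
    (h1 : mu ρ = 1) {d : F} (hd : d ≠ 0) : M4 ρ d 0 0 0 = 1 := by
  obtain ⟨e₀, e₁, e₂, e₃, he0, -, -, -, he⟩ := weyl4 ρ
  have h := he 0 0 0 (d / e₀)
  rw [mul_div_cancel₀ d he0, mul_zero, mul_zero, mul_zero] at h
  rw [h, hC.one h3 h1 (div_ne_zero hd he0)]

open Classical in
theorem Cubic.R3_ge {ρ : Representation ℂ (GG F) (Fin k → ℂ)} (hC : Cubic ρ) (h3 : (3 : F) ≠ 0)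
    (h1 : mu ρ = 1) :
    Fintype.card F - 1 + (∑ b : F, ∑ c : F, M4 ρ 0 b c 0) ≤ R3 ρ := by
  rw [R3_eq, ← Finset.sum_filter_add_sum_filter_not (Finset.univ.filter fun c : Fin 4 → F => c 3 = 0)
    (fun c => c 0 ≠ 0)]
  refine Nat.add_le_add ?_ ?_
  · let P : {d : F // d ≠ 0} → Fin 4 → F := fun d => ![d.1, 0, 0, 0]
    have hP : Function.Injective P := fun s t e => Subtype.ext (congrFun e 0)
    refine le_trans (le_of_eq ?_) (Finset.sum_le_sum_of_subset (s := Finset.univ.map ⟨P, hP⟩) fun y hy => by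
      obtain ⟨d, -, rfl⟩ := Finset.mem_map.1 hy
      simpa [P] using d.2)
    rw [Finset.sum_map, Finset.sum_congr rfl (g := fun _ => 1) (fun d _ => by
      rw [M4_eq]
      exact hC.line h3 h1 d.2), ← Finset.card_eq_sum_ones, Finset.card_univ, Fintype.card_subtype_compl,
      Fintype.card_subtype_eq]
  · let P : F × F → Fin 4 → F := fun p => ![0, p.1, p.2, 0]
    have hP : Function.Injective P := fun s t e => Prod.ext (congrFun e 1) (congrFun e 2)
    rw [← Fintype.sum_prod_type']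
    refine le_trans (le_of_eq ?_) (Finset.sum_le_sum_of_subset (s := Finset.univ.map ⟨P, hP⟩) fun y hy => by
      obtain ⟨p, -, rfl⟩ := Finset.mem_map.1 hy
      simp [P])
    rw [Finset.sum_map]
    refine Finset.sum_congr rfl fun p _ => ?_
    rw [M4_eq]
    simp [P]

/-- A small fixed space of the two highest roots meets the long fundamental root group in at most a line. -/
theorem Cubic.small {ρ : Representation ℂ (GG F) (Fin k → ℂ)} (hC : Cubic ρ) (h3 : (3 : F) ≠ 0)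
    (h1 : mu ρ = 1) (hq : 2 < Fintype.card F) (hR : R3 ρ ≤ Fintype.card F) :
    M4 ρ 0 0 0 0 ≤ 1 ∧ ∀ b c : F, b ≠ 0 ∨ c ≠ 0 → M4 ρ 0 b c 0 = 0 := by
  classical
  have h := hC.R3_ge h3 h1
  rw [← Fintype.sum_prod_type'] at h
  have hle : ∀ s : Finset (F × F), ∑ p ∈ s, M4 ρ 0 p.1 p.2 0 ≤ 1 := fun s => by
    have hs : ∑ p ∈ s, M4 ρ 0 p.1 p.2 0 ≤ ∑ p : F × F, M4 ρ 0 p.1 p.2 0 :=
      Finset.sum_le_sum_of_subset (Finset.subset_univ s)
    omega
  refine ⟨by simpa using hle {(0, 0)}, fun b c hbc => ?_⟩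
  obtain ⟨v, hv⟩ := exists_unit_ne_one hq
  have hv' : (v : F) ≠ 1 := fun h => hv (Units.ext h)
  have ht := torus4 ρ 1 v 0 b c 0
  simp only [wt, Matrix.cons_val, Units.val_mul, Units.val_one, one_pow, one_mul, mul_zero] at ht
  have hne : ((v : F) * b, (v : F) * c) ≠ (b, c) := fun e => by
    rcases hbc with hb | hc
    · exact hv' (mul_right_cancel₀ hb ((congrArg Prod.fst e).trans (one_mul b).symm))
    · exact hv' (mul_right_cancel₀ hc ((congrArg Prod.snd e).trans (one_mul c).symm))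
  have h2 := hle {((v : F) * b, (v : F) * c), (b, c)}
  rw [Finset.sum_pair hne] at h2
  dsimp only at h2
  omega

end CfsgLib.G2Deg
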