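import Cfsg.Agent.Lib.G2Deg.Three
import Cfsg.Agent.Lib.Chev.Twist.TypeG2

/-! The special endomorphism in characteristic three and transfers of multiplicities. -/

set_option autoImplicit false
set_option linter.unusedSectionVars false
set_option maxRecDepth 100000
set_option linter.style.haveILetI false

namespace CfsgLib.G2Deg

open CfsgLib.RadicalBound CfsgLib.OrthDeg CfsgLib.Chev

local notation "ψ" => CfsgLib.SympWeil.ψ

section Transfer

variable {G : Type*} [Group G] {A B : Type*} [AddCommGroup A] [Fintype A] [AddCommGroup B] [Fintype B] {k : ℕ}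

/-- Multiplicities under a change of parameters and of representation. -/
theorem mult_comp (f : A → G) (g : B → G) (ρ ρ' : Representation ℂ G (Fin k → ℂ)) (σ : A ≃+ B)
    (h : ∀ S, ρ' (f S) = ρ (g (σ S))) (χ : AddChar A ℂ) (χ' : AddChar B ℂ) (hχ : ∀ S, χ' (σ S) = χ S) :
    mult f ρ' χ = mult g ρ χ' := by
  have e : proj f ρ' χ = proj g ρ χ' := by
    unfold proj
    rw [Fintype.card_congr σ.toEquiv]
    congr 1
    refine Fintype.sum_equiv σ.toEquiv _ _ fun S => ?_
    show χ (-S) • ρ' (f S) = χ' (-(σ S)) • ρ (g (σ S))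
    rw [← map_neg σ, hχ, h]
  rw [mult, mult, e]

/-- Multiplicities under conjugation between two subgroups. -/
theorem mult_carry (f : A → G) (g : B → G) (ρ : Representation ℂ G (Fin k → ℂ))
    (hf : ∀ S T, f (S + T) = f S * f T) (hg : ∀ S T, g (S + T) = g S * g T) (σ : A ≃+ B) (x : G)
    (h : ∀ S, x * f S = g (σ S) * x) (χ : AddChar A ℂ) (χ' : AddChar B ℂ) (hχ : ∀ S, χ' (σ S) = χ S) :
    mult f ρ χ = mult g ρ χ' := by
  let g' : A → G := fun S => g (σ S)
  have hg' : ∀ S T, g' (S + T) = g' S * g' T := fun S T => by simp only [g', map_add, hg]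
  rw [← mult_comp g' g ρ ρ σ (fun S => rfl) χ χ' hχ]
  apply Nat.cast_injective (R := ℂ)
  rw [← trace_proj f ρ hf, ← trace_proj g' ρ hg']
  have e : proj g' ρ χ = ρ x * proj f ρ χ * ρ x⁻¹ := by
    simp only [proj, mul_smul_comm, smul_mul_assoc, Finset.mul_sum, Finset.sum_mul]
    congr 1
    refine Finset.sum_congr rfl fun S _ => ?_
    rw [← map_mul, ← map_mul, h, mul_assoc, mul_inv_cancel, mul_one]
  rw [e, LinearMap.trace_mul_comm, ← mul_assoc, ← map_mul, inv_mul_cancel, map_one, one_mul]

end Transfer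

variable {F : Type*} [Field F] [Fintype F] {k : ℕ}

/-- The dual substitution of an additive automorphism of the field. -/
theorem exists_dual (σ : F ≃+ F) :
    ∃ τ : F → F, (∀ c, τ c = 0 ↔ c = 0) ∧
      ∀ c u, (ψ : AddChar F ℂ) (τ c * u) = (ψ : AddChar F ℂ) (c * σ u) := by
  have h : ∀ c : F, ∃ d : F, ∀ u, (ψ : AddChar F ℂ) (d * u) = (ψ : AddChar F ℂ) (c * σ u) := fun c => by
    obtain ⟨d, hd⟩ := (chv_bijective (F := F) (n := 1)).2
      ((ψ : AddChar F ℂ).compAddMonoidHom
        (((AddMonoidHom.mulLeft c).comp σ.toAddMonoidHom).comp (Pi.evalAddMonoidHom _ 0)))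
    refine ⟨d 0, fun u => ?_⟩
    have e := DFunLike.congr_fun hd (fun _ => u)
    simpa [chv_apply] using e
  choose τ hτ using h
  refine ⟨τ, fun c => ⟨fun h0 => ψ_eq_one_iff.1 fun u => ?_, fun hc => ψ_eq_one_iff.1 fun u => ?_⟩, hτ⟩
  · have e := hτ c (σ.symm u)
    rw [h0, zero_mul, AddChar.map_zero_eq_one, AddEquiv.apply_symm_apply] at e
    exact e.symm
  · rw [hτ, hc, zero_mul, AddChar.map_zero_eq_one]

theorem charP_three (h : Fintype.card F % 3 = 0) : CharP F 3 := by
  obtain ⟨p, hp⟩ := CharP.exists F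
  haveI := hp
  obtain ⟨n, hpr, hn⟩ := FiniteField.card F p
  have h3 : 3 ∣ p ^ (n : ℕ) := hn ▸ Nat.dvd_of_mod_eq_zero h
  rwa [(Nat.prime_dvd_prime_iff_eq Nat.prime_three hpr).1 (Nat.prime_three.dvd_of_dvd_pow h3)]

/-- Cubing in characteristic three. -/
noncomputable def cube (F : Type*) [Field F] [Fintype F] [CharP F 3] : F ≃+ F :=
  haveI := Fact.mk Nat.prime_three
  AddEquiv.ofBijective (frobenius F 3).toAddMonoidHom
    (Finite.injective_iff_bijective.1 (frobenius F 3).injective)

theorem cube_apply [CharP F 3] (u : F) : cube F u = u ^ 3 := rfl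

/-- The images of the root elements under the special endomorphism. -/
theorem exists_special [CharP F 3] : ∃ α : GG F →* GG F, Function.Surjective α ∧
    (∀ t, α (xr 6 t) = xr 7 t) ∧ (∀ t, α (xr 7 t) = xr 6 (t ^ 3)) ∧ (∀ t, α (xr 8 t) = xr 10 (t ^ 3)) ∧
    (∀ t, α (xr 9 t) = xr 11 (t ^ 3)) ∧ (∀ t, α (xr 10 t) = xr 8 t) ∧ (∀ t, α (xr 11 t) = xr 9 t) := by
  haveI := Fact.mk Nat.prime_three
  obtain ⟨α, hs, hα⟩ := CfsgLib.Chev.chevG2.exists_mor (F := F) (CfsgLib.Chev.chevG2.adj_of_check adjG2)
    (CfsgLib.Chev.Chev.morOK_prime F 3 fun x =>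
      (Finite.injective_iff_surjective.mp (frobenius F 3).injective : Function.Surjective (frobenius F 3)) x)
    checkMorG2
  have key : ∀ (r s : Fin 12) (l : ℕ), morG2.ρ r.val = s.val → morG2.e r.val = 1 → morG2.l r.val = l →
      ∀ t : F, α (xr r t) = xr s (t ^ l) := by
    intro r s l h1 h2 h3 t
    refine Subtype.ext ?_
    have h := hα (r : Fin Cfsg.Lie.chevG2.nroots) t (xr r t) rfl
    erw [h]
    simp only [h2, h3, Int.cast_one, one_mul]
    exact congrArg (fun i : Fin Cfsg.Lie.chevG2.nroots =>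
      (CfsgLib.Chev.chevG2.toAlg.xg i (t ^ l) : GL Cfsg.Lie.chevG2.Idx F)) (Fin.ext h1)
  refine ⟨α, hs, fun t => ?_, fun t => key 7 6 3 (by decide +kernel) (by decide +kernel) (by decide +kernel) t,
    fun t => key 8 10 3 (by decide +kernel) (by decide +kernel) (by decide +kernel) t,
    fun t => key 9 11 3 (by decide +kernel) (by decide +kernel) (by decide +kernel) t, fun t => ?_, fun t => ?_⟩
  · simpa using key 6 7 1 (by decide +kernel) (by decide +kernel) (by decide +kernel) t
  · simpa using key 10 8 1 (by decide +kernel) (by decide +kernel) (by decide +kernel) t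
  · simpa using key 11 9 1 (by decide +kernel) (by decide +kernel) (by decide +kernel) t

/-- Composition with a surjective endomorphism keeps irreducibility. -/
theorem irreducible_comp {G : Type*} [Group G] (ρ : Representation ℂ G (Fin k → ℂ)) (hρ : ρ.IsIrreducible)
    (α : G →* G) (hα : Function.Surjective α) :
    Representation.IsIrreducible (show Representation ℂ G (Fin k → ℂ) from ρ.comp α) := by
  let e : Subrepresentation (show Representation ℂ G (Fin k → ℂ) from ρ.comp α) ≃o Subrepresentation ρ :=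
    { toFun := fun W => ⟨W.toSubmodule, fun g v hv => by
        obtain ⟨a, rfl⟩ := hα g
        exact W.apply_mem_toSubmodule a hv⟩
      invFun := fun W => ⟨W.toSubmodule, fun g v hv => W.apply_mem_toSubmodule (α g) hv⟩
      left_inv := fun W => rfl
      right_inv := fun W => rfl
      map_rel_iff' := Iff.rfl }
  haveI : IsSimpleOrder (Subrepresentation ρ) := hρ
  exact e.isSimpleOrder

end CfsgLib.G2Deg
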