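import Cfsg.Agent.Lib.G2Deg.Residual

/-! A small fixed space of the two highest roots gives weights of unrestricted ratio. -/

set_option autoImplicit false
set_option linter.unusedSectionVars false
set_option maxHeartbeats 1000000

namespace CfsgLib.G2Deg

open CfsgLib.RadicalBound CfsgLib.OrthDeg

local notation "ψ" => CfsgLib.SympWeil.ψ

variable {F : Type*} [Field F] [Fintype F] {k : ℕ} {ρ : Representation ℂ (GG F) (Fin k → ℂ)}

theorem ρ_cancel {x : GG F} (v : Fin k → ℂ) : ρ x (ρ x⁻¹ v) = v := by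
  rw [← Module.End.mul_apply, ← map_mul, mul_inv_cancel, map_one, Module.End.one_apply]

theorem ρ_injective (x : GG F) : Function.Injective (ρ x) := fun v w h => by
  have h' := congrArg (ρ x⁻¹) h
  rwa [← Module.End.mul_apply, ← Module.End.mul_apply, ← map_mul, inv_mul_cancel, map_one] at h'

theorem pp_nA (x : Fin k → ℂ) : ρ nA (pp ρ x) = pp ρ (ρ nA x) := by
  rw [pp_flip (ρ nA x), pp, Module.End.mul_apply, pz, Module.End.mul_apply,
    carries_av (carries_nA 6 10 (by rw [sA_eq]; rfl)), carries_av (carries_nA 10 6 (by rw [sA_eq]; rfl)),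
    carries_av (carries_nA 11 11 (by rw [sA_eq]; rfl))]

theorem pp_tor (a b : Fˣ) (x : Fin k → ℂ) : ρ (tor a b) (pp ρ x) = pp ρ (ρ (tor a b) x) :=
  pp_keep (carries_tor a b 6) (carries_tor a b 10) (carries_tor a b 11) x

theorem inP_smul {v : Fin k → ℂ} (z : ℂ) (h : InP ρ v) : InP ρ (z • v) :=
  ⟨fixed_smul z h.1, inZ_smul z h.2⟩

theorem inP_nA {v : Fin k → ℂ} (h : InP ρ v) : InP ρ (ρ nA v) := by
  rw [← pp_eq h, pp_nA]
  exact pp_mem _

theorem inP_tor {v : Fin k → ℂ} (a b : Fˣ) (h : InP ρ v) : InP ρ (ρ (tor a b) v) := by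
  rw [← pp_eq h, pp_tor]
  exact pp_mem _

variable (hq : 2 < Fintype.card F)
  (h89 : ∀ v : Fin k → ℂ, InP ρ v → Fixed ρ 8 v ∧ Fixed ρ 9 v)
  (hline : ∀ v v' : Fin k → ℂ, v ≠ 0 → InP ρ v → InP ρ v' → ∃ z : ℂ, v' = z • v)

include hq h89 hline in
/-- The line is fixed by the short fundamental rank one subgroup. -/
theorem line_fixed {v : Fin k → ℂ} (hv0 : v ≠ 0) (hv : InP ρ v) :
    Fixed ρ 7 v ∧ Fixed ρ 4 v ∧ ρ nA v = v := by
  have h8 := (h89 v hv).1
  have h9 := (h89 v hv).2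
  have hmem : ∀ t : F, InP ρ (ρ (xr 7 t) v) := fun t => by
    refine ⟨fun u => ?_, carries_fixed (carries_self 7 10 (by decide) (by decide +kernel) t) hv.2.1,
      carries_fixed (carries_self 7 11 (by decide) (by decide +kernel) t) hv.2.2⟩
    have e : xr 6 u * xr 7 t = xr 7 t * (xr 6 u * xr 8 (-(-t * u)) * xr 9 ((-t) ^ 2 * u) *
        xr 10 ((-t) ^ 3 * u) * xr 11 ((-t) ^ 3 * u ^ 2)) := by
      have h := x7_x6 (-t) u
      calc xr 6 u * xr 7 t = xr 7 t * (xr 7 (-t) * xr 6 u) * xr 7 t := by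
            rw [← mul_assoc, ← xr_add, add_neg_cancel, xr_zero, one_mul]
        _ = _ := by rw [h, mul_assoc, mul_assoc, ← xr_add, neg_add_cancel, xr_zero, mul_one]
    rw [← Module.End.mul_apply, ← map_mul, e]
    simp only [map_mul, Module.End.mul_apply]
    rw [hv.2.2, hv.2.1, h9, h8, hv.1]
  choose lam hlam using fun t => hline v _ hv0 hv (hmem t)
  have hinj : ∀ z z' : ℂ, z • v = z' • v → z = z' := fun z z' h => smul_left_injective ℂ hv0 h
  have hladd : ∀ s t, lam (s + t) = lam s * lam t := fun s t => hinj _ _ (by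
    rw [← hlam, xr_add, map_mul, Module.End.mul_apply, hlam t, map_smul, hlam s, smul_smul, mul_comm])
  obtain ⟨a, ha⟩ := exists_unit_ne_one hq
  have ha' : (a : F) - 1 ≠ 0 := sub_ne_zero.2 fun h => ha (Units.ext h)
  obtain ⟨z, hz⟩ := hline v _ hv0 hv (inP_tor a 1 hv)
  have hz0 : z ≠ 0 := fun h => hv0 (ρ_injective (ρ := ρ) (tor a 1) (by rw [hz, h, zero_smul, map_zero]))
  have hscale : ∀ t, lam ((a : F) * t) = lam t := fun t => by
    have e : tor a (1 : Fˣ) * xr 7 t = xr 7 ((a : F) * t) * tor a 1 := tor_xr a 1 7 t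
    have e2 := congrArg (fun x => ρ x v) e
    simp only [map_mul, Module.End.mul_apply, hlam, map_smul, hz, smul_smul] at e2
    exact mul_left_cancel₀ hz0 ((hinj _ _ e2).symm.trans (mul_comm _ _))
  have hl0 : ∀ t, lam t ≠ 0 := fun t h => hv0 (ρ_injective (ρ := ρ) (xr 7 t) (by rw [hlam, h, zero_smul, map_zero]))
  have h7 : Fixed ρ 7 v := fun u => by
    have e := hscale (u / ((a : F) - 1))
    rw [show (a : F) * (u / ((a : F) - 1)) = u + u / ((a : F) - 1) by field_simp; ring, hladd] at e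
    rw [hlam, (mul_eq_right₀ (hl0 _)).1 e, one_smul]
  obtain ⟨z', hz'⟩ := hline v _ hv0 hv (inP_nA hv)
  have hz'0 : z' ≠ 0 := fun h => hv0 (ρ_injective (ρ := ρ) nA (by rw [hz', h, zero_smul, map_zero]))
  have h4 : Fixed ρ 4 v := by
    have h := fixed_smul z'⁻¹ (carries_fixed (carries_nA (F := F) 7 4 (by rw [sA_eq]; rfl)) h7)
    rwa [hz', smul_smul, inv_mul_cancel₀ hz'0, one_smul] at h
  refine ⟨h7, h4, ?_⟩
  rw [nA_eq]
  simp only [map_mul, Module.End.mul_apply]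
  rw [h7, h4, h7]

/-- Evaluation of the translates on a functional. -/
theorem double_sum [DecidableEq F] {d : F} (hd : d ≠ 0) (K : F → F → ℂ) (L : F → ℂ) (K1 : ℂ)
    (h0 : K 0 0 = 1) (h1 : ∀ b, b ≠ 0 → K b 0 = K1) (h2 : ∀ b c, c ≠ 0 → K b c = L (b / c)) :
    (∑ b : F, (ψ : AddChar F ℂ) (d * b) * ∑ c : F, K b c) =
      1 - K1 + (Fintype.card F : ℂ) * L 0 - ∑ v, L v := by
  have hs0 : ∑ b ∈ Finset.univ.erase (0 : F), (ψ : AddChar F ℂ) (d * b) = -1 := by
    rw [Finset.sum_erase_eq_sub (Finset.mem_univ _), sum_ψ, if_neg hd, mul_zero, AddChar.map_zero_eq_one,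
      zero_sub]
  have hA : ∀ c ∈ Finset.univ.erase (0 : F), ∑ b : F, (ψ : AddChar F ℂ) (d * b) * K b c =
      ∑ v : F, L v * (ψ : AddChar F ℂ) (d * v * c) := fun c hc => by
    have hc' := (Finset.mem_erase.1 hc).1
    refine (Fintype.sum_equiv (Equiv.mulRight₀ c hc') _ _ fun v => ?_).symm
    rw [Equiv.mulRight₀_apply, h2 _ _ hc', mul_div_cancel_right₀ v hc', mul_comm, mul_assoc]
  simp only [Finset.mul_sum]
  rw [Finset.sum_comm, ← Finset.add_sum_erase _ _ (Finset.mem_univ (0 : F)),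
    Finset.sum_congr rfl hA, ← Finset.add_sum_erase _ _ (Finset.mem_univ (0 : F)), h0, mul_zero,
    AddChar.map_zero_eq_one, one_mul,
    Finset.sum_congr rfl (fun b hb => by rw [h1 b (Finset.mem_erase.1 hb).1]), ← Finset.sum_mul, hs0,
    Finset.sum_comm,
    Finset.sum_congr rfl (fun v _ => by
      rw [← Finset.mul_sum, Finset.sum_erase_eq_sub (Finset.mem_univ _), sum_ψ, mul_zero,
        AddChar.map_zero_eq_one, mul_sub, mul_one])]
  rw [Finset.sum_sub_distrib, Finset.sum_eq_single (0 : F) (fun v _ hv => by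
    rw [if_neg (mul_ne_zero hd hv), mul_zero]) (by simp), if_pos (mul_zero d)]
  ring

/-- The numerical step. -/
theorem eval_ne_zero {q : ℕ} (hq : 0 < q) {β : ℂ} (hβ : β ≠ 0)
    (h : (q : ℂ) * β ^ 2 = 1 + ((q : ℂ) - 1) * β) : 1 - β - (q : ℂ) * β ^ 3 ≠ 0 := by
  intro h0
  have e1 : β * (β - ((q : ℂ) + 1)) = 0 := by linear_combination (1 + β) * h + h0
  have e2 : β = (q : ℂ) + 1 := sub_eq_zero.1 ((mul_eq_zero.1 e1).resolve_left hβ)
  rw [e2] at h
  have e3 : ((q ^ 3 + q ^ 2 + q : ℕ) : ℂ) = ((0 : ℕ) : ℂ) := by push_cast; linear_combination h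
  exact absurd (Nat.cast_injective e3) (by positivity)

include hq h89 hline in
/-- The translates do not cancel against an eigenvector meeting the line. -/
theorem tv_ne_zero_line {χ : AddChar F ℂ} (hχ : χ ≠ 1) {f : Fin k → ℂ} (hf : InZ ρ f)
    (hf5 : ∀ u, ρ (xr 5 u) f = χ u • f) (hpp : pp ρ f ≠ 0) {d : F} (hd : d ≠ 0) : tv ρ d f ≠ 0 := by
  classical
  set v0 := pp ρ f with hv0def
  have hv : InP ρ v0 := pp_mem f
  obtain ⟨h7, h4, hA⟩ := line_fixed hq h89 hline hpp hv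
  obtain ⟨φ, hφ⟩ := LinearMap.exists_leftInverse_of_injective (LinearMap.toSpanSingleton ℂ (Fin k → ℂ) v0)
    (LinearMap.ker_toSpanSingleton ℂ hpp)
  have hφv : φ v0 = 1 := by
    have e := LinearMap.congr_fun hφ 1
    simpa using e
  let co : (Fin k → ℂ) →ₗ[ℂ] ℂ := φ ∘ₗ pp ρ
  have hco : ∀ x, pp ρ x = co x • v0 := fun x => by
    obtain ⟨z, hz⟩ := hline v0 _ hpp hv (pp_mem x)
    show _ = φ (pp ρ x) • v0
    rw [hz, map_smul, hφv, smul_eq_mul, mul_one]
  have cof : co f = 1 := hφv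
  have cov : co v0 = 1 := by
    show φ (pp ρ v0) = 1
    rw [pp_eq hv, hφv]
  let ch : Fˣ → Fˣ → ℂ := fun a b => co (ρ (tor a b) v0)
  have hch : ∀ a b, ρ (tor a b) v0 = ch a b • v0 := fun a b => by
    rw [← hco, pp_eq (inP_tor a b hv)]
  have cotor : ∀ a b x, co (ρ (tor a b) x) = ch a b * co x := fun a b x => by
    show φ (pp ρ (ρ (tor a b) x)) = _
    rw [← pp_tor, hco x, map_smul, hch, map_smul, map_smul, hφv, smul_eq_mul, smul_eq_mul, mul_one, mul_comm]
  have coA : ∀ x, co (ρ nA x) = co x := fun x => by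
    show φ (pp ρ (ρ nA x)) = _
    rw [← pp_nA, hco x, map_smul, hA, map_smul, hφv, smul_eq_mul, mul_one]
  have hAi : ρ nA⁻¹ v0 = v0 := by
    conv_lhs => rw [← hA]
    rw [← Module.End.mul_apply, ← map_mul, inv_mul_cancel, map_one, Module.End.one_apply]
  set β := co (ρ nB v0) with hβdef
  have coym : ∀ a b, co (ρ (ym a b) v0) = ch a b * β := fun a b => by
    rw [ym, map_mul, map_mul, map_mul, Module.End.mul_apply, Module.End.mul_apply, Module.End.mul_apply, hAi,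
      coA, cotor]
  have coy : ∀ a b x, co (pp ρ (ρ (ym a b) (pp ρ x))) = co x * (ch a b * β) := fun a b x => by
    show φ (pp ρ (pp ρ _)) = _
    rw [pp_eq (pp_mem _)]
    show co _ = _
    rw [hco x, map_smul, map_smul, coym, smul_eq_mul]
  have coz : ∀ x, co (pz ρ x) = co x := fun x => congrArg φ (pp_pz x)
  have co6 : ∀ s x, co (ρ (xr 6 s) x) = co x := fun s x => congrArg φ (pp_six s x)
  have coB : ∀ x, co (ρ nB (pp ρ x)) = co x * β := fun x => by
    rw [hco x, map_smul, map_smul, smul_eq_mul]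
  -- the values on the translates
  have hb : ∀ b : F, b ≠ 0 → ∃ a a' : Fˣ, co (ρ (xr 1 b * xr 0 0) f) = ch a a' * β := fun b hb => by
    obtain ⟨a, a', h⟩ := b_term (ρ := ρ) hb
    refine ⟨a, a', ?_⟩
    rw [xr_zero, mul_one, ← coz, h hf, coy, cof, one_mul]
  let L : F → ℂ := fun v => co (ρ nB⁻¹ (ρ (xr 6 v) f))
  have hc : ∀ b c : F, c ≠ 0 → ∃ a a' : Fˣ, co (ρ (xr 1 b * xr 0 c) f) = L (b / c) * (ch a a' * β) * β :=
    fun b c hc => by
    obtain ⟨a, a', h⟩ := c_term (ρ := ρ) b hc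
    refine ⟨a, a', ?_⟩
    rw [← coz, h hf, co6, coB]
    congr 1
    rw [hco (ρ nB⁻¹ _), map_smul, map_smul, coym]
    rfl
  have hT : co (tv ρ d f) = ∑ b : F, (ψ : AddChar F ℂ) (d * b) * ∑ c : F, co (ρ (xr 1 b * xr 0 c) f) := by
    simp only [tv, map_sum, map_smul, smul_eq_mul]
  intro h0
  rw [h0, map_zero] at hT
  have K00 : co (ρ (xr 1 0 * xr 0 0) f) = 1 := by rw [xr_zero, xr_zero, one_mul, map_one]; exact cof
  rcases eq_or_ne β 0 with hβ | hβ
  · rw [double_sum hd (fun b c => co (ρ (xr 1 b * xr 0 c) f)) (fun _ => 0) 0 K00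
      (fun b hb' => by obtain ⟨a, a', h⟩ := hb b hb'; rw [h, hβ, mul_zero])
      (fun b c hc' => by obtain ⟨a, a', h⟩ := hc b c hc'; rw [h, hβ, mul_zero])] at hT
    simp at hT
  -- the torus acts trivially on the line
  have hmul : ∀ a b a' b', ch a b * ch a' b' = ch (a * a') (b * b') := fun a b a' b' => by
    refine smul_left_injective ℂ hpp (?_ : (ch a b * ch a' b') • v0 = _ • v0)
    rw [← hch, ← tor_mul, map_mul, Module.End.mul_apply, hch a' b', map_smul, hch, smul_smul, mul_comm]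
  have hswap : ∀ a b, ch a b = ch (a * b) b⁻¹ := fun a b => by
    have e := cotor a b (ρ nB v0)
    rw [← Module.End.mul_apply, ← map_mul, tor_nB, map_mul, Module.End.mul_apply, hch, map_smul, map_smul,
      smul_eq_mul] at e
    exact (mul_right_cancel₀ hβ e).symm
  have h23 : ∀ t : Fˣ, ch (t ^ 2) (t ^ 3)⁻¹ = 1 := fun t => by
    show co (ρ (tor _ _) v0) = 1
    rw [tor_seven]
    simp only [map_mul, Module.End.mul_apply]
    rw [h7, h4, h7, h7, h4, h7, cov]
  have ht1 : ∀ t : Fˣ, ch t 1 = 1 := fun t => by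
    have e := hswap (t ^ 2) (t ^ 3)⁻¹
    rw [h23, inv_inv, show t ^ 2 * (t ^ 3)⁻¹ = t⁻¹ by rw [pow_succ t 2, mul_inv_rev, mul_comm t⁻¹,
      ← mul_assoc, mul_inv_cancel, one_mul]] at e
    have e2 := hmul (t ^ 2) (t ^ 3)⁻¹ t⁻¹ (t ^ 3)
    rw [h23, ← e, one_mul, inv_mul_cancel, pow_two, mul_inv_cancel_right] at e2
    exact e2.symm
  have hch1 : ∀ a b, ch a b = 1 := fun a b => by
    have e2 : ch 1 b * ch 1 b = 1 := by
      have e := hswap 1 b
      rw [one_mul] at e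
      have e' := hmul b 1 1 b⁻¹
      rw [ht1, one_mul, mul_one, one_mul, ← e] at e'
      conv_lhs => arg 2; rw [← e']
      rw [hmul, one_mul, mul_inv_cancel, ht1]
    have e3 : ch 1 b * ch 1 b * ch 1 b = 1 := by
      have e := hmul ((b⁻¹) ^ 2) 1 1 ((b⁻¹) ^ 3)⁻¹
      rw [ht1, one_mul, mul_one, one_mul, h23, inv_pow, inv_inv] at e
      rw [hmul, hmul, one_mul, one_mul, ← e, pow_succ b 2, pow_two]
    rw [e2, one_mul] at e3
    rw [← one_mul b, ← mul_one a, ← hmul, ht1, one_mul, e3]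
  have hBi : ρ nB⁻¹ v0 = ρ nB v0 := by
    refine ρ_injective (ρ := ρ) nB ?_
    rw [ρ_cancel, ← Module.End.mul_apply, ← map_mul, nB_sq, hch, hch1, one_smul]
  have hq5 : (Fintype.card F : ℂ) * β ^ 2 = 1 + ((Fintype.card F : ℂ) - 1) * β := by
    have h6 : Carries (nB : GG F) 6 5 := carries_nB 6 5 (by rw [sB_eq]; rfl)
    have h10 : Carries (nB : GG F) 10 11 := carries_nB 10 11 (by rw [sB_eq]; rfl)
    have h11 : Carries (nB : GG F) 11 10 := carries_nB 11 10 (by rw [sB_eq]; rfl)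
    have e := carries_av (ρ := ρ) h6 (ρ nB v0)
    rw [← pp_inZ (inZ_swap h10 h11 hv.2)] at e
    have e5 : co (∑ u : F, ρ (xr 5 u) v0) = (Fintype.card F : ℂ) * β ^ 2 := by
      rw [sum_root, map_smul, smul_eq_mul,
        show av ρ 5 v0 = ρ nB (pp ρ (ρ nB v0)) by rw [e, ← hBi, ρ_cancel], coB, pow_two]
    rw [← e5, map_sum, ← Finset.add_sum_erase _ _ (Finset.mem_univ (0 : F)), xr_zero, map_one,
      Module.End.one_apply, cov, Finset.sum_congr rfl (g := fun _ => β) (fun u hu => ?_), Finset.sum_const,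
      Finset.card_erase_of_mem (Finset.mem_univ _), Finset.card_univ, nsmul_eq_mul,
      Nat.cast_sub (Fintype.card_pos), Nat.cast_one]
    obtain ⟨a, b, hx⟩ := x5_eq u (Finset.mem_erase.1 hu).1
    rw [hx]
    simp only [map_mul, Module.End.mul_apply]
    rw [hv.1, co6, cotor, hch1, one_mul]
  have L0 : L 0 = 0 := by
    show co (ρ nB⁻¹ (ρ (xr 6 0) f)) = 0
    rw [xr_zero, map_one, Module.End.one_apply]
    show φ (pp ρ (ρ nB⁻¹ f)) = 0
    have hP : InZ ρ (ρ nB⁻¹ f) := inZ_swap (carries_nB 11 10 (by rw [sB_eq]; rfl)).inv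
      (carries_nB 10 11 (by rw [sB_eq]; rfl)).inv hf
    obtain ⟨e, he, h6⟩ := (carries_nB (F := F) 6 5 (by rw [sB_eq]; rfl))
    let χ' : AddChar F ℂ := χ.compAddMonoidHom (AddMonoidHom.mulLeft e)
    have hχ' : χ' ≠ 1 := fun h => hχ (DFunLike.ext _ _ fun u => by
      have := DFunLike.congr_fun h (e⁻¹ * u)
      simpa [χ', AddChar.compAddMonoidHom_apply, he] using this)
    rw [pp_inZ hP, av_eigen hχ' (fun u => ?_), map_zero]
    refine ρ_injective (ρ := ρ) nB ?_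
    rw [← Module.End.mul_apply, ← map_mul, h6, map_mul, Module.End.mul_apply, ρ_cancel, hf5, map_smul,
      ρ_cancel]
    rfl
  have Lsum : ∑ v, L v = (Fintype.card F : ℂ) * β := by
    show ∑ v, co (ρ nB⁻¹ (ρ (xr 6 v) f)) = _
    rw [← map_sum, ← map_sum, sum_root, map_smul, map_smul, ← pp_inZ hf, ← hv0def, hBi, smul_eq_mul]
  rw [double_sum hd (fun b c => co (ρ (xr 1 b * xr 0 c) f)) (fun v => L v * β * β) β K00
    (fun b hb' => by obtain ⟨a, a', h⟩ := hb b hb'; rw [h, hch1, one_mul])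
    (fun b c hc' => by obtain ⟨a, a', h⟩ := hc b c hc'; rw [h, hch1, one_mul]), L0, ← Finset.sum_mul,
    ← Finset.sum_mul, Lsum] at hT
  refine eval_ne_zero Fintype.card_pos hβ hq5 ?_
  linear_combination -hT

/-- The translates do not cancel against an eigenvector killed by the projection. -/
theorem tv_ne_zero_free {f : Fin k → ℂ} (hf : InZ ρ f) (hf0 : f ≠ 0) (hpp : pp ρ f = 0)
    (hL : ∀ v : F, pp ρ (ρ nB⁻¹ (ρ (xr 6 v) f)) = 0) (d : F) : tv ρ d f ≠ 0 := by
  classical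
  intro h0
  have e := congrArg (pz ρ) h0
  simp only [tv, map_sum, map_smul, map_zero] at e
  rw [Finset.sum_eq_single (0 : F) (fun b _ hb => by
    rw [Finset.sum_eq_zero, smul_zero]
    intro c _
    rcases eq_or_ne c 0 with rfl | hc
    · obtain ⟨α, β, h⟩ := b_term (ρ := ρ) hb
      rw [xr_zero, mul_one, h hf, hpp, map_zero, map_zero]
    · obtain ⟨α, β, h⟩ := c_term (ρ := ρ) b hc
      rw [h hf, hL, map_zero, map_zero, map_zero, map_zero]) (by simp),
    mul_zero, AddChar.map_zero_eq_one, one_smul,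
    Finset.sum_eq_single (0 : F) (fun c _ hc => by
      obtain ⟨α, β, h⟩ := c_term (ρ := ρ) 0 hc
      rw [h hf, hL, map_zero, map_zero, map_zero, map_zero]) (by simp),
    xr_zero, xr_zero, one_mul, map_one, Module.End.one_apply, pz_eq hf] at e
  exact hf0 e

include hq h89 hline in
/-- Weights of an arbitrary ratio occur on the fixed space of the highest root group. -/
theorem exists_pair {v : Fin k → ℂ} (hv0 : v ≠ 0) (hv : InZ ρ v)
    (h6 : ∀ u : F, ρ (xr 6 u) v = (ψ : AddChar F ℂ) u • v) {n : F} (hn : n ≠ 0) :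
    ∃ (a : F) (w : Fin k → ℂ), a ≠ 0 ∧ w ≠ 0 ∧ Fixed ρ 11 w ∧
      (∀ u, ρ (xr 6 u) w = (ψ : AddChar F ℂ) (a * n * u) • w) ∧
      (∀ u, ρ (xr 10 u) w = (ψ : AddChar F ℂ) (a * u) • w) := by
  classical
  obtain ⟨χ, f, hχ, hf, hf0, hf5, hgood⟩ : ∃ (χ : AddChar F ℂ) (f : Fin k → ℂ), χ ≠ 1 ∧ InZ ρ f ∧ f ≠ 0 ∧
      (∀ u, ρ (xr 5 u) f = χ u • f) ∧ ∀ d : F, d ≠ 0 → tv ρ d f ≠ 0 := by
    by_cases hA : ∀ (χ : AddChar F ℂ) (f : Fin k → ℂ), χ ≠ 1 → InZ ρ f →
        (∀ u, ρ (xr 5 u) f = χ u • f) → pp ρ f = 0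
    swap
    · simp only [not_forall] at hA
      obtain ⟨χ, f, hχ, hf, hf5, hpp⟩ := hA
      exact ⟨χ, f, hχ, hf, fun h => hpp (by rw [h, map_zero]), hf5,
        fun d hd => tv_ne_zero_line hq h89 hline hχ hf hf5 hpp hd⟩
    · obtain ⟨e, he, h65⟩ := carries_nB (F := F) 6 5 (by rw [sB_eq]; rfl)
      have h10 : Carries (nB : GG F) 10 11 := carries_nB 10 11 (by rw [sB_eq]; rfl)
      have h11 : Carries (nB : GG F) 11 10 := carries_nB 11 10 (by rw [sB_eq]; rfl)
      let χ : AddChar F ℂ := (ψ : AddChar F ℂ).compAddMonoidHom (AddMonoidHom.mulLeft e⁻¹)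
      have hχ : χ ≠ 1 := fun h => by
        obtain ⟨u, hu⟩ := CfsgLib.SympWeil.ψ_ne (inv_ne_zero he)
        exact hu (DFunLike.congr_fun h u)
      have hf5 : ∀ u, ρ (xr 5 u) (ρ nB v) = χ u • ρ nB v := fun u => by
        have e1 := h65 (e⁻¹ * u)
        rw [← mul_assoc e, mul_inv_cancel₀ he, one_mul] at e1
        rw [← Module.End.mul_apply, ← map_mul, ← e1, map_mul, Module.End.mul_apply, h6, map_smul]
        rfl
      have hf := inZ_swap h10 h11 hv
      have hpp := hA χ _ hχ hf hf5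
      refine ⟨χ, ρ nB v, hχ, hf, fun h => hv0 (ρ_injective (ρ := ρ) nB (by rw [h, map_zero])), hf5,
        fun d _ => tv_ne_zero_free hf (fun h => hv0 (ρ_injective (ρ := ρ) nB (by rw [h, map_zero]))) hpp
          (fun s => ?_) d⟩
      set g := ρ (xr 6 s) (ρ nB v) with hg
      have hgZ : InZ ρ g := inZ_six hf s
      set z := pp ρ (ρ nB⁻¹ g) with hz
      by_contra hz0
      have hzP : InP ρ z := pp_mem _
      have e1 := pp_line_split hgZ hA
      rw [hg, pp_six, hpp, ← hg, ← hz] at e1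
      have e2 := pp_line_split hzP.2 hA
      rw [pp_eq hzP] at e2
      obtain ⟨a, ha⟩ := hline z (pp ρ (ρ nB⁻¹ z)) hz0 hzP (pp_mem _)
      rw [ha, map_smul, map_smul, ← e1, smul_zero] at e2
      exact hz0 e2
  obtain ⟨a₀, ha₀, hχa⟩ : ∃ a₀ : F, a₀ ≠ 0 ∧ ∀ u, χ u = (ψ : AddChar F ℂ) (a₀ * u) := by
    obtain ⟨c, hc⟩ := (chv_bijective (F := F) (n := 1)).2 (χ.compAddMonoidHom (Pi.evalAddMonoidHom _ 0))
    have hcu : ∀ u, χ u = (ψ : AddChar F ℂ) (c 0 * u) := fun u => by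
      have e := DFunLike.congr_fun hc (fun _ => u)
      rw [chv_apply, AddChar.compAddMonoidHom_apply] at e
      simpa using e.symm
    refine ⟨c 0, fun h0 => hχ (DFunLike.ext _ _ fun u => ?_), hcu⟩
    rw [hcu, h0, zero_mul, AddChar.map_zero_eq_one, AddChar.one_apply]
  have hw := @carries_w0 F _ _
  obtain ⟨e0, he0, w0c⟩ := hw 0 1 5 6 10 11 11 (by rw [sB_eq]; rfl) (by rw [sA_eq]; rfl) (by rw [sB_eq]; rfl)
    (by rw [sA_eq]; rfl) (by rw [sB_eq]; rfl) (by rw [sA_eq]; rfl)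
  obtain ⟨e1, he1, w1c⟩ := hw 1 0 0 1 5 6 10 (by rw [sB_eq]; rfl) (by rw [sA_eq]; rfl) (by rw [sB_eq]; rfl)
    (by rw [sA_eq]; rfl) (by rw [sB_eq]; rfl) (by rw [sA_eq]; rfl)
  obtain ⟨e5, he5, w5c⟩ := hw 5 6 10 11 11 10 6 (by rw [sB_eq]; rfl) (by rw [sA_eq]; rfl) (by rw [sB_eq]; rfl)
    (by rw [sA_eq]; rfl) (by rw [sB_eq]; rfl) (by rw [sA_eq]; rfl)
  set w : GG F := (nA * nB) * (nA * nB) * (nA * nB) with hwdef
  set a : F := a₀ / e5 / n with hadef
  have ha : a ≠ 0 := div_ne_zero (div_ne_zero ha₀ he5) hn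
  set d : F := -(a * e1) with hddef
  refine ⟨a, ρ w (tv ρ d f), ha, fun h => hgood d (neg_ne_zero.2 (mul_ne_zero ha he1))
    (ρ_injective (ρ := ρ) w (by rw [h, map_zero])), ?_, fun u => ?_, fun u => ?_⟩
  · exact carries_fixed ⟨e0, he0, w0c⟩ (tv_zero d f)
  · have h1 := w5c (e5⁻¹ * u)
    rw [← mul_assoc e5, mul_inv_cancel₀ he5, one_mul] at h1
    rw [← Module.End.mul_apply, ← map_mul, ← h1, map_mul, Module.End.mul_apply,
      tv_five d χ hf5, map_smul, hχa]
    congr 2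
    rw [hadef]; field_simp
  · have h1 := w1c (e1⁻¹ * u)
    rw [← mul_assoc e1, mul_inv_cancel₀ he1, one_mul] at h1
    rw [← Module.End.mul_apply, ← map_mul, ← h1, map_mul, Module.End.mul_apply, tv_one, map_smul]
    congr 2
    rw [hddef]; field_simp

end CfsgLib.G2Deg
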