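import Cfsg.Agent.Lib.G2Deg.Small
import Cfsg.Agent.Lib.G2Deg.ResidualMain

/-! The degree bound outside characteristic three. -/

set_option autoImplicit false

namespace CfsgLib.G2Deg

open CfsgLib.RadicalBound CfsgLib.OrthDeg

variable {F : Type*} [Field F] [Fintype F] {k : ℕ} (ρ : Representation ℂ (GG F) (Fin k → ℂ))

theorem three_ne (h : Fintype.card F % 3 ≠ 0) : (3 : F) ≠ 0 := fun h3 => by
  have hd : ringChar F ∣ 3 := (ringChar.spec F 3).1 (by exact_mod_cast h3)
  rcases (Nat.dvd_prime Nat.prime_three).1 hd with h1 | h1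
  · exact CharP.ringChar_ne_one h1
  · haveI : CharP F 3 := ringChar.of_eq h1
    obtain ⟨n, -, hn⟩ := FiniteField.card F 3
    exact h (by rw [hn]; exact Nat.mod_eq_zero_of_dvd (dvd_pow_self 3 n.ne_zero) |> fun e => e)

/-- Cubing is not onto when the order is one modulo three. -/
theorem exists_noncube (h : Fintype.card F % 3 = 1) : ∃ n : F, n ≠ 0 ∧ ∀ t : F, t ^ 3 ≠ n := by
  classical
  haveI : Fact (Nat.Prime 3) := ⟨Nat.prime_three⟩
  obtain ⟨w, hw⟩ := exists_prime_orderOf_dvd_card' (G := Fˣ) 3 (by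
    rw [Nat.card_eq_fintype_card, Fintype.card_units]; omega)
  by_contra hc
  simp only [not_exists, not_and, not_forall, not_not] at hc
  have hs : Function.Surjective fun t : F => t ^ 3 := fun n => by
    rcases eq_or_ne n 0 with rfl | hn
    · exact ⟨0, zero_pow (by norm_num)⟩
    · exact hc n hn
  have hi := (Finite.injective_iff_surjective (f := fun t : F => t ^ 3)).2 hs
  have hw1 : (w : F) = 1 := hi (by
    show (w : F) ^ 3 = 1 ^ 3
    rw [one_pow, ← Units.val_pow_eq_pow_val, ← hw, pow_orderOf_eq_one, Units.val_one])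
  rw [Units.val_eq_one.1 hw1, orderOf_one] at hw
  norm_num at hw

/-- The bound outside characteristic three. -/
theorem not_three (hρ : ρ.IsIrreducible) (hk : 2 ≤ k) (h3 : Fintype.card F % 3 ≠ 0)
    (hq : 5 ≤ Fintype.card F) :
    Fintype.card F ^ 3 - 1 ≤ k ∧ (Fintype.card F % 3 = 1 → Fintype.card F ^ 3 + 1 ≤ k) := by
  classical
  have hF : (3 : F) ≠ 0 := three_ne h3
  have hq2 : 2 < Fintype.card F := by omega
  have hμ := mu_pos ρ hF hq2 hρ hk
  have hk' := degree_eq ρ hF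
  have hW := W11_split ρ hF
  obtain ⟨r, hr⟩ : ∃ r, Fintype.card F = r + 5 := ⟨Fintype.card F - 5, by omega⟩
  rw [hr, show r + 5 - 1 = r + 4 by omega] at hk' hW
  suffices H : Fintype.card F ^ 3 + 1 ≤ k ∨
      (mu ρ = 1 ∧ Cubic ρ ∧ ¬ (Fintype.card F + 1 ≤ R3 ρ)) by
    rcases H with H | ⟨h1, hC, hR⟩
    · exact ⟨(Nat.sub_le _ _).trans ((Nat.le_succ _).trans H), fun _ => H⟩
    refine ⟨?_, fun hmod => ?_⟩
    · have hge := hC.R3_ge hF h1
      rw [hr, show r + 5 - 1 = r + 4 by omega] at hge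
      rw [h1] at hk' hW
      have hge' : r + 4 ≤ R3 ρ := le_trans (Nat.le_add_right _ _) hge
      rw [mul_one] at hk' hW
      rw [hr, Nat.sub_le_iff_le_add]
      ring_nf at hk' hW ⊢
      omega
    · exfalso
      obtain ⟨h00, hz⟩ := hC.small hF h1 hq2 (by omega)
      obtain ⟨n, hn0, hn⟩ := exists_noncube (F := F) hmod
      obtain ⟨v, hv0, hvZ, hv6⟩ := exists_six (ρ := ρ) (d := 1)
        (by rw [hC.line hF h1 one_ne_zero]; exact one_ne_zero)
      obtain ⟨a, w, ha, hw0, hw11, hw6, hw10⟩ := exists_pair hq2 (fun x hx => inP_fixed hz hx)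
        (fun x y => inP_line hz h00) hv0 hvZ (fun u => by rw [hv6, one_mul]) hn0
      obtain ⟨b, c, hM⟩ := to_weight hw0 hw11 hw6 hw10
      obtain ⟨t, ht, -, -⟩ := hC.shape hF ha hM
      exact hn t (mul_right_cancel₀ ha (ht.symm.trans (mul_comm a n)))
  by_cases hR : Fintype.card F + 1 ≤ R3 ρ
  · left
    rw [hr] at hR ⊢
    have hμ1 : 1 ≤ mu ρ := hμ
    have e1 := Nat.mul_le_mul_left ((r + 4) * (r + 5)) hμ1
    have e2 := Nat.mul_le_mul_left ((r + 4) * (r + 5) ^ 2) hμ1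
    ring_nf at hk' hW e1 e2 ⊢
    omega
  rcases Nat.lt_or_ge (mu ρ) 2 with h2 | h2
  · have h1 : mu ρ = 1 := by omega
    by_cases hC : Cubic ρ
    · exact Or.inr ⟨h1, hC, hR⟩
    left
    simp only [Cubic, not_forall, exists_prop] at hC
    obtain ⟨d, e, l, hl, hde, hM⟩ := hC
    have hg := generic_bound ρ hF hl hde (Nat.pos_of_ne_zero hM)
    rw [hr, show r + 5 - 1 = r + 4 by omega] at hg
    rw [h1] at hk'
    rw [hr]
    nlinarith
  · left
    rw [hr]
    nlinarith [Nat.mul_le_mul_left ((r + 4) * (r + 5) ^ 2) h2]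

end CfsgLib.G2Deg
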