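import Cfsg.Agent.Lib.G2Deg.A4

/-! Pairs of roots acting on fixed spaces, in characteristic three. -/

set_option autoImplicit false
set_option linter.unusedSectionVars false
set_option linter.unnecessarySeqFocus false

namespace CfsgLib.G2Deg

open CfsgLib.RadicalBound CfsgLib.OrthDeg

local notation "ψ" => CfsgLib.SympWeil.ψ

variable {F : Type*} [Field F] [Fintype F] [CharP F 3] {k : ℕ} (ρ : Representation ℂ (GG F) (Fin k → ℂ))

local notation "fg" => (g3 : (Fin 3 → F) → GG F)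
local notation "fa" => (a4 : (Fin 4 → F) → GG F)

theorem single_g3 (x : Fin 3 → F) : g3 x = xr 9 (x 0) * xr 10 (x 1) * xr 11 (x 2) := rfl

/-- Transport criterion for a commuting element. -/
theorem stab_g3_comm (x : GG F) (h : ∀ r : Fin 12, r = 9 ∨ r = 10 ∨ r = 11 → ∀ u, x * xr r u = xr r u * x) :
    x ∈ stabG fg ρ :=
  mem_stabG fg ρ g3_add x (AddEquiv.refl _) fun S => by
    rw [AddEquiv.refl_apply, single_g3, ← mul_assoc, ← mul_assoc, h 9 (Or.inl rfl), mul_assoc (xr 9 _) x,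
      h 10 (Or.inr (Or.inl rfl)), ← mul_assoc, mul_assoc (xr 9 _ * xr 10 _) x, h 11 (Or.inr (Or.inr rfl))]
    group

theorem g3_stab7 (t : F) : xr 7 t ∈ stabG fg ρ := stab_g3_comm ρ _ (by
  rintro r (rfl | rfl | rfl) u
  · exact x79_comm t u
  · exact comm_xr 7 10 (by decide) (by decide +kernel) t u
  · exact comm_xr 7 11 (by decide) (by decide +kernel) t u)

theorem g3_stab8 (t : F) : xr 8 t ∈ stabG fg ρ := stab_g3_comm ρ _ (by
  rintro r (rfl | rfl | rfl) u
  · exact x89_comm t u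
  · exact comm_xr 8 10 (by decide) (by decide +kernel) t u
  · exact comm_xr 8 11 (by decide) (by decide +kernel) t u)

theorem g3_stab5 (v : F) : xr 5 v ∈ stabG fg ρ := by
  let L : (Fin 3 → F) →+ (Fin 3 → F) := AddMonoidHom.mk' (fun x => ![x 0, x 1 + v * x 2, x 2])
    fun S T => by funext i; fin_cases i <;> simp <;> ring
  refine mem_stabG fg ρ g3_add _ (subst L fun S T h => ?_) fun S => ?_
  · have h2 : S 2 = T 2 := congrFun h 2
    have h1 : S 1 + v * S 2 = T 1 + v * T 2 := congrFun h 1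
    funext i; fin_cases i
    · exact congrFun h 0
    · show S 1 = T 1; linear_combination h1 - v * h2
    · exact h2
  have c59 : xr 5 v * xr 9 (S 0) = xr 9 (S 0) * xr 5 v := comm_xr 5 9 (by decide) (by decide +kernel) _ _
  have c510 : xr 5 v * xr 10 (S 1) = xr 10 (S 1) * xr 5 v := comm_xr 5 10 (by decide) (by decide +kernel) _ _
  have c1110 : xr 11 (S 2) * xr 10 (v * S 2) = xr 10 (v * S 2) * xr 11 (S 2) :=
    comm_xr 11 10 (by decide) (by decide +kernel) _ _
  show xr 5 v * g3 S = g3 (![S 0, S 1 + v * S 2, S 2]) * xr 5 v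
  simp only [g3, Matrix.cons_val_zero, Matrix.cons_val_one, Matrix.cons_val]
  calc xr 5 v * (xr 9 (S 0) * xr 10 (S 1) * xr 11 (S 2))
      = xr 5 v * xr 9 (S 0) * xr 10 (S 1) * xr 11 (S 2) := by group
    _ = xr 9 (S 0) * (xr 5 v * xr 10 (S 1)) * xr 11 (S 2) := by rw [c59]; group
    _ = xr 9 (S 0) * xr 10 (S 1) * (xr 5 v * xr 11 (S 2)) := by rw [c510]; group
    _ = xr 9 (S 0) * xr 10 (S 1) * (xr 11 (S 2) * xr 10 (v * S 2)) * xr 5 v := by rw [x5_x11]; group
    _ = _ := by rw [c1110, xr_add]; group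

theorem g3_stabT (a b : Fˣ) : tor a b ∈ stabG fg ρ := by
  let L : (Fin 3 → F) →+ (Fin 3 → F) := AddMonoidHom.mk'
    (fun x => ![(wt a b 9 : F) * x 0, (wt a b 10 : F) * x 1, (wt a b 11 : F) * x 2])
    fun S T => by funext i; fin_cases i <;> simp <;> ring
  refine mem_stabG fg ρ g3_add _ (subst L fun S T h => ?_) fun S => ?_
  · funext i; fin_cases i
    · exact mul_left_cancel₀ (Units.ne_zero _) (congrFun h 0)
    · exact mul_left_cancel₀ (Units.ne_zero _) (congrFun h 1)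
    · exact mul_left_cancel₀ (Units.ne_zero _) (congrFun h 2)
  show tor a b * g3 S = g3 ![(wt a b 9 : F) * S 0, (wt a b 10 : F) * S 1, (wt a b 11 : F) * S 2] * tor a b
  simp only [g3, subst_apply, L, AddMonoidHom.mk'_apply, Matrix.cons_val_zero, Matrix.cons_val_one, Matrix.cons_val]
  simp only [← mul_assoc]
  rw [tor_xr, mul_assoc (xr 9 _), tor_xr, ← mul_assoc, mul_assoc (xr 9 _ * xr 10 _), tor_xr, ← mul_assoc]

theorem g3_stabB : (nB : GG F) ∈ stabG fg ρ := by
  obtain ⟨e9, h9, n9⟩ := carries_nB (F := F) 9 9 (by rw [sB_eq]; rfl)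
  obtain ⟨e10, h10, n10⟩ := carries_nB (F := F) 10 11 (by rw [sB_eq]; rfl)
  obtain ⟨e11, h11, n11⟩ := carries_nB (F := F) 11 10 (by rw [sB_eq]; rfl)
  let L : (Fin 3 → F) →+ (Fin 3 → F) := AddMonoidHom.mk' (fun x => ![e9 * x 0, e11 * x 2, e10 * x 1])
    fun S T => by funext i; fin_cases i <;> simp <;> ring
  refine mem_stabG fg ρ g3_add _ (subst L fun S T h => ?_) fun S => ?_
  · funext i; fin_cases i
    · exact mul_left_cancel₀ h9 (congrFun h 0)
    · exact mul_left_cancel₀ h10 (congrFun h 2)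
    · exact mul_left_cancel₀ h11 (congrFun h 1)
  have c1011 : xr 10 (e11 * S 2) * xr 11 (e10 * S 1) = xr 11 (e10 * S 1) * xr 10 (e11 * S 2) :=
    comm_xr 10 11 (by decide) (by decide +kernel) _ _
  show nB * g3 S = g3 ![e9 * S 0, e11 * S 2, e10 * S 1] * nB
  simp only [g3, subst_apply, L, AddMonoidHom.mk'_apply, Matrix.cons_val_zero, Matrix.cons_val_one, Matrix.cons_val]
  calc nB * (xr 9 (S 0) * xr 10 (S 1) * xr 11 (S 2))
      = nB * xr 9 (S 0) * xr 10 (S 1) * xr 11 (S 2) := by group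
    _ = xr 9 (e9 * S 0) * (nB * xr 10 (S 1)) * xr 11 (S 2) := by rw [n9]; group
    _ = xr 9 (e9 * S 0) * xr 11 (e10 * S 1) * (nB * xr 11 (S 2)) := by rw [n10]; group
    _ = xr 9 (e9 * S 0) * (xr 11 (e10 * S 1) * xr 10 (e11 * S 2)) * nB := by rw [n11]; group
    _ = _ := by rw [← c1011]; group

/-- The image of a root element on the fixed space of the three highest roots. -/
noncomputable def Y (r : Fin 12) (u : F) : SubG fg ρ := res fg ρ (xr r u)

theorem Y_zero (r : Fin 12) : Y ρ r 0 = 1 := by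
  rw [Y, xr_zero, show (1 : GG F) = g3 (0 : Fin 3 → F) by simp [g3, xr_zero]]
  exact res_apply fg ρ g3_add (mem_stabG_of_mem fg ρ g3_add 0)

theorem Y_nine (u : F) : res fg ρ (xr 9 u) = 1 := by
  rw [show xr 9 u = g3 ![u, 0, 0] by simp [g3, xr_zero]]
  exact res_apply fg ρ g3_add (mem_stabG_of_mem fg ρ g3_add _)

theorem Y_ten (u : F) : res fg ρ (xr 10 u) = 1 := by
  rw [show xr 10 u = g3 ![0, u, 0] by simp [g3, xr_zero]]
  exact res_apply fg ρ g3_add (mem_stabG_of_mem fg ρ g3_add _)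

theorem Y_eleven (u : F) : res fg ρ (xr 11 u) = 1 := by
  rw [show xr 11 u = g3 ![0, 0, u] by simp [g3, xr_zero]]
  exact res_apply fg ρ g3_add (mem_stabG_of_mem fg ρ g3_add _)

theorem g3_mem (r : Fin 12) (hr : r = 9 ∨ r = 10 ∨ r = 11) (u : F) : xr r u ∈ stabG fg ρ := by
  rcases hr with rfl | rfl | rfl
  · rw [show xr 9 u = g3 ![u, 0, 0] by simp [g3, xr_zero]]; exact mem_stabG_of_mem fg ρ g3_add _
  · rw [show xr 10 u = g3 ![0, u, 0] by simp [g3, xr_zero]]; exact mem_stabG_of_mem fg ρ g3_add _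
  · rw [show xr 11 u = g3 ![0, 0, u] by simp [g3, xr_zero]]; exact mem_stabG_of_mem fg ρ g3_add _

theorem Y78 (t u : F) : Y ρ 7 t * Y ρ 8 u = Y ρ 8 u * Y ρ 7 t := by
  show res fg ρ _ * res fg ρ _ = res fg ρ _ * res fg ρ _
  rw [← res_mul fg ρ (g3_stab7 ρ t) (g3_stab8 ρ u), x78_eq,
    res_mul fg ρ (mul_mem (g3_stab8 ρ u) (g3_mem ρ 9 (Or.inl rfl) _)) (g3_stab7 ρ t),
    res_mul fg ρ (g3_stab8 ρ u) (g3_mem ρ 9 (Or.inl rfl) _), Y_nine, mul_one]

theorem Y_add7 (s t : F) : Y ρ 7 (s + t) = Y ρ 7 s * Y ρ 7 t := by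
  rw [Y, xr_add]; exact res_mul fg ρ (g3_stab7 ρ s) (g3_stab7 ρ t)

theorem Y_add8 (s t : F) : Y ρ 8 (s + t) = Y ρ 8 s * Y ρ 8 t := by
  rw [Y, xr_add]; exact res_mul fg ρ (g3_stab8 ρ s) (g3_stab8 ρ t)

/-- The group of the roots a, a+b on the fixed space. -/
noncomputable def g78 (x : Fin 2 → F) : SubG fg ρ := Y ρ 7 (x 0) * Y ρ 8 (x 1)

theorem g78_add (S T : Fin 2 → F) : g78 ρ (S + T) = g78 ρ S * g78 ρ T := by
  simp only [g78, Pi.add_apply, Y_add7, Y_add8]
  rw [mul_assoc, ← mul_assoc (Y ρ 7 (T 0)), Y78]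
  simp only [mul_assoc]

/-- A multiplicity on the fixed space of the three highest roots. -/
noncomputable def M78 (a b : F) : ℕ := M (subRep fg ρ) (g78 ρ) ![a, b]

theorem M78_move (x : SubG fg ρ) (L : (Fin 2 → F) → (Fin 2 → F)) (hadd : ∀ S T, L (S + T) = L S + L T)
    (hinj : Function.Injective L) (hx : ∀ S, x * g78 ρ S = g78 ρ (L S) * x) (a b a' b' : F)
    (h : ∀ S : Fin 2 → F, a' * L S 0 + b' * L S 1 = a * S 0 + b * S 1) :
    M78 ρ a b = M78 ρ a' b' :=
  M_subst (subRep fg ρ) (g78 ρ) (g78_add ρ) x L hadd hinj hx _ _ fun S => by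
    simpa [Fin.sum_univ_two] using h S

theorem M78_shift (v a b : F) : M78 ρ a (b + v * a) = M78 ρ a b := by
  refine M78_move ρ (res fg ρ (xr 5 v)) (fun x => ![x 0 + v * x 1, x 1])
    (fun S T => by funext i; fin_cases i <;> simp <;> ring)
    (fun S T h => by
      have h1 : S 1 = T 1 := congrFun h 1
      have h0 : S 0 + v * S 1 = T 0 + v * T 1 := congrFun h 0
      funext i; fin_cases i
      · show S 0 = T 0; linear_combination h0 - v * h1
      · exact h1)
    (fun S => ?_) _ _ _ _ (fun S => by simp; ring)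
  have c57 : xr 5 v * xr 7 (S 0) = xr 7 (S 0) * xr 5 v := comm_xr 5 7 (by decide) (by decide +kernel) _ _
  have e7 : res fg ρ (xr 5 v) * Y ρ 7 (S 0) = Y ρ 7 (S 0) * res fg ρ (xr 5 v) := by
    rw [Y, ← res_mul fg ρ (g3_stab5 ρ v) (g3_stab7 ρ _), c57, res_mul fg ρ (g3_stab7 ρ _) (g3_stab5 ρ v)]
  have m8 := g3_stab8 ρ (S 1)
  have m7 := g3_stab7 ρ (v * S 1)
  have e8 : res fg ρ (xr 5 v) * Y ρ 8 (S 1) = Y ρ 8 (S 1) * Y ρ 7 (v * S 1) * res fg ρ (xr 5 v) := by
    rw [Y, Y, ← res_mul fg ρ (g3_stab5 ρ v) m8, x5_x8,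
      res_mul fg ρ (mul_mem (mul_mem (mul_mem (mul_mem m8 m7) (g3_mem ρ 9 (Or.inl rfl) _))
        (g3_mem ρ 11 (Or.inr (Or.inr rfl)) _)) (g3_mem ρ 10 (Or.inr (Or.inl rfl)) _)) (g3_stab5 ρ v),
      res_mul fg ρ (mul_mem (mul_mem (mul_mem m8 m7) (g3_mem ρ 9 (Or.inl rfl) _))
        (g3_mem ρ 11 (Or.inr (Or.inr rfl)) _)) (g3_mem ρ 10 (Or.inr (Or.inl rfl)) _),
      res_mul fg ρ (mul_mem (mul_mem m8 m7) (g3_mem ρ 9 (Or.inl rfl) _)) (g3_mem ρ 11 (Or.inr (Or.inr rfl)) _),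
      res_mul fg ρ (mul_mem m8 m7) (g3_mem ρ 9 (Or.inl rfl) _), res_mul fg ρ m8 m7, Y_nine, Y_ten, Y_eleven,
      mul_one, mul_one, mul_one]
  simp only [g78, Matrix.cons_val_zero, Matrix.cons_val_one]
  rw [← mul_assoc, e7, mul_assoc, e8, ← Y78, Y_add7]
  simp only [mul_assoc]

theorem M78_torus (a b : Fˣ) (x y : F) : M78 ρ ((wt a b 7 : F) * x) ((wt a b 8 : F) * y) = M78 ρ x y := by
  refine M78_move ρ (res fg ρ (tor a b)) (fun S => ![(wt a b 7 : F) * S 0, (wt a b 8 : F) * S 1])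
    (fun S T => by funext i; fin_cases i <;> simp <;> ring)
    (fun S T h => by
      funext i; fin_cases i
      · exact mul_left_cancel₀ (Units.ne_zero _) (congrFun h 0)
      · exact mul_left_cancel₀ (Units.ne_zero _) (congrFun h 1))
    (fun S => ?_) _ _ _ _ (fun S => by simp; ring)
  have h : ∀ (r : Fin 12) (u : F), (∀ w : F, xr r w ∈ stabG fg ρ) →
      res fg ρ (tor a b) * Y ρ r u = Y ρ r ((wt a b r : F) * u) * res fg ρ (tor a b) := fun r u hm => by
    rw [Y, Y, ← res_mul fg ρ (g3_stabT ρ a b) (hm u), tor_xr, res_mul fg ρ (hm _) (g3_stabT ρ a b)]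
  simp only [g78, Matrix.cons_val_zero, Matrix.cons_val_one]
  rw [← mul_assoc, h 7 _ (g3_stab7 ρ), mul_assoc, h 8 _ (g3_stab8 ρ), ← mul_assoc]

theorem M78_weyl : ∃ e e' : F, e ≠ 0 ∧ e' ≠ 0 ∧ ∀ a b, M78 ρ (e * b) (e' * a) = M78 ρ a b := by
  obtain ⟨e7, h7, n7⟩ := carries_nB (F := F) 7 8 (by rw [sB_eq]; rfl)
  obtain ⟨e8, h8, n8⟩ := carries_nB (F := F) 8 7 (by rw [sB_eq]; rfl)
  refine ⟨e7, e8, h7, h8, fun a b => ?_⟩
  refine M78_move ρ (res fg ρ nB) (fun S => ![e8 * S 1, e7 * S 0])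
    (fun S T => by funext i; fin_cases i <;> simp <;> ring)
    (fun S T h => by
      funext i; fin_cases i
      · exact mul_left_cancel₀ h7 (congrFun h 1)
      · exact mul_left_cancel₀ h8 (congrFun h 0))
    (fun S => ?_) _ _ _ _ (fun S => by simp; ring)
  have h : ∀ (r s : Fin 12) (e u : F), (∀ w : F, xr r w ∈ stabG fg ρ) → (∀ w : F, xr s w ∈ stabG fg ρ) →
      (∀ w, nB * xr r w = xr s (e * w) * nB) →
      res fg ρ nB * Y ρ r u = Y ρ s (e * u) * res fg ρ nB := fun r s e u hr hs hn => by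
    rw [Y, Y, ← res_mul fg ρ (g3_stabB ρ) (hr u), hn, res_mul fg ρ (hs _) (g3_stabB ρ)]
  simp only [g78, Matrix.cons_val_zero, Matrix.cons_val_one]
  rw [← mul_assoc, h 7 8 e7 _ (g3_stab7 ρ) (g3_stab8 ρ) n7, mul_assoc,
    h 8 7 e8 _ (g3_stab8 ρ) (g3_stab7 ρ) n8, ← mul_assoc, Y78]

/-- The common multiplicity on the short fundamental root. -/
noncomputable def rr : ℕ := M78 ρ 1 0

theorem M78_left {a : F} (ha : a ≠ 0) (b : F) : M78 ρ a b = rr ρ := by
  have h := M78_shift ρ (b / a) a 0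
  rw [zero_add, div_mul_cancel₀ b ha] at h
  have h2 := M78_torus ρ (Units.mk0 a ha) 1 1 0
  rw [mul_zero, mul_one] at h2
  rw [h, rr, ← h2]
  simp [wt]

open Classical in
/-- The weights of the root a+b inside the fixed space of the three highest roots. -/
theorem P8_sum (s : F) : P8 ρ s = ∑ a : F, M78 ρ a s := by
  have hX : ∀ u, xr 8 u ∈ stabG fg ρ := g3_stab8 ρ
  have hadd : ∀ S T : F, res fg ρ (xr 8 (S + T)) = res fg ρ (xr 8 S) * res fg ρ (xr 8 T) := Y_add8 ρ
  let χ' : AddChar F ℂ := (chv ![s, 0, 0, 0]).compAddMonoidHom (AddMonoidHom.single (fun _ : Fin 4 => F) 0)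
  let κ : (Fin 3 → F) →+ (Fin 4 → F) := AddMonoidHom.mk' (fun x => ![0, x 0, x 1, x 2])
    fun S T => by funext i; fin_cases i <;> simp
  have hsub := sub_mult fg ρ g3_add (xr 8 : F → GG F) hX hadd a4 a4_add (chv ![s, 0, 0, 0])
    (AddMonoidHom.single (fun _ : Fin 4 => F) 0) χ' rfl
    (fun u => by simp [a4, xr_zero]) κ
    (fun u => by simp [κ, a4, g3, xr_zero])
    (by ext u; simp [κ, chv_apply, Fin.sum_univ_four])
    (fun c => ⟨c 0, ![c 1, c 2, c 3], by funext i; fin_cases i <;> simp [κ]⟩)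
  have h1 := mult_chv (subRep fg ρ) (g78 ρ) (g78_add ρ) (AddMonoidHom.single (fun _ : Fin 2 => F) 1) χ'
    (fun c => c 1 = s) (fun c => by
      rw [DFunLike.ext_iff, ← ψ_eq_iff]
      refine forall_congr' fun u => ?_
      simp only [χ', AddChar.compAddMonoidHom_apply, chv_apply, AddMonoidHom.single_apply,
        Fin.sum_univ_four, Fin.sum_univ_two]
      simp)
  rw [P8, N, M, ← hsub]
  refine Eq.trans ?_ (h1.trans ?_)
  · congr 1
    funext u
    simp [g78, Y_zero]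
    rfl
  refine Finset.sum_bij' (fun c _ => c 0) (fun a _ => ![a, s]) (fun c _ => Finset.mem_univ _)
    (fun a _ => by simp) (fun c hc => by
      rw [Finset.mem_filter] at hc
      funext i; fin_cases i
      · rfl
      · exact hc.2.symm) (fun a _ => rfl) (fun c hc => by
      rw [Finset.mem_filter] at hc
      rw [M78]
      congr 1
      funext i; fin_cases i
      · rfl
      · exact hc.2)

/-- The weights of the root a+b form blocks of size q. -/
theorem P8_eq {s : F} (hs : s ≠ 0) : P8 ρ s = Fintype.card F * rr ρ := by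
  obtain ⟨e, e', he, -, hw⟩ := M78_weyl ρ
  have h : ∀ a : F, M78 ρ a s = rr ρ := fun a => by
    rcases eq_or_ne a 0 with rfl | ha
    · rw [← hw 0 s]; exact M78_left ρ (mul_ne_zero he hs) _
    · exact M78_left ρ ha s
  rw [P8_sum, Finset.sum_congr rfl fun a _ => h a, Finset.sum_const, Finset.card_univ, smul_eq_mul]

/-- A weight on the short fundamental root gives a vector fixed by the four roots. -/
theorem rr_vector (h : rr ρ ≠ 0) : ∃ v : Fin k → ℂ, v ≠ 0 ∧ (∀ S, ρ (a4 S) v = v) ∧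
    ∀ u : F, ρ (xr 7 u) v = (ψ : AddChar F ℂ) u • v := by
  obtain ⟨w, hw0, hw⟩ := exists_eigen (g78 ρ) (subRep fg ρ) (g78_add ρ) h
  refine ⟨emb fg ρ w, fun e => hw0 (emb_injective fg ρ (by rw [e, map_zero])), fun S => ?_, fun u => ?_⟩
  · have e : a4 S = xr 8 (S 0) * g3 ![S 1, S 2, S 3] := by simp [a4, g3, mul_assoc]
    rw [e, map_mul, Module.End.mul_apply, emb_fix fg ρ g3_add, ← emb_res fg ρ (g3_stab8 ρ _)]
    congr 1
    have h1 := hw ![0, S 0]
    rw [g78, Matrix.cons_val_zero, Y_zero, one_mul] at h1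
    simpa [Y, chv_apply, Fin.sum_univ_two] using h1
  · rw [← emb_res fg ρ (g3_stab7 ρ _), ← map_smul]
    congr 1
    have h1 := hw ![u, 0]
    rw [g78, show (![u, (0:F)] : Fin 2 → F) 1 = 0 from rfl, Y_zero, mul_one] at h1
    simpa [Y, chv_apply, Fin.sum_univ_two] using h1

/-- Weights of the roots b and a on the fixed space of the four roots. -/
theorem F8_bound (v7 v6 : Fin k → ℂ) (h70 : v7 ≠ 0) (h7f : ∀ S, ρ (a4 S) v7 = v7)
    (h7 : ∀ u : F, ρ (xr 7 u) v7 = (ψ : AddChar F ℂ) u • v7) (h60 : v6 ≠ 0) (h6f : ∀ S, ρ (a4 S) v6 = v6)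
    {c : F} (hc : c ≠ 0) (h6 : ∀ u : F, ρ (xr 6 u) v6 = (ψ : AddChar F ℂ) (c * u) • v6)
    (hq : 3 ≤ Fintype.card F) : 2 * (Fintype.card F - 1) ≤ F8 ρ := by
  classical
  have st7 : ∀ t : F, xr 7 t ∈ stabG fa ρ := fun t => by
    let L : (Fin 4 → F) →+ (Fin 4 → F) := AddMonoidHom.mk' (fun x => ![x 0, x 1 + t * x 0, x 2, x 3])
      fun S T => by funext i; fin_cases i <;> simp <;> ring
    refine mem_stabG fa ρ a4_add _ (subst L fun S T h => ?_) fun S => ?_
    · have h0 : S 0 = T 0 := congrFun h 0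
      have h1 : S 1 + t * S 0 = T 1 + t * T 0 := congrFun h 1
      funext i; fin_cases i
      · exact h0
      · show S 1 = T 1; linear_combination h1 - t * h0
      · exact congrFun h 2
      · exact congrFun h 3
    have c710 : xr 7 t * xr 10 (S 2) = xr 10 (S 2) * xr 7 t := comm_xr 7 10 (by decide) (by decide +kernel) _ _
    have c711 : xr 7 t * xr 11 (S 3) = xr 11 (S 3) * xr 7 t := comm_xr 7 11 (by decide) (by decide +kernel) _ _
    show xr 7 t * a4 S = a4 ![S 0, S 1 + t * S 0, S 2, S 3] * xr 7 t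
    simp only [a4, Matrix.cons_val_zero, Matrix.cons_val_one, Matrix.cons_val]
    simp only [← mul_assoc]
    rw [x78_eq, mul_assoc (xr 8 _ * xr 9 _) (xr 7 t), x79_comm, ← mul_assoc, mul_assoc (xr 8 _) (xr 9 _),
      ← xr_add, add_comm (t * S 0), mul_assoc (xr 8 _ * xr 9 _) (xr 7 t), c710, ← mul_assoc,
      mul_assoc _ (xr 7 t) (xr 11 _), c711, ← mul_assoc]
  have st6 : ∀ s : F, xr 6 s ∈ stabG fa ρ := fun s => by
    let L : (Fin 4 → F) →+ (Fin 4 → F) := AddMonoidHom.mk' (fun x => ![x 0, x 1, x 2, x 3 + s * x 2])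
      fun S T => by funext i; fin_cases i <;> simp <;> ring
    refine mem_stabG fa ρ a4_add _ (subst L fun S T h => ?_) fun S => ?_
    · have h2 : S 2 = T 2 := congrFun h 2
      have h3 : S 3 + s * S 2 = T 3 + s * T 2 := congrFun h 3
      funext i; fin_cases i
      · exact congrFun h 0
      · exact congrFun h 1
      · exact h2
      · show S 3 = T 3; linear_combination h3 - s * h2
    have c68 : xr 6 s * xr 8 (S 0) = xr 8 (S 0) * xr 6 s := comm_xr 6 8 (by decide) (by decide +kernel) _ _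
    have c69 : xr 6 s * xr 9 (S 1) = xr 9 (S 1) * xr 6 s := comm_xr 6 9 (by decide) (by decide +kernel) _ _
    have c611 : xr 6 s * xr 11 (S 3) = xr 11 (S 3) * xr 6 s := comm_xr 6 11 (by decide) (by decide +kernel) _ _
    show xr 6 s * a4 S = a4 ![S 0, S 1, S 2, S 3 + s * S 2] * xr 6 s
    simp only [a4, Matrix.cons_val_zero, Matrix.cons_val_one, Matrix.cons_val]
    simp only [← mul_assoc]
    rw [c68, mul_assoc (xr 8 _) (xr 6 s), c69, ← mul_assoc, mul_assoc (xr 8 _ * xr 9 _) (xr 6 s), x6_x10,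
      ← mul_assoc, ← mul_assoc, mul_assoc _ (xr 6 s) (xr 11 _), c611, ← mul_assoc,
      mul_assoc _ (xr 11 (s * S 2)), ← xr_add, add_comm (s * S 2)]
  have stT : ∀ a b : Fˣ, tor a b ∈ stabG fa ρ := fun a b => by
    let L : (Fin 4 → F) →+ (Fin 4 → F) := AddMonoidHom.mk' (fun x => ![(wt a b 8 : F) * x 0,
      (wt a b 9 : F) * x 1, (wt a b 10 : F) * x 2, (wt a b 11 : F) * x 3])
      fun S T => by funext i; fin_cases i <;> simp <;> ring
    refine mem_stabG fa ρ a4_add _ (subst L fun S T h => ?_) fun S => ?_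
    · funext i; fin_cases i
      · exact mul_left_cancel₀ (Units.ne_zero _) (congrFun h 0)
      · exact mul_left_cancel₀ (Units.ne_zero _) (congrFun h 1)
      · exact mul_left_cancel₀ (Units.ne_zero _) (congrFun h 2)
      · exact mul_left_cancel₀ (Units.ne_zero _) (congrFun h 3)
    show tor a b * a4 S = a4 ![(wt a b 8 : F) * S 0, (wt a b 9 : F) * S 1, (wt a b 10 : F) * S 2,
      (wt a b 11 : F) * S 3] * tor a b
    simp only [a4, subst_apply, L, AddMonoidHom.mk'_apply, Matrix.cons_val_zero, Matrix.cons_val_one,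
      Matrix.cons_val]
    simp only [← mul_assoc]
    rw [tor_xr, mul_assoc (xr 8 _), tor_xr, ← mul_assoc, mul_assoc (xr 8 _ * xr 9 _), tor_xr, ← mul_assoc,
      mul_assoc (xr 8 _ * xr 9 _ * xr 10 _), tor_xr, ← mul_assoc]
  have hr : ∀ S : Fin 4 → F, res fa ρ (a4 S) = 1 := fun S =>
    res_apply fa ρ a4_add (mem_stabG_of_mem fa ρ a4_add S)
  have h67 : ∀ s t : F, res fa ρ (xr 6 s) * res fa ρ (xr 7 t) = res fa ρ (xr 7 t) * res fa ρ (xr 6 s) := by
    intro s t
    have e : xr 6 s * xr 7 t = xr 7 t * a4 ![s * t, s * t ^ 2, -(s * t ^ 3), -(2 * s ^ 2 * t ^ 3)] * xr 6 s := by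
      rw [x6_x7]; simp [a4, mul_assoc]
    rw [← res_mul fa ρ (st6 s) (st7 t), e,
      res_mul fa ρ (mul_mem (st7 t) (mem_stabG_of_mem fa ρ a4_add _)) (st6 s),
      res_mul fa ρ (st7 t) (mem_stabG_of_mem fa ρ a4_add _), hr, mul_one]
  let g67 : (Fin 2 → F) → SubG fa ρ := fun x => res fa ρ (xr 6 (x 0)) * res fa ρ (xr 7 (x 1))
  have hg : ∀ S T, g67 (S + T) = g67 S * g67 T := fun S T => by
    simp only [g67, Pi.add_apply, xr_add]
    rw [res_mul fa ρ (st6 _) (st6 _), res_mul fa ρ (st7 _) (st7 _), mul_assoc, ← mul_assoc (res fa ρ (xr 6 (T 0))),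
      h67]
    simp only [mul_assoc]
  have hF : ∑ c : Fin 2 → F, M (subRep fa ρ) g67 c = F8 ρ := by
    rw [sum_M (subRep fa ρ) g67 hg, fixDim, F8, N, M]
    congr 1
    rw [← chv_zero]
    congr 1
    funext i; fin_cases i <;> rfl
  have hadd : ∀ (r : Fin 12), (∀ t : F, xr r t ∈ stabG fa ρ) → ∀ S T : F,
      res fa ρ (xr r (S + T)) = res fa ρ (xr r S) * res fa ρ (xr r T) := fun r hm S T => by
    rw [xr_add]; exact res_mul fa ρ (hm S) (hm T)
  have htor : ∀ (a b : Fˣ) (x y : F),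
      M (subRep fa ρ) g67 ![(b : F) * x, (a : F) * y] = M (subRep fa ρ) g67 ![x, y] := by
    intro a b x y
    refine M_subst (subRep fa ρ) g67 hg (res fa ρ (tor a b)) (fun S => ![(b : F) * S 0, (a : F) * S 1])
      (fun S T => by funext i; fin_cases i <;> simp <;> ring)
      (fun S T h => by
        funext i; fin_cases i
        · exact mul_left_cancel₀ (Units.ne_zero _) (congrFun h 0)
        · exact mul_left_cancel₀ (Units.ne_zero _) (congrFun h 1))
      (fun S => ?_) _ _ (fun S => by simp [Fin.sum_univ_two]; ring) |>.symm |> Eq.symm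
    simp only [g67, Matrix.cons_val_zero, Matrix.cons_val_one]
    have h6' := tor_xr a b 6 (S 0)
    have h7' := tor_xr a b 7 (S 1)
    simp only [wt, Matrix.cons_val] at h6' h7'
    rw [← mul_assoc, ← res_mul fa ρ (stT a b) (st6 _), h6', res_mul fa ρ (st6 _) (stT a b), mul_assoc,
      ← res_mul fa ρ (stT a b) (st7 _), h7', res_mul fa ρ (st7 _) (stT a b), ← mul_assoc]
  -- weights from the two vectors
  have hA : ∃ x : Fin 2 → F, x 1 ≠ 0 ∧ 0 < M (subRep fa ρ) g67 x := by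
    have hp := sub_pos fa ρ a4_add (xr 7 : F → GG F) st7 (hadd 7 st7) (χ := (ψ : AddChar F ℂ)) h70 h7f h7
    have e : (res fa ρ ∘ (xr 7 : F → GG F)) = g67 ∘ AddMonoidHom.single (fun _ : Fin 2 => F) 1 := by
      funext u
      have h0 : res fa ρ (xr 6 0) = 1 := by
        rw [xr_zero, show (1 : GG F) = a4 (0 : Fin 4 → F) by simp [a4, xr_zero]]; exact hr 0
      simp [g67, h0]
    rw [e, mult_chv (subRep fa ρ) g67 hg (AddMonoidHom.single (fun _ : Fin 2 => F) 1) (ψ : AddChar F ℂ)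
      (fun x => x 1 = 1) (fun x => by
        rw [DFunLike.ext_iff, ← ψ_eq_iff]
        refine forall_congr' fun u => ?_
        simp [AddChar.compAddMonoidHom_apply, chv_apply, Fin.sum_univ_two])] at hp
    obtain ⟨x, hx, hx'⟩ := Finset.exists_ne_zero_of_sum_ne_zero hp.ne'
    exact ⟨x, by rw [(Finset.mem_filter.1 hx).2]; exact one_ne_zero, Nat.pos_of_ne_zero hx'⟩
  have hB : ∃ x : Fin 2 → F, x 0 ≠ 0 ∧ 0 < M (subRep fa ρ) g67 x := by
    let χ : AddChar F ℂ := (ψ : AddChar F ℂ).compAddMonoidHom (AddMonoidHom.mulLeft c)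
    have hp := sub_pos fa ρ a4_add (xr 6 : F → GG F) st6 (hadd 6 st6) (χ := χ) h60 h6f h6
    have e : (res fa ρ ∘ (xr 6 : F → GG F)) = g67 ∘ AddMonoidHom.single (fun _ : Fin 2 => F) 0 := by
      funext u
      have h0 : res fa ρ (xr 7 0) = 1 := by
        rw [xr_zero, show (1 : GG F) = a4 (0 : Fin 4 → F) by simp [a4, xr_zero]]; exact hr 0
      simp [g67, h0]
    rw [e, mult_chv (subRep fa ρ) g67 hg (AddMonoidHom.single (fun _ : Fin 2 => F) 0) χ
      (fun x => x 0 = c) (fun x => by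
        rw [DFunLike.ext_iff, ← ψ_eq_iff]
        refine forall_congr' fun u => ?_
        simp [χ, AddChar.compAddMonoidHom_apply, chv_apply, Fin.sum_univ_two])] at hp
    obtain ⟨x, hx, hx'⟩ := Finset.exists_ne_zero_of_sum_ne_zero hp.ne'
    exact ⟨x, by rw [(Finset.mem_filter.1 hx).2]; exact hc, Nat.pos_of_ne_zero hx'⟩
  obtain ⟨x, hx1, hxp⟩ := hA
  obtain ⟨y, hy0, hyp⟩ := hB
  have hcardU : Fintype.card Fˣ = Fintype.card F - 1 := Fintype.card_units _
  have eta : ∀ z : Fin 2 → F, ![z 0, z 1] = z := fun z => by funext i; fin_cases i <;> rfl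
  have lower : ∀ s : Finset (Fin 2 → F), (∀ z ∈ s, 0 < M (subRep fa ρ) g67 z) → s.card ≤ F8 ρ := fun s hs => by
    rw [← hF, Finset.card_eq_sum_ones]
    exact (Finset.sum_le_sum fun z hz => hs z hz).trans (Finset.sum_le_sum_of_subset (Finset.subset_univ s))
  have both : ∀ z : Fin 2 → F, z 0 ≠ 0 → z 1 ≠ 0 → 0 < M (subRep fa ρ) g67 z →
      2 * (Fintype.card F - 1) ≤ F8 ρ := by
    intro z h0 h1 hz
    let P : Fˣ × Fˣ → Fin 2 → F := fun p => ![(p.1 : F) * z 0, (p.2 : F) * z 1]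
    have hP : Function.Injective P := fun p p' e => Prod.ext (Units.ext (mul_right_cancel₀ h0 (congrFun e 0)))
      (Units.ext (mul_right_cancel₀ h1 (congrFun e 1)))
    refine le_trans ?_ (lower (Finset.univ.map ⟨P, hP⟩) fun w hw => by
      obtain ⟨p, -, rfl⟩ := Finset.mem_map.1 hw
      show 0 < M (subRep fa ρ) g67 ![(p.1 : F) * z 0, (p.2 : F) * z 1]
      rw [htor, eta]
      exact hz)
    rw [Finset.card_map, Finset.card_univ, Fintype.card_prod, hcardU]
    exact Nat.mul_le_mul_right _ (by omega)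
  rcases eq_or_ne (x 0) 0 with hx0 | hx0
  swap
  · exact both x hx0 hx1 hxp
  rcases eq_or_ne (y 1) 0 with hy1 | hy1
  swap
  · exact both y hy0 hy1 hyp
  let P : Fˣ ⊕ Fˣ → Fin 2 → F := Sum.elim (fun a => ![0, (a : F) * x 1]) (fun b => ![(b : F) * y 0, 0])
  have hP : Function.Injective P := by
    rintro (a | b) (a' | b') e
    · exact congrArg Sum.inl (Units.ext (mul_right_cancel₀ hx1 (congrFun e 1)))
    · exact absurd (congrFun e 1) (mul_ne_zero a.ne_zero hx1)
    · exact absurd (congrFun e 1).symm (mul_ne_zero a'.ne_zero hx1)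
    · exact congrArg Sum.inr (Units.ext (mul_right_cancel₀ hy0 (congrFun e 0)))
  refine le_trans ?_ (lower (Finset.univ.map ⟨P, hP⟩) fun w hw => by
    obtain ⟨p, -, rfl⟩ := Finset.mem_map.1 hw
    rcases p with a | b
    · show 0 < M (subRep fa ρ) g67 ![0, (a : F) * x 1]
      rw [show ![(0 : F), (a : F) * x 1] = ![((1 : Fˣ) : F) * x 0, (a : F) * x 1] by rw [hx0, mul_zero],
        htor, eta]
      exact hxp
    · show 0 < M (subRep fa ρ) g67 ![(b : F) * y 0, 0]
      rw [show ![(b : F) * y 0, (0 : F)] = ![(b : F) * y 0, ((1 : Fˣ) : F) * y 1] by rw [hy1, mul_zero],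
        htor, eta]
      exact hyp)
  rw [Finset.card_map, Finset.card_univ, Fintype.card_sum, hcardU]
  omega

end CfsgLib.G2Deg
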