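import Cfsg.Agent.Lib.Chev.Twist.UnipG2
import Cfsg.Agent.Lib.Chev.InvolutionsG2
import Cfsg.Agent.Lib.G2Odd.Basic
import Cfsg.Agent.Lib.Chev.CharDiag

/-! Root elements, torus and Weyl elements of the group of type G2. -/

set_option autoImplicit false
set_option linter.unusedSectionVars false
set_option maxRecDepth 100000
set_option linter.unusedSimpArgs false

namespace CfsgLib.G2Deg

open Cfsg.Lie CfsgLib.Chev

variable {F : Type*} [Field F]

/-- The group. -/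
abbrev GG (F : Type*) [Field F] := ↥(Cfsg.Lie.chevG2.group F)

local notation "Φ" => CfsgLib.Chev.chevG2

/-- A root element of the group. -/
noncomputable def xr (r : Fin 12) (t : F) : GG F :=
  ⟨(Φ).toAlg.xg (r : Fin Cfsg.Lie.chevG2.nroots) t, (Φ).toAlg.xg_mem_group _ _⟩

theorem xr_val (r : Fin 12) (t : F) : ((xr r t : GG F) : GL Cfsg.Lie.chevG2.Idx F) =
    (Φ).toAlg.xg (r : Fin Cfsg.Lie.chevG2.nroots) t := rfl

theorem xr_add (r : Fin 12) (s t : F) : xr r (s + t) = xr r s * xr r t :=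
  Subtype.ext ((Φ).toAlg.xg_add (r : Fin Cfsg.Lie.chevG2.nroots) s t)

theorem xr_zero (r : Fin 12) : xr r (0 : F) = 1 := by
  have h := xr_add r (0 : F) 0
  rwa [add_zero, left_eq_mul] at h

theorem xr_neg (r : Fin 12) (t : F) : xr r (-t) = (xr r t)⁻¹ :=
  eq_inv_of_mul_eq_one_left (by rw [← xr_add, neg_add_cancel, xr_zero])

/-- The product of the terms of a commutator. -/
noncomputable def terms (r s : Fin 12) (t u : F) : GG F :=
  ((Cfsg.Lie.chevG2.commTerms r.val s.val).map fun c =>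
    if h : c.1 < 12 then xr ⟨c.1, h⟩ ((c.2.1 : F) * t ^ c.2.2.1 * u ^ c.2.2.2) else 1).prod

theorem conj_eq (r s : Fin 12) (hne : s ≠ r) (hneg : s.val ≠ Cfsg.Lie.chevG2.neg r.val) (t u : F) :
    xr r t * xr s u = xr s u * terms r s t u * xr r t := by
  have h := CfsgLib.Chev.T2G2.rel (K := F) (r : Fin Cfsg.Lie.chevG2.nroots) s hne hneg (-t) u
  have h' : xr s u * xr r (-t) = xr r (-t) * xr s u * terms r s t u := Subtype.ext (by
    simp only [Subgroup.coe_mul, xr_val]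
    refine h.trans ?_
    congr 1
    have hcoe : ((terms r s t u : GG F) : GL Cfsg.Lie.chevG2.Idx F) =
        ((Cfsg.Lie.chevG2.commTerms r.val s.val).map fun c =>
          ((if h : c.1 < 12 then xr ⟨c.1, h⟩ ((c.2.1 : F) * t ^ c.2.2.1 * u ^ c.2.2.2) else 1 : GG F) :
            GL Cfsg.Lie.chevG2.Idx F)).prod := by
      rw [terms, ← Subgroup.subtype_apply, map_list_prod, List.map_map]
      rfl
    rw [hcoe]
    congr 1
    refine List.map_congr_left fun c _ => ?_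
    by_cases hc : c.1 < 12
    · rw [dif_pos hc]
      erw [dif_pos hc]
      simp only [neg_neg]
      rfl
    · rw [dif_neg hc]
      erw [dif_neg hc]
      rfl)
  calc xr r t * xr s u = xr r t * (xr s u * xr r (-t)) * xr r t := by
        rw [mul_assoc, mul_assoc (xr s u), ← xr_add r (-t) t, neg_add_cancel, xr_zero, mul_one]
    _ = xr r t * (xr r (-t) * xr s u * terms r s t u) * xr r t := by rw [h']
    _ = _ := by rw [← mul_assoc, ← mul_assoc, ← xr_add, add_neg_cancel, xr_zero, one_mul]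

theorem comm_xr (r s : Fin 12) (hneg : s.val ≠ Cfsg.Lie.chevG2.neg r.val)
    (h : (Cfsg.Lie.chevG2.commTerms r.val s.val) = []) (t u : F) :
    xr r t * xr s u = xr s u * xr r t := by
  rcases eq_or_ne s r with rfl | hne
  · rw [← xr_add, ← xr_add, add_comm]
  · rw [conj_eq r s hne hneg, terms, h, List.map_nil, List.prod_nil, mul_one]

theorem x5_x8 (v u : F) : xr 5 v * xr 8 u =
    xr 8 u * xr 7 (v * u) * xr 9 (-(v * u ^ 2)) * xr 11 (v * u ^ 3) * xr 10 (2 * v ^ 2 * u ^ 3) * xr 5 v := by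
  rw [conj_eq 5 8 (by decide) (by decide), terms,
    show Cfsg.Lie.chevG2.commTerms (5 : Fin 12).val (8 : Fin 12).val =
      [(7, 1, 1, 1), (9, -1, 1, 2), (11, 1, 1, 3), (10, 2, 2, 3)] by decide +kernel]
  simp [mul_assoc]

theorem x5_x11 (v u : F) : xr 5 v * xr 11 u = xr 11 u * xr 10 (v * u) * xr 5 v := by
  rw [conj_eq 5 11 (by decide) (by decide), terms,
    show Cfsg.Lie.chevG2.commTerms (5 : Fin 12).val (11 : Fin 12).val = [(10, 1, 1, 1)] by decide +kernel]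
  simp

theorem x6_x7 (s u : F) : xr 6 s * xr 7 u =
    xr 7 u * xr 8 (s * u) * xr 9 (s * u ^ 2) * xr 10 (-(s * u ^ 3)) * xr 11 (-(2 * s ^ 2 * u ^ 3)) * xr 6 s := by
  rw [conj_eq 6 7 (by decide) (by decide), terms,
    show Cfsg.Lie.chevG2.commTerms (6 : Fin 12).val (7 : Fin 12).val =
      [(8, 1, 1, 1), (9, 1, 1, 2), (10, -1, 1, 3), (11, -2, 2, 3)] by decide +kernel]
  simp [mul_assoc]

theorem x6_x10 (s u : F) : xr 6 s * xr 10 u = xr 10 u * xr 11 (s * u) * xr 6 s := by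
  rw [conj_eq 6 10 (by decide) (by decide), terms,
    show Cfsg.Lie.chevG2.commTerms (6 : Fin 12).val (10 : Fin 12).val = [(11, 1, 1, 1)] by decide +kernel]
  simp

theorem x6_x0 (s u : F) : xr 6 s * xr 0 u = xr 0 u * xr 1 (-(s * u)) * xr 6 s := by
  rw [conj_eq 6 0 (by decide) (by decide), terms,
    show Cfsg.Lie.chevG2.commTerms (6 : Fin 12).val (0 : Fin 12).val = [(1, -1, 1, 1)] by decide +kernel]
  simp

theorem x7_x6 (t u : F) : xr 7 t * xr 6 u =
    xr 6 u * xr 8 (-(t * u)) * xr 9 (t ^ 2 * u) * xr 10 (t ^ 3 * u) * xr 11 (t ^ 3 * u ^ 2) * xr 7 t := by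
  rw [conj_eq 7 6 (by decide) (by decide), terms,
    show Cfsg.Lie.chevG2.commTerms (7 : Fin 12).val (6 : Fin 12).val =
      [(8, -1, 1, 1), (9, 1, 2, 1), (10, 1, 3, 1), (11, 1, 3, 2)] by decide +kernel]
  simp [mul_assoc]

theorem x7_x8 (t u : F) : xr 7 t * xr 8 u =
    xr 8 u * xr 9 (-(2 * t * u)) * xr 10 (-(3 * t ^ 2 * u)) * xr 11 (3 * t * u ^ 2) * xr 7 t := by
  rw [conj_eq 7 8 (by decide) (by decide), terms,
    show Cfsg.Lie.chevG2.commTerms (7 : Fin 12).val (8 : Fin 12).val =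
      [(9, -2, 1, 1), (10, -3, 2, 1), (11, 3, 1, 2)] by decide +kernel]
  simp [mul_assoc]

theorem x7_x9 (t u : F) : xr 7 t * xr 9 u = xr 9 u * xr 10 (3 * t * u) * xr 7 t := by
  rw [conj_eq 7 9 (by decide) (by decide), terms,
    show Cfsg.Lie.chevG2.commTerms (7 : Fin 12).val (9 : Fin 12).val = [(10, 3, 1, 1)] by decide +kernel]
  simp

theorem x8_x9 (s u : F) : xr 8 s * xr 9 u = xr 9 u * xr 11 (3 * s * u) * xr 8 s := by
  rw [conj_eq 8 9 (by decide) (by decide), terms,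
    show Cfsg.Lie.chevG2.commTerms (8 : Fin 12).val (9 : Fin 12).val = [(11, 3, 1, 1)] by decide +kernel]
  simp

theorem x8_x7 (s u : F) : xr 8 s * xr 7 u =
    xr 7 u * xr 9 (2 * s * u) * xr 11 (3 * s ^ 2 * u) * xr 10 (-(3 * s * u ^ 2)) * xr 8 s := by
  rw [conj_eq 8 7 (by decide) (by decide), terms,
    show Cfsg.Lie.chevG2.commTerms (8 : Fin 12).val (7 : Fin 12).val =
      [(9, 2, 1, 1), (11, 3, 2, 1), (10, -3, 1, 2)] by decide +kernel]
  simp [mul_assoc]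

/-- The weight of a root at the values on the fundamental roots. -/
def wt (a b : Fˣ) : Fin 12 → Fˣ :=
  ![(a ^ 3 * b ^ 2)⁻¹, (a ^ 3 * b)⁻¹, (a ^ 2 * b)⁻¹, (a * b)⁻¹, a⁻¹, b⁻¹, b, a, a * b, a ^ 2 * b, a ^ 3 * b,
    a ^ 3 * b ^ 2]

theorem coChar_seven (t : Fˣ) :
    (Φ).coChar (7 : Fin 12) t = (![t ^ 2, (t ^ 3)⁻¹] : Fin 2 → Fˣ) := by
  have hC : ∀ k : Fin 2, (Φ).C (7 : Fin 12) k = ![(1 : ℤ), 0] k := fun k => by
    have h : ∀ k : Fin 2, (Cfsg.Lie.chevG2.coroot.getD 7 #[]).getD k.val 0 = ![(1 : ℤ), 0] k := by decide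
    exact ((Φ).coroot_eq (7 : Fin 12) k).symm.trans (h k)
  have hA : ∀ i k : Fin 2, (Φ).A i ((Φ).p k) = ![![(2 : ℤ), -3], ![-1, 2]] i k := fun i k => by
    have h1 := CfsgLib.G2SL3.cartan_simple i k
    rw [← (Φ).cartan_val i ((Φ).p k), ← (Φ).simple_val k]
    exact h1
  funext j
  show t ^ (∑ k, (Φ).C (7 : Fin 12) k * (Φ).A k ((Φ).p j)) = _
  have e : (∑ k, (Φ).C (7 : Fin 12) k * (Φ).A k ((Φ).p j)) = ![![(2 : ℤ), -3], ![-1, 2]] 0 j := by
    refine (Fin.sum_univ_two _).trans ?_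
    erw [hC 0, hC 1, hA 0 j, hA 1 j]
    simp
  rw [e]
  revert j
  show ∀ j : Fin 2, _
  intro j _
  fin_cases j <;> simp [zpow_ofNat]

/-- The values on the fundamental roots. -/
def cvec (a b : Fˣ) : Fin Cfsg.Lie.chevG2.rank → Fˣ := ![a, b]

theorem cvec_mul (a b a' b' : Fˣ) : cvec a b * cvec a' b' = cvec (a * a') (b * b') := by
  funext j
  revert j
  show ∀ j : Fin 2, _
  intro j
  fin_cases j <;> rfl

theorem torus_mem (a b : Fˣ) :
    (Φ).toAlg.torus (cvec a b) ∈ Cfsg.Lie.chevG2.group F := by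
  have e : (Φ).toAlg.torus (cvec a b) =
      (Φ).hw (7 : Fin 12) (a ^ 2 * b) * (Φ).hw (CfsgLib.G2Odd.R 6) (a ^ 3 * b ^ 2) := by
    erw [(Φ).hw_eq, (Φ).hw_eq, ← map_mul, coChar_seven, CfsgLib.G2Odd.coChar_six]
    congr 1
    show (![a, b] : Fin 2 → Fˣ) = (![(a ^ 2 * b) ^ 2, ((a ^ 2 * b) ^ 3)⁻¹] : Fin 2 → Fˣ) *
      ![(a ^ 3 * b ^ 2)⁻¹, (a ^ 3 * b ^ 2) ^ 2]
    funext j
    fin_cases j <;>
    · apply Units.ext
      simp
      field_simp
  rw [e]
  exact mul_mem (mul_mem ((Φ).nw_mem_group _ _) ((Φ).nw_mem_group _ _))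
    (mul_mem ((Φ).nw_mem_group _ _) ((Φ).nw_mem_group _ _))

/-- A torus element. -/
noncomputable def tor (a b : Fˣ) : GG F := ⟨_, torus_mem a b⟩

theorem tor_mul (a b a' b' : Fˣ) : tor a b * tor a' b' = tor (a * a') (b * b') := by
  refine Subtype.ext ?_
  show (Φ).toAlg.torus (cvec a b) * (Φ).toAlg.torus (cvec a' b') = (Φ).toAlg.torus (cvec (a * a') (b * b'))
  rw [← cvec_mul]
  exact (map_mul ((Φ).toAlg.torus) _ _).symm

theorem chi_eq (a b : Fˣ) (r : Fin 12) :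
    (Φ).toSys.chi (cvec a b) (r : Fin Cfsg.Lie.chevG2.nroots) = wt a b r := by
  have hp := (Φ).p_eq_g2
  have h7 : (Φ).toSys.chi (cvec a b) (7 : Fin 12) = a := by
    have h := (Φ).toSys.chi_simple (cvec a b) (⟨0, by decide⟩ : Fin Cfsg.Lie.chevG2.rank)
    erw [hp.1] at h
    exact h
  have h6 : (Φ).toSys.chi (cvec a b) (6 : Fin 12) = b := by
    have h := (Φ).toSys.chi_simple (cvec a b) (⟨1, by decide⟩ : Fin Cfsg.Lie.chevG2.rank)
    erw [hp.2] at h
    exact h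
  have add : ∀ r s k : Fin 12, Cfsg.Lie.chevG2.chainRoot r.val s.val 1 = some k.val →
      Cfsg.Lie.chevG2.commTerms r.val s.val ≠ [] →
      (Φ).toSys.chi (cvec a b) (k : Fin Cfsg.Lie.chevG2.nroots) =
      (Φ).toSys.chi (cvec a b) (r : Fin Cfsg.Lie.chevG2.nroots) *
      (Φ).toSys.chi (cvec a b) (s : Fin Cfsg.Lie.chevG2.nroots) := by
    intro r s k h hne
    have hN : (Φ).N (r : Fin Cfsg.Lie.chevG2.nroots) s ≠ 0 := fun h0 => hne ((Φ).commTerms_eq_nil h0)
    have h2 := (Φ).chainRoot_one hN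
    rw [h] at h2
    rw [show k = (Φ).S (r : Fin Cfsg.Lie.chevG2.nroots) s from Fin.ext (Option.some.inj h2)]
    exact (Φ).toSys.chi_add _ hN
  have h8 := add 7 6 8 (by decide +kernel) (by decide +kernel)
  have h9 := add 7 8 9 (by decide +kernel) (by decide +kernel)
  have h10 := add 7 9 10 (by decide +kernel) (by decide +kernel)
  have h11 := add 6 10 11 (by decide +kernel) (by decide +kernel)
  have neg : ∀ r : Fin 12, (Φ).toSys.chi (cvec a b) (r.rev : Fin Cfsg.Lie.chevG2.nroots) =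
      ((Φ).toSys.chi (cvec a b) (r : Fin Cfsg.Lie.chevG2.nroots))⁻¹ :=
    fun r => (Φ).toSys.chi_neg _ _
  rw [h7, h6] at h8
  rw [h7, h8] at h9
  rw [h7, h9] at h10
  rw [h6, h10] at h11
  have e8 : b * a = a * b := mul_comm b a
  have e : ∀ r : Fin 12, (5 : Fin 12) < r →
      (Φ).toSys.chi (cvec a b) (r : Fin Cfsg.Lie.chevG2.nroots) = wt a b r := by
    intro r hr
    fin_cases r <;> first
      | (exact absurd hr (by decide))
      | (simp only [Fin.zero_eta, Fin.reduceFinMk, wt, Matrix.cons_val]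
         first
         | exact h6
         | exact h7
         | exact h8.trans (by simp [mul_comm])
         | exact h9.trans (by simp [pow_succ, mul_assoc, mul_comm, mul_left_comm])
         | exact h10.trans (by simp [pow_succ, mul_assoc, mul_comm, mul_left_comm])
         | exact h11.trans (by simp [pow_succ, mul_assoc, mul_comm, mul_left_comm]))
  rcases lt_or_ge (5 : Fin 12) r with hr | hr
  · exact e r hr
  · have h := neg r
    rw [e r.rev ((by decide : ∀ r : Fin 12, r ≤ 5 → (5 : Fin 12) < r.rev) r hr)] at h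
    refine (inv_inv _).symm.trans ((congrArg (·⁻¹) h.symm).trans ?_)
    fin_cases r <;> first
      | (exact absurd hr (by decide))
      | rfl
      | exact inv_inv _
      | simp [wt, Fin.rev]

theorem tor_xr (a b : Fˣ) (r : Fin 12) (u : F) :
    tor a b * xr r u = xr r ((wt a b r : F) * u) * tor a b := by
  refine Subtype.ext ?_
  show (Φ).toAlg.torus _ * (Φ).toAlg.xg _ _ = (Φ).toAlg.xg _ _ * (Φ).toAlg.torus _
  erw [(Φ).toAlg.torus_xg, chi_eq]

/-- The Weyl element of the short fundamental root. -/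
noncomputable def nA : GG F := ⟨(Φ).nw ((Φ).p ⟨0, by decide⟩) 1, (Φ).nw_mem_group _ _⟩

/-- The Weyl element of the long fundamental root. -/
noncomputable def nB : GG F := ⟨(Φ).nw ((Φ).p ⟨1, by decide⟩) 1, (Φ).nw_mem_group _ _⟩

/-- The permutation of the first fundamental reflection. -/
def sA : Fin 12 → Fin 12 := fun r => ⟨Cfsg.Lie.chevG2.reflectRoot 0 r.val % 12, Nat.mod_lt _ (by norm_num)⟩

/-- The permutation of the second fundamental reflection. -/
def sB : Fin 12 → Fin 12 := fun r => ⟨Cfsg.Lie.chevG2.reflectRoot 1 r.val % 12, Nat.mod_lt _ (by norm_num)⟩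

theorem nA_xr (r : Fin 12) : ∃ e : F, e ≠ 0 ∧ ∀ u, nA * xr r u = xr (sA r) (e * u) * nA := by
  refine ⟨((Φ).eta ⟨0, by decide⟩ (r : Fin Cfsg.Lie.chevG2.nroots) : F), ?_, fun u => ?_⟩
  · rcases (Φ).eta_unit ⟨0, by decide⟩ (r : Fin Cfsg.Lie.chevG2.nroots) with h | h <;> simp [h]
  · refine Subtype.ext ?_
    show (Φ).nw _ 1 * (Φ).toAlg.xg _ _ = (Φ).toAlg.xg _ _ * (Φ).nw _ 1
    erw [(Φ).nw_conj_xg, (Φ).refl_eq ⟨0, by decide⟩ (r : Fin Cfsg.Lie.chevG2.nroots) (sA r)]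
    exact (by decide +kernel : ∀ r : Fin 12, Cfsg.Lie.chevG2.reflectRoot 0 r.val = (sA r).val) r

theorem nB_xr (r : Fin 12) : ∃ e : F, e ≠ 0 ∧ ∀ u, nB * xr r u = xr (sB r) (e * u) * nB := by
  refine ⟨((Φ).eta ⟨1, by decide⟩ (r : Fin Cfsg.Lie.chevG2.nroots) : F), ?_, fun u => ?_⟩
  · rcases (Φ).eta_unit ⟨1, by decide⟩ (r : Fin Cfsg.Lie.chevG2.nroots) with h | h <;> simp [h]
  · refine Subtype.ext ?_
    show (Φ).nw _ 1 * (Φ).toAlg.xg _ _ = (Φ).toAlg.xg _ _ * (Φ).nw _ 1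
    erw [(Φ).nw_conj_xg, (Φ).refl_eq ⟨1, by decide⟩ (r : Fin Cfsg.Lie.chevG2.nroots) (sB r)]
    exact (by decide +kernel : ∀ r : Fin 12, Cfsg.Lie.chevG2.reflectRoot 1 r.val = (sB r).val) r

theorem sA_eq : ∀ r : Fin 12, sA r = ![0, 5, 3, 2, 7, 1, 10, 4, 9, 8, 6, 11] r := by decide +kernel

theorem sB_eq : ∀ r : Fin 12, sB r = ![1, 0, 2, 4, 3, 6, 5, 8, 7, 9, 11, 10] r := by decide +kernel

end CfsgLib.G2Deg
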