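import Cfsg.Agent.Lib.G2Deg.Rels
import Cfsg.Agent.Lib.Chev.BNPairChev

/-! Rank one identities in the group of type G2. -/

set_option autoImplicit false
set_option linter.unusedSectionVars false
set_option maxRecDepth 100000
set_option maxHeartbeats 1000000

namespace CfsgLib.G2Deg

open Cfsg.Lie CfsgLib.Chev

variable {F : Type*} [Field F]

local notation "Φ" => CfsgLib.Chev.chevG2

theorem nA_eq : (nA : GG F) = xr 7 1 * xr 4 (-1) * xr 7 1 := by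
  refine Subtype.ext ?_
  show (Φ).nw ((Φ).p ⟨0, by decide⟩) 1 = (Φ).toAlg.xg _ _ * (Φ).toAlg.xg _ _ * (Φ).toAlg.xg _ _
  erw [(Φ).p_eq_g2.1]
  rw [CfsgLib.Chev.Chev.nw]
  simp only [Units.val_one, inv_one]
  rfl

theorem nB_eq : (nB : GG F) = xr 6 1 * xr 5 (-1) * xr 6 1 := by
  refine Subtype.ext ?_
  show (Φ).nw ((Φ).p ⟨1, by decide⟩) 1 = (Φ).toAlg.xg _ _ * (Φ).toAlg.xg _ _ * (Φ).toAlg.xg _ _
  erw [(Φ).p_eq_g2.2]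
  rw [CfsgLib.Chev.Chev.nw]
  simp only [Units.val_one, inv_one]
  rfl

theorem hw_six (t : Fˣ) : (Φ).hw (6 : Fin 12) t = (Φ).toAlg.torus (cvec t⁻¹ (t ^ 2)) := by
  erw [(Φ).hw_eq, CfsgLib.G2Odd.coChar_six]
  rfl

theorem hw_seven (t : Fˣ) : (Φ).hw (7 : Fin 12) t = (Φ).toAlg.torus (cvec (t ^ 2) (t ^ 3)⁻¹) := by
  erw [(Φ).hw_eq, coChar_seven]
  rfl

/-- The torus elements in the short fundamental rank one subgroup. -/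
theorem tor_seven (t : Fˣ) : tor (t ^ 2) (t ^ 3)⁻¹ =
    (xr 7 (t : F) * xr 4 (-(t : F)⁻¹) * xr 7 (t : F)) * (xr 7 (-1) * xr 4 1 * xr 7 (-1)) := by
  refine Subtype.ext ?_
  show (Φ).toAlg.torus (cvec (t ^ 2) (t ^ 3)⁻¹) =
    (Φ).toAlg.xg _ _ * (Φ).toAlg.xg _ _ * (Φ).toAlg.xg _ _ *
      ((Φ).toAlg.xg _ _ * (Φ).toAlg.xg _ _ * (Φ).toAlg.xg _ _)
  rw [← hw_seven]
  show (Φ).nw (7 : Fin 12) t * (Φ).nw (7 : Fin 12) (-1) = _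
  have e : ∀ s : Fˣ, (Φ).nw (7 : Fin 12) s =
      (Φ).toAlg.xg (7 : Fin 12) (s : F) * (Φ).toAlg.xg (4 : Fin 12) (-(s : F)⁻¹) *
        (Φ).toAlg.xg (7 : Fin 12) (s : F) := fun s => rfl
  erw [e, e]
  simp only [Units.val_neg, Units.val_one, inv_neg, inv_one, neg_neg]

/-- The opposite long fundamental root element. -/
theorem x5_eq (c : F) (hc : c ≠ 0) :
    ∃ a b : Fˣ, xr 5 c = xr 6 c⁻¹ * (tor a b * nB) * xr 6 c⁻¹ := by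
  let t : Fˣ := -(Units.mk0 c hc)⁻¹
  refine ⟨t⁻¹, t ^ 2, Subtype.ext ?_⟩
  show (Φ).toAlg.xg _ c = (Φ).toAlg.xg _ _ * ((Φ).toAlg.torus (cvec t⁻¹ (t ^ 2)) *
    (Φ).nw ((Φ).p ⟨1, by decide⟩) 1) * (Φ).toAlg.xg _ _
  have h := (Φ).xg_rev_eq' (6 : Fin 12) hc
  have h2 := ((Φ).nw_eq_hw_mul (6 : Fin 12) t).trans (congrArg (· * (Φ).nw (6 : Fin 12) 1) (hw_six t))
  erw [(Φ).p_eq_g2.2]
  exact h.trans (congrArg (fun z => (Φ).toAlg.xg (6 : Fin 12) c⁻¹ * z * (Φ).toAlg.xg (6 : Fin 12) c⁻¹) h2)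

theorem tor_nB (a b : Fˣ) : tor a b * nB = nB * tor (a * b) b⁻¹ := by
  refine Subtype.ext ?_
  show (Φ).toAlg.torus (cvec a b) * (Φ).nw ((Φ).p ⟨1, by decide⟩) 1 =
    (Φ).nw ((Φ).p ⟨1, by decide⟩) 1 * (Φ).toAlg.torus (cvec (a * b) b⁻¹)
  erw [(Φ).torus_nw_one]
  congr 2
  have e : ∀ t : Fˣ, (Φ).toAlg.cartanChar ⟨1, by decide⟩ t = (cvec t⁻¹ (t ^ 2)) := fun t => by
    erw [← (Φ).coChar_p, (Φ).p_eq_g2.2, CfsgLib.G2Odd.coChar_six]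
    rfl
  rw [CfsgLib.Chev.Chev.reflChar, e]
  funext j
  revert j
  show ∀ j : Fin 2, _
  intro j
  fin_cases j
  · show a * (b⁻¹)⁻¹ = a * b
    rw [inv_inv]
  · show b * (b ^ 2)⁻¹ = b⁻¹
    rw [pow_two, _root_.mul_inv_rev, mul_inv_cancel_left]

theorem nB_sq : (nB : GG F) * nB = tor (-1) 1 := by
  refine Subtype.ext ?_
  show (Φ).nw ((Φ).p ⟨1, by decide⟩) 1 * (Φ).nw ((Φ).p ⟨1, by decide⟩) 1 = (Φ).toAlg.torus (cvec (-1) 1)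
  erw [(Φ).nw_one_sq, ← (Φ).coChar_p, (Φ).p_eq_g2.2, CfsgLib.G2Odd.coChar_six]
  congr 1
  show (![((-1 : Fˣ))⁻¹, (-1 : Fˣ) ^ 2] : Fin 2 → Fˣ) = ![-1, 1]
  funext j
  fin_cases j <;> simp

end CfsgLib.G2Deg
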