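import Cfsg.Agent.Lib.G2Deg.Proj
import Cfsg.Agent.Lib.G2Deg.Weyl
import Cfsg.Agent.Lib.SympWeil.Basic

/-! The translates of the fixed space of the two highest roots. -/

set_option autoImplicit false
set_option linter.unusedSectionVars false

namespace CfsgLib.G2Deg

open CfsgLib.RadicalBound CfsgLib.OrthDeg

local notation "ψ" => CfsgLib.SympWeil.ψ

variable {F : Type*} [Field F] [Fintype F] {k : ℕ} {ρ : Representation ℂ (GG F) (Fin k → ℂ)}

theorem carries_w0 (r a b c d e s : Fin 12) (h1 : sB r = a) (h2 : sA a = b) (h3 : sB b = c) (h4 : sA c = d)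
    (h5 : sB d = e) (h6 : sA e = s) : Carries ((nA * nB) * (nA * nB) * (nA * nB) : GG F) r s :=
  (((carries_nB r a h1).mul (carries_nA a b h2)).mul
    (((carries_nB b c h3).mul (carries_nA c d h4)))).mul
      ((carries_nB d e h5).mul (carries_nA e s h6)) |> fun h => by simpa [mul_assoc] using h

theorem inZ_five {v : Fin k → ℂ} (h : InZ ρ v) (s : F) : InZ ρ (ρ (xr 5 s) v) := by
  have h10 : Fixed ρ 10 (ρ (xr 5 s) v) :=
    carries_fixed (carries_self 5 10 (by decide) (by decide +kernel) s) h.1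
  refine ⟨h10, fun u => ?_⟩
  have e : ρ (xr 5 s) (ρ (xr 11 u) v) = ρ (xr 11 u) (ρ (xr 10 (s * u)) (ρ (xr 5 s) v)) := by
    rw [← Module.End.mul_apply, ← map_mul, x5_x11, map_mul, map_mul]
    rfl
  rw [h.2, h10] at e
  exact e.symm

theorem inZ_smul {v : Fin k → ℂ} (z : ℂ) (h : InZ ρ v) : InZ ρ (z • v) := ⟨fixed_smul z h.1, fixed_smul z h.2⟩

/-- The middle element of the decomposition of a root element of 3a+b opposite. -/
noncomputable def ym (α β : Fˣ) : GG F := nA * (tor α β * nB) * nA⁻¹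

theorem carries_ym_11 (α β : Fˣ) : Carries (ym α β) 11 6 :=
  (((carries_nA 11 11 (by rw [sA_eq]; rfl)).inv).mul
    (((carries_nB 11 10 (by rw [sB_eq]; rfl)).mul (carries_tor α β 10)).mul
      (carries_nA 10 6 (by rw [sA_eq]; rfl))))

theorem carries_ym_6 (α β : Fˣ) : Carries (ym α β) 6 11 :=
  (((carries_nA 10 6 (by rw [sA_eq]; rfl)).inv).mul
    (((carries_nB 10 11 (by rw [sB_eq]; rfl)).mul (carries_tor α β 11)).mul
      (carries_nA 11 11 (by rw [sA_eq]; rfl))))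

theorem pp_ym (α β : Fˣ) {g : Fin k → ℂ} (hg : InZ ρ g) :
    pp ρ (ρ (ym α β) g) = pp ρ (ρ (ym α β) (pp ρ g)) := by
  obtain ⟨e, -, he⟩ := carries_ym_6 α β
  rw [pp_inZ hg, av_sum, map_smul, map_smul, map_sum, map_sum, Finset.sum_congr rfl fun u _ =>
    show pp ρ (ρ (ym α β) (ρ (xr 6 u) g)) = pp ρ (ρ (ym α β) g) by
      rw [show ρ (ym α β) (ρ (xr 6 u) g) = ρ (xr 11 (e * u)) (ρ (ym α β) g) by
          rw [← Module.End.mul_apply, ← map_mul, he, map_mul, Module.End.mul_apply],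
        pp, Module.End.mul_apply,
        Module.End.mul_apply, pz, Module.End.mul_apply, Module.End.mul_apply, av_absorb],
    Finset.sum_const, ← Nat.cast_smul_eq_nsmul ℂ, smul_smul, Finset.card_univ,
    inv_mul_cancel₀ (Nat.cast_ne_zero.2 Fintype.card_ne_zero), one_smul]

theorem b_term {b : F} (hb : b ≠ 0) : ∃ α β : Fˣ, ∀ {g : Fin k → ℂ}, InZ ρ g →
    pz ρ (ρ (xr 1 b) g) = pp ρ (ρ (ym α β) (pp ρ g)) := by
  obtain ⟨e, he, h5⟩ := carries_nA (F := F) 5 1 (by rw [sA_eq]; rfl)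
  obtain ⟨e', -, h6⟩ := carries_nA (F := F) 6 10 (by rw [sA_eq]; rfl)
  have hc : e⁻¹ * b ≠ 0 := mul_ne_zero (inv_ne_zero he) hb
  obtain ⟨α, β, hx⟩ := x5_eq (e⁻¹ * b) hc
  refine ⟨α, β, fun {g} hg => ?_⟩
  have e1 : xr 1 b = xr 10 (e' * (e⁻¹ * b)⁻¹) * ym α β * xr 10 (e' * (e⁻¹ * b)⁻¹) := by
    have h1 := h5 (e⁻¹ * b)
    rw [← mul_assoc e, mul_inv_cancel₀ he, one_mul] at h1
    rw [← mul_inv_eq_of_eq_mul h1, hx]
    have h2 := h6 (e⁻¹ * b)⁻¹
    have h3 : xr 6 (e⁻¹ * b)⁻¹ * nA⁻¹ = nA⁻¹ * xr 10 (e' * (e⁻¹ * b)⁻¹) := by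
      rw [eq_inv_mul_iff_mul_eq, ← mul_assoc, h2, mul_inv_cancel_right]
    calc nA * (xr 6 (e⁻¹ * b)⁻¹ * (tor α β * nB) * xr 6 (e⁻¹ * b)⁻¹) * nA⁻¹
        = (nA * xr 6 (e⁻¹ * b)⁻¹) * (tor α β * nB) * (xr 6 (e⁻¹ * b)⁻¹ * nA⁻¹) := by group
      _ = _ := by rw [h2, h3, ym]; group
  rw [e1, map_mul, map_mul, Module.End.mul_apply, Module.End.mul_apply, hg.1,
    ← pz_keep (carries_self 10 10 (by decide) (by decide +kernel) _)
      (carries_self 10 11 (by decide) (by decide +kernel) _), (pz_mem _).1, ← pp_ym α β hg, pp,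
    Module.End.mul_apply, ← pz_av6, av_eq (carries_fixed (carries_ym_11 α β) hg.2)]

theorem c_term (b : F) {c : F} (hc : c ≠ 0) : ∃ α β : Fˣ, ∀ {g : Fin k → ℂ}, InZ ρ g →
    pz ρ (ρ (xr 1 b * xr 0 c) g) =
      ρ (xr 6 (-(b / c))) (ρ nB (pp ρ (ρ (ym α β) (pp ρ (ρ nB⁻¹ (ρ (xr 6 (b / c)) g)))))) := by
  obtain ⟨e, he, h1⟩ := carries_nB (F := F) 1 0 (by rw [sB_eq]; rfl)
  have hc' : e⁻¹ * c ≠ 0 := mul_ne_zero (inv_ne_zero he) hc
  obtain ⟨α, β, hb⟩ := b_term (ρ := ρ) hc'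
  refine ⟨α, β, fun {g} hg => ?_⟩
  have c61 : ∀ s u : F, xr 6 s * xr 1 u = xr 1 u * xr 6 s := comm_xr 6 1 (by decide) (by decide +kernel)
  have c01 : ∀ s u : F, xr 0 s * xr 1 u = xr 1 u * xr 0 s := comm_xr 0 1 (by decide) (by decide +kernel)
  have e1 : xr 1 b * xr 0 c = xr 6 (-(b / c)) * (xr 0 c * xr 6 (b / c)) := by
    rw [xr_neg, eq_inv_mul_iff_mul_eq, ← mul_assoc, c61, mul_assoc, x6_x0, div_mul_cancel₀ b hc,
      ← mul_assoc, ← mul_assoc, ← c01, mul_assoc (xr 0 c), ← xr_add, add_neg_cancel, xr_zero, mul_one]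
  have e2 : xr 0 c = nB * xr 1 (e⁻¹ * c) * nB⁻¹ := by
    rw [h1, ← mul_assoc, mul_inv_cancel₀ he, one_mul, mul_inv_cancel_right]
  have h10 : Carries (nB : GG F) 10 11 := carries_nB 10 11 (by rw [sB_eq]; rfl)
  have h11 : Carries (nB : GG F) 11 10 := carries_nB 11 10 (by rw [sB_eq]; rfl)
  rw [e1, map_mul, Module.End.mul_apply, ← pz_six, map_mul, Module.End.mul_apply, e2, map_mul, map_mul,
    Module.End.mul_apply, Module.End.mul_apply, ← pz_swap h10 h11,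
    hb (inZ_swap h11.inv h10.inv (inZ_six hg _))]

theorem pp_line_split {g : Fin k → ℂ} (hg : InZ ρ g)
    (h : ∀ (χ : AddChar F ℂ) (f : Fin k → ℂ), χ ≠ 1 → InZ ρ f → (∀ u, ρ (xr 5 u) f = χ u • f) → pp ρ f = 0) :
    pp ρ g = pp ρ (ρ nB (pp ρ (ρ nB⁻¹ g))) := by
  classical
  have e := LinearMap.congr_fun (sum_proj (xr 5 : F → GG F) ρ (xr_add 5)) g
  rw [Module.End.one_apply, LinearMap.sum_apply] at e
  conv_lhs => rw [← e, map_sum]
  rw [Finset.sum_eq_single (1 : AddChar F ℂ) (fun χ _ hχ => h χ _ hχ ?_ fun u =>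
    LinearMap.congr_fun (eig_proj (xr 5 : F → GG F) (xr_add 5) ρ χ u) g) (by simp)]
  · have h6 : Carries (nB : GG F) 6 5 := carries_nB 6 5 (by rw [sB_eq]; rfl)
    have h10 : Carries (nB : GG F) 10 11 := carries_nB 10 11 (by rw [sB_eq]; rfl)
    have h11 : Carries (nB : GG F) 11 10 := carries_nB 11 10 (by rw [sB_eq]; rfl)
    rw [pp_inZ (inZ_swap h11.inv h10.inv hg), carries_av h6, ← Module.End.mul_apply (ρ nB), ← map_mul,
      mul_inv_cancel, map_one, Module.End.one_apply]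
    rfl
  · simp only [proj, LinearMap.smul_apply, LinearMap.sum_apply]
    exact ⟨fixed_smul _ (fixed_sum _ _ fun u _ => fixed_smul _ (inZ_five hg u).1),
      fixed_smul _ (fixed_sum _ _ fun u _ => fixed_smul _ (inZ_five hg u).2)⟩

/-- A combination of translates. -/
noncomputable def tv (ρ : Representation ℂ (GG F) (Fin k → ℂ)) (d : F) (f : Fin k → ℂ) : Fin k → ℂ :=
  ∑ b : F, (ψ : AddChar F ℂ) (d * b) • ∑ c : F, ρ (xr 1 b * xr 0 c) f

theorem tv_zero (d : F) (f : Fin k → ℂ) : Fixed ρ 0 (tv ρ d f) := fun u => by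
  have c01 : ∀ s v : F, xr 0 s * xr 1 v = xr 1 v * xr 0 s := comm_xr 0 1 (by decide) (by decide +kernel)
  simp only [tv, map_sum, map_smul]
  refine Finset.sum_congr rfl fun b _ => congrArg _ ?_
  refine Fintype.sum_equiv (Equiv.addLeft u) _ _ fun c => ?_
  rw [← Module.End.mul_apply, ← map_mul, ← mul_assoc, c01, mul_assoc, ← xr_add]
  rfl

theorem tv_one (d : F) (f : Fin k → ℂ) (u : F) :
    ρ (xr 1 u) (tv ρ d f) = (ψ : AddChar F ℂ) (-d * u) • tv ρ d f := by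
  simp only [tv, map_sum, map_smul]
  conv_rhs => rw [Finset.smul_sum]
  refine Fintype.sum_equiv (Equiv.addLeft u) _ _ fun b => ?_
  rw [Equiv.coe_addLeft, smul_smul, ← AddChar.map_add_eq_mul, show -d * u + d * (u + b) = d * b by ring]
  refine congrArg _ (Finset.sum_congr rfl fun c _ => ?_)
  rw [← Module.End.mul_apply, ← map_mul, ← mul_assoc, ← xr_add]

theorem tv_five (d : F) {f : Fin k → ℂ} (χ : AddChar F ℂ) (hf : ∀ u, ρ (xr 5 u) f = χ u • f) (u : F) :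
    ρ (xr 5 u) (tv ρ d f) = χ u • tv ρ d f := by
  have c50 : ∀ s v : F, xr 5 s * xr 0 v = xr 0 v * xr 5 s := comm_xr 5 0 (by decide) (by decide +kernel)
  have h51 : ∀ v : F, xr 5 u * xr 1 v = xr 1 v * xr 0 (-(u * v)) * xr 5 u := fun v => by
    rw [conj_eq 5 1 (by decide) (by decide), terms,
      show Cfsg.Lie.chevG2.commTerms (5 : Fin 12).val (1 : Fin 12).val = [(0, -1, 1, 1)] by decide +kernel]
    simp
  simp only [tv, map_sum, map_smul]
  conv_rhs => rw [Finset.smul_sum]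
  refine Finset.sum_congr rfl fun b _ => ?_
  rw [smul_comm (χ u)]
  refine congrArg _ ?_
  rw [Finset.smul_sum]
  refine Fintype.sum_equiv (Equiv.addLeft (-(u * b))) _ _ fun c => ?_
  rw [← Module.End.mul_apply, ← map_mul, ← mul_assoc, h51, mul_assoc, c50, ← mul_assoc, map_mul,
    Module.End.mul_apply, hf, map_smul, Equiv.coe_addLeft, xr_add, ← mul_assoc]

theorem sum_ψ (a : F) [DecidableEq F] :
    ∑ u : F, (ψ : AddChar F ℂ) (a * u) = if a = 0 then (Fintype.card F : ℂ) else 0 := by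
  rw [Finset.sum_congr rfl fun u _ => congrArg _ (mul_comm a u),
    AddChar.sum_mulShift a (AddChar.FiniteField.primitiveChar_to_Complex_isPrimitive F)]
  split_ifs <;> simp

end CfsgLib.G2Deg
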