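import Cfsg.Agent.Lib.G2Deg.Count
import Cfsg.Agent.Lib.G2Deg.Proj

/-! Vectors and weights. -/

set_option autoImplicit false
set_option linter.unusedSectionVars false

namespace CfsgLib.G2Deg

open CfsgLib.RadicalBound CfsgLib.OrthDeg

local notation "ψ" => CfsgLib.SympWeil.ψ

variable {F : Type*} [Field F] [Fintype F] {k : ℕ} {ρ : Representation ℂ (GG F) (Fin k → ℂ)}

local notation "f11" => (xr 11 : F → GG F)

theorem exists_coord {v : Fin k → ℂ} (h : Fixed ρ 11 v) :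
    ∃ w : Fin (W11 ρ) → ℂ, emb f11 ρ w = v := by
  have h' : v ∈ LinearMap.range (emb f11 ρ) := by
    rw [range_emb]; exact (mem_fix_iff f11 ρ (xr_add 11) v).2 h
  exact h'

theorem emb_g4 (S : Fin 4 → F) (w : Fin (W11 ρ) → ℂ) :
    emb f11 ρ (rep11 ρ (g4 ρ S) w) =
      ρ (xr 6 (S 0)) (ρ (xr 8 (S 1)) (ρ (xr 9 (S 2)) (ρ (xr 10 (S 3)) (emb f11 ρ w)))) := by
  simp only [g4, map_mul, Module.End.mul_apply, X, res11]
  rw [emb_res f11 ρ (stab6 ρ _), emb_res f11 ρ (stab8 ρ _), emb_res f11 ρ (stab9 ρ _),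
    emb_res f11 ρ (stab10 ρ _)]

/-- A component of an eigenvector of the roots b and 3a+b has the same weight there. -/
theorem coord_weight {a l : F} {w : Fin (W11 ρ) → ℂ}
    (h6 : ∀ u : F, ρ (xr 6 u) (emb f11 ρ w) = (ψ : AddChar F ℂ) (a * u) • emb f11 ρ w)
    (h10 : ∀ u : F, ρ (xr 10 u) (emb f11 ρ w) = (ψ : AddChar F ℂ) (l * u) • emb f11 ρ w)
    {c : Fin 4 → F} (hc : proj (g4 ρ) (rep11 ρ) (chv c) w ≠ 0) : c 0 = a ∧ c 3 = l := by
  have key : ∀ (S : Fin 4 → F) (z : ℂ), rep11 ρ (g4 ρ S) w = z • w → chv c S = z := fun S z hS => by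
    have e1 := LinearMap.congr_fun (eig_proj (g4 ρ) (g4_add ρ) (rep11 ρ) (chv c) S) w
    have e2 := LinearMap.congr_fun (proj_comm (g4 ρ) (rep11 ρ) (g4_add ρ) (g4 ρ S) (AddEquiv.refl _)
      (fun T => by rw [AddEquiv.refl_apply, ← g4_add, ← g4_add, add_comm]) (chv c) fun T => rfl) w
    rw [Module.End.mul_apply, Module.End.mul_apply, hS, map_smul] at e2
    rw [Module.End.mul_apply, LinearMap.smul_apply, e2] at e1
    exact (smul_left_injective ℂ hc e1).symm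
  refine ⟨ψ_eq_iff.1 fun u => ?_, ψ_eq_iff.1 fun u => ?_⟩
  · rw [← key ![u, 0, 0, 0] ((ψ : AddChar F ℂ) (a * u)) (emb_injective f11 ρ (by
      rw [emb_g4, map_smul]; simpa [xr_zero] using h6 u)), chv_apply]
    simp [Fin.sum_univ_four]
  · rw [← key ![0, 0, 0, u] ((ψ : AddChar F ℂ) (l * u)) (emb_injective f11 ρ (by
      rw [emb_g4, map_smul]; simpa [xr_zero] using h10 u)), chv_apply]
    simp [Fin.sum_univ_four]

/-- A joint eigenvector of the roots b and 3a+b gives a weight. -/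
theorem to_weight {a l : F} {v : Fin k → ℂ} (hv0 : v ≠ 0) (h11 : Fixed ρ 11 v)
    (h6 : ∀ u : F, ρ (xr 6 u) v = (ψ : AddChar F ℂ) (a * u) • v)
    (h10 : ∀ u : F, ρ (xr 10 u) v = (ψ : AddChar F ℂ) (l * u) • v) :
    ∃ b c : F, 0 < M4 ρ a b c l := by
  classical
  obtain ⟨w, rfl⟩ := exists_coord h11
  obtain ⟨c, hc⟩ : ∃ c, proj (g4 ρ) (rep11 ρ) (chv c) w ≠ 0 := by
    by_contra h
    simp only [not_exists, not_not] at h
    refine hv0 ?_
    have e := LinearMap.congr_fun (sum_proj (g4 ρ) (rep11 ρ) (g4_add ρ)) w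
    rw [Module.End.one_apply, LinearMap.sum_apply, Finset.sum_eq_zero fun χ _ => by
      obtain ⟨c, rfl⟩ := chv_bijective.2 χ
      exact h c] at e
    rw [← e, map_zero]
  obtain ⟨e0, e3⟩ := coord_weight h6 h10 hc
  refine ⟨c 1, c 2, ?_⟩
  rw [← e0, ← e3, ← M4_eq]
  exact M_pos (rep11 ρ) (g4 ρ) (g4_add ρ) hc fun S =>
    LinearMap.congr_fun (eig_proj (g4 ρ) (g4_add ρ) (rep11 ρ) (chv c) S) w

theorem inP_range (h : ∀ b c : F, b ≠ 0 ∨ c ≠ 0 → M4 ρ 0 b c 0 = 0) {v : Fin k → ℂ} (hv : InP ρ v) :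
    ∃ w, emb f11 ρ w = v ∧ w ∈ LinearMap.range (proj (g4 ρ) (rep11 ρ) (chv 0)) := by
  classical
  obtain ⟨w, rfl⟩ := exists_coord hv.2.2
  refine ⟨w, rfl, w, ?_⟩
  have e := LinearMap.congr_fun (sum_proj (g4 ρ) (rep11 ρ) (g4_add ρ)) w
  rw [Module.End.one_apply, LinearMap.sum_apply, Finset.sum_eq_single (chv (0 : Fin 4 → F))
    (fun χ _ hχ => ?_) (by simp)] at e
  · exact e
  obtain ⟨c, rfl⟩ := chv_bijective.2 χ
  by_contra hc
  obtain ⟨e0, e3⟩ := coord_weight (a := 0) (l := 0)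
    (fun u => by rw [zero_mul, AddChar.map_zero_eq_one, one_smul]; exact hv.1 u)
    (fun u => by rw [zero_mul, AddChar.map_zero_eq_one, one_smul]; exact hv.2.1 u) hc
  by_cases hz : c 1 = 0 ∧ c 2 = 0
  · refine hχ (congrArg _ ?_)
    funext i; fin_cases i
    · exact e0
    · exact hz.1
    · exact hz.2
    · exact e3
  · have hM := h (c 1) (c 2) (not_and_or.1 hz)
    have hp := M_pos (rep11 ρ) (g4 ρ) (g4_add ρ) hc fun S =>
      LinearMap.congr_fun (eig_proj (g4 ρ) (g4_add ρ) (rep11 ρ) (chv c) S) w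
    rw [M4_eq, e0, e3, hM] at hp
    exact lt_irrefl 0 hp

theorem inP_fixed (h : ∀ b c : F, b ≠ 0 ∨ c ≠ 0 → M4 ρ 0 b c 0 = 0) {v : Fin k → ℂ} (hv : InP ρ v) :
    Fixed ρ 8 v ∧ Fixed ρ 9 v := by
  obtain ⟨w, rfl, hw⟩ := inP_range h hv
  have key : ∀ S, rep11 ρ (g4 ρ S) w = w := fun S => by
    rw [(mem_range_iff (g4 ρ) (rep11 ρ) (g4_add ρ) _ w).1 hw S, chv_zero, AddChar.one_apply, one_smul]
  refine ⟨fun u => ?_, fun u => ?_⟩
  · conv_rhs => rw [← key ![0, u, 0, 0], emb_g4]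
    simp [xr_zero]
  · conv_rhs => rw [← key ![0, 0, u, 0], emb_g4]
    simp [xr_zero]

theorem inP_line (h : ∀ b c : F, b ≠ 0 ∨ c ≠ 0 → M4 ρ 0 b c 0 = 0) (h1 : M4 ρ 0 0 0 0 ≤ 1)
    {v v' : Fin k → ℂ} (hv0 : v ≠ 0) (hv : InP ρ v) (hv' : InP ρ v') : ∃ z : ℂ, v' = z • v := by
  obtain ⟨w, rfl, hw⟩ := inP_range h hv
  obtain ⟨w', rfl, hw'⟩ := inP_range h hv'
  have e0 : M4 ρ 0 0 0 0 = M (rep11 ρ) (g4 ρ) 0 := by rw [M4_eq]; rfl
  have hne : (⟨w, hw⟩ : LinearMap.range (proj (g4 ρ) (rep11 ρ) (chv 0))) ≠ 0 := fun e =>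
    hv0 (by rw [show w = 0 from congrArg Subtype.val e, map_zero])
  rw [e0, M, mult] at h1
  obtain ⟨u, hu⟩ := (finrank_le_one_iff).1 h1
  obtain ⟨a, ha⟩ := hu ⟨w, hw⟩
  obtain ⟨b, hb⟩ := hu ⟨w', hw'⟩
  have ha0 : a ≠ 0 := fun e => hne (by rw [← ha, e, zero_smul])
  refine ⟨b / a, ?_⟩
  rw [← map_smul]
  congr 1
  refine (congrArg Subtype.val hb).symm.trans ?_
  rw [show w = a • (u : Fin (W11 ρ) → ℂ) from (congrArg Subtype.val ha).symm, smul_smul, div_mul_cancel₀ _ ha0]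
  rfl

/-- A weight on the long fundamental root gives a vector. -/
theorem exists_six {d : F} (h : M4 ρ d 0 0 0 ≠ 0) :
    ∃ v : Fin k → ℂ, v ≠ 0 ∧ InZ ρ v ∧ ∀ u : F, ρ (xr 6 u) v = (ψ : AddChar F ℂ) (d * u) • v := by
  obtain ⟨w, hw0, hw⟩ := exists_eigen (g4 ρ) (rep11 ρ) (g4_add ρ) h
  refine ⟨emb f11 ρ w, fun e => hw0 (emb_injective f11 ρ (by rw [e, map_zero])),
    ⟨fun u => ?_, emb_fix f11 ρ (xr_add 11) w⟩, fun u => ?_⟩
  · have e := congrArg (emb f11 ρ) (hw ![0, 0, 0, u])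
    rw [emb_g4, map_smul, chv_apply] at e
    simpa [Fin.sum_univ_four, xr_zero] using e
  · have e := congrArg (emb f11 ρ) (hw ![u, 0, 0, 0])
    rw [emb_g4, map_smul, chv_apply] at e
    simpa [Fin.sum_univ_four, xr_zero] using e

end CfsgLib.G2Deg
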