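import Cfsg.Agent.Lib.G2Deg.Basic

/-! The abelian group of the roots 2a+b, 3a+b, 3a+2b. -/

set_option autoImplicit false
set_option linter.unusedSectionVars false

namespace CfsgLib.G2Deg

open CfsgLib.RadicalBound CfsgLib.OrthDeg

local notation "ψ" => CfsgLib.SympWeil.ψ

variable {F : Type*} [Field F] [Fintype F] {k : ℕ}

theorem xr_eq_one_iff {r : Fin 12} {t : F} : xr r t = 1 ↔ t = 0 := by
  refine ⟨fun h => ?_, fun h => h ▸ xr_zero r⟩
  exact (CfsgLib.Chev.chevG2.toAlg.xg_eq_one_iff (r := (r : Fin Cfsg.Lie.chevG2.nroots))).1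
    (congrArg Subtype.val h)

/-- A sum of multiplicities over the characters with a given restriction. -/
theorem mult_chv {G : Type*} [Group G] {n : ℕ} (ρ : Representation ℂ G (Fin k → ℂ)) (g : (Fin n → F) → G)
    (hg : ∀ S T, g (S + T) = g S * g T) {A : Type*} [AddCommGroup A] [Fintype A] (ι : A →+ (Fin n → F))
    (χ : AddChar A ℂ) (P : (Fin n → F) → Prop) [DecidablePred P]
    (hP : ∀ c, (chv c).compAddMonoidHom ι = χ ↔ P c) :
    mult (g ∘ ι) ρ χ = ∑ c ∈ Finset.univ.filter P, M ρ g c := by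
  classical
  rw [marginal g ρ hg ι]
  symm
  refine Finset.sum_bij (fun c _ => chv c) (fun c hc => ?_) (fun a _ b _ h => chv_injective h)
    (fun χ' hχ => ?_) (fun c _ => rfl)
  · rw [Finset.mem_filter] at hc ⊢
    exact ⟨Finset.mem_univ _, (hP c).2 hc.2⟩
  · obtain ⟨c, rfl⟩ := chv_bijective.2 χ'
    rw [Finset.mem_filter] at hχ
    exact ⟨c, Finset.mem_filter.2 ⟨Finset.mem_univ _, (hP c).1 hχ.2⟩, rfl⟩

theorem ψ_eq_one_iff {a : F} : (∀ u : F, (ψ : AddChar F ℂ) (a * u) = 1) ↔ a = 0 := by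
  refine ⟨fun h => by_contra fun ha => ?_, fun h u => by rw [h, zero_mul, AddChar.map_zero_eq_one]⟩
  obtain ⟨u, hu⟩ := CfsgLib.SympWeil.ψ_ne ha
  exact hu (h u)

theorem ψ_eq_iff {a b : F} :
    (∀ u : F, (ψ : AddChar F ℂ) (a * u) = (ψ : AddChar F ℂ) (b * u)) ↔ a = b := by
  refine ⟨fun h => sub_eq_zero.1 (ψ_eq_one_iff.1 fun u => ?_), fun h u => by rw [h]⟩
  rw [sub_mul, sub_eq_add_neg, AddChar.map_add_eq_mul, h, ← AddChar.map_add_eq_mul, add_neg_cancel,
    AddChar.map_zero_eq_one]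

/-- The abelian group of the three highest roots. -/
noncomputable def g3 (x : Fin 3 → F) : GG F := xr 9 (x 0) * xr 10 (x 1) * xr 11 (x 2)

theorem g3_add (S T : Fin 3 → F) : g3 (S + T) = g3 S * g3 T := by
  have c109 : Commute (xr 10 (S 1)) (xr 9 (T 0)) := comm_xr 10 9 (by decide) (by decide +kernel) _ _
  have c119 : Commute (xr 11 (S 2)) (xr 9 (T 0)) := comm_xr 11 9 (by decide) (by decide +kernel) _ _
  have c1110 : Commute (xr 11 (S 2)) (xr 10 (T 1)) := comm_xr 11 10 (by decide) (by decide +kernel) _ _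
  simp only [g3, Pi.add_apply, xr_add]
  calc xr 9 (S 0) * xr 9 (T 0) * (xr 10 (S 1) * xr 10 (T 1)) * (xr 11 (S 2) * xr 11 (T 2))
      = xr 9 (S 0) * (xr 9 (T 0) * xr 10 (S 1)) * (xr 10 (T 1) * xr 11 (S 2)) * xr 11 (T 2) := by group
    _ = xr 9 (S 0) * (xr 10 (S 1) * xr 9 (T 0)) * (xr 11 (S 2) * xr 10 (T 1)) * xr 11 (T 2) := by
        rw [← c109.eq, ← c1110.eq]
    _ = xr 9 (S 0) * xr 10 (S 1) * (xr 9 (T 0) * xr 11 (S 2)) * (xr 10 (T 1) * xr 11 (T 2)) := by group
    _ = xr 9 (S 0) * xr 10 (S 1) * (xr 11 (S 2) * xr 9 (T 0)) * (xr 10 (T 1) * xr 11 (T 2)) := by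
        rw [← c119.eq]
    _ = _ := by group

variable (ρ : Representation ℂ (GG F) (Fin k → ℂ))

/-- The multiplicity of a weight. -/
noncomputable def M3 (a b c : F) : ℕ := M ρ g3 ![a, b, c]

theorem M3_eq (c : Fin 3 → F) : M ρ g3 c = M3 ρ (c 0) (c 1) (c 2) := by
  rw [M3]
  congr 1
  funext i
  fin_cases i <;> rfl

/-- Invariance under an element acting by a substitution. -/
theorem M3_move (x : GG F) (L : (Fin 3 → F) → (Fin 3 → F)) (hadd : ∀ S T, L (S + T) = L S + L T)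
    (hinj : Function.Injective L) (hx : ∀ S, x * g3 S = g3 (L S) * x) (a b c a' b' c' : F)
    (h : ∀ S : Fin 3 → F, a' * L S 0 + b' * L S 1 + c' * L S 2 = a * S 0 + b * S 1 + c * S 2) :
    M3 ρ a b c = M3 ρ a' b' c' :=
  M_subst ρ g3 g3_add x L hadd hinj hx _ _ fun S => by
    simpa [Fin.sum_univ_three] using h S

theorem shift7 (t a b c : F) : M3 ρ (a + 3 * t * b) b c = M3 ρ a b c := by
  refine M3_move ρ (xr 7 t) (fun x => ![x 0, x 1 + 3 * t * x 0, x 2])
    (fun S T => by funext i; fin_cases i <;> simp <;> ring)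
    (fun S T h => by
      have h0 : S 0 = T 0 := congrFun h 0
      have h1 : S 1 + 3 * t * S 0 = T 1 + 3 * t * T 0 := congrFun h 1
      funext i; fin_cases i
      · exact h0
      · show S 1 = T 1; linear_combination h1 - 3 * t * h0
      · exact congrFun h 2)
    (fun S => ?_) _ _ _ _ _ _ (fun S => by simp; ring)
  have c710 : xr 7 t * xr 10 (S 1) = xr 10 (S 1) * xr 7 t := comm_xr 7 10 (by decide) (by decide +kernel) _ _
  have c711 : xr 7 t * xr 11 (S 2) = xr 11 (S 2) * xr 7 t := comm_xr 7 11 (by decide) (by decide +kernel) _ _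
  simp only [g3, Matrix.cons_val_zero, Matrix.cons_val_one, Matrix.cons_val]
  calc xr 7 t * (xr 9 (S 0) * xr 10 (S 1) * xr 11 (S 2))
      = xr 7 t * xr 9 (S 0) * xr 10 (S 1) * xr 11 (S 2) := by group
    _ = xr 9 (S 0) * xr 10 (3 * t * S 0) * (xr 7 t * xr 10 (S 1)) * xr 11 (S 2) := by
        rw [x7_x9]; group
    _ = xr 9 (S 0) * (xr 10 (3 * t * S 0) * xr 10 (S 1)) * (xr 7 t * xr 11 (S 2)) := by
        rw [c710]; group
    _ = _ := by rw [c711, ← xr_add, add_comm (3 * t * S 0)]; group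

theorem shift8 (s a b c : F) : M3 ρ (a + 3 * s * c) b c = M3 ρ a b c := by
  refine M3_move ρ (xr 8 s) (fun x => ![x 0, x 1, x 2 + 3 * s * x 0])
    (fun S T => by funext i; fin_cases i <;> simp <;> ring)
    (fun S T h => by
      have h0 : S 0 = T 0 := congrFun h 0
      have h2 : S 2 + 3 * s * S 0 = T 2 + 3 * s * T 0 := congrFun h 2
      funext i; fin_cases i
      · exact h0
      · exact congrFun h 1
      · show S 2 = T 2; linear_combination h2 - 3 * s * h0)
    (fun S => ?_) _ _ _ _ _ _ (fun S => by simp; ring)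
  have c810 : xr 8 s * xr 10 (S 1) = xr 10 (S 1) * xr 8 s := comm_xr 8 10 (by decide) (by decide +kernel) _ _
  have c811 : xr 8 s * xr 11 (S 2) = xr 11 (S 2) * xr 8 s := comm_xr 8 11 (by decide) (by decide +kernel) _ _
  have c1110 : xr 11 (3 * s * S 0) * xr 10 (S 1) = xr 10 (S 1) * xr 11 (3 * s * S 0) :=
    comm_xr 11 10 (by decide) (by decide +kernel) _ _
  simp only [g3, Matrix.cons_val_zero, Matrix.cons_val_one, Matrix.cons_val]
  calc xr 8 s * (xr 9 (S 0) * xr 10 (S 1) * xr 11 (S 2))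
      = xr 8 s * xr 9 (S 0) * xr 10 (S 1) * xr 11 (S 2) := by group
    _ = xr 9 (S 0) * xr 11 (3 * s * S 0) * (xr 8 s * xr 10 (S 1)) * xr 11 (S 2) := by
        rw [x8_x9]; group
    _ = xr 9 (S 0) * (xr 11 (3 * s * S 0) * xr 10 (S 1)) * (xr 8 s * xr 11 (S 2)) := by
        rw [c810]; group
    _ = xr 9 (S 0) * xr 10 (S 1) * (xr 11 (3 * s * S 0) * xr 11 (S 2)) * xr 8 s := by
        rw [c1110, c811]; group
    _ = _ := by rw [← xr_add, add_comm (3 * s * S 0)]

theorem shift6 (s a b c : F) : M3 ρ a (b + s * c) c = M3 ρ a b c := by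
  refine M3_move ρ (xr 6 s) (fun x => ![x 0, x 1, x 2 + s * x 1])
    (fun S T => by funext i; fin_cases i <;> simp <;> ring)
    (fun S T h => by
      have h1 : S 1 = T 1 := congrFun h 1
      have h2 : S 2 + s * S 1 = T 2 + s * T 1 := congrFun h 2
      funext i; fin_cases i
      · exact congrFun h 0
      · exact h1
      · show S 2 = T 2; linear_combination h2 - s * h1)
    (fun S => ?_) _ _ _ _ _ _ (fun S => by simp; ring)
  have c69 : xr 6 s * xr 9 (S 0) = xr 9 (S 0) * xr 6 s := comm_xr 6 9 (by decide) (by decide +kernel) _ _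
  have c611 : xr 6 s * xr 11 (S 2) = xr 11 (S 2) * xr 6 s := comm_xr 6 11 (by decide) (by decide +kernel) _ _
  simp only [g3, Matrix.cons_val_zero, Matrix.cons_val_one, Matrix.cons_val]
  calc xr 6 s * (xr 9 (S 0) * xr 10 (S 1) * xr 11 (S 2))
      = xr 6 s * xr 9 (S 0) * xr 10 (S 1) * xr 11 (S 2) := by group
    _ = xr 9 (S 0) * (xr 6 s * xr 10 (S 1)) * xr 11 (S 2) := by rw [c69]; group
    _ = xr 9 (S 0) * xr 10 (S 1) * xr 11 (s * S 1) * (xr 6 s * xr 11 (S 2)) := by rw [x6_x10]; group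
    _ = xr 9 (S 0) * xr 10 (S 1) * (xr 11 (s * S 1) * xr 11 (S 2)) * xr 6 s := by rw [c611]; group
    _ = _ := by rw [← xr_add, add_comm (s * S 1)]

theorem torus3 (u v : Fˣ) (a b c : F) :
    M3 ρ ((wt u v 9 : F) * a) ((wt u v 10 : F) * b) ((wt u v 11 : F) * c) = M3 ρ a b c := by
  refine M3_move ρ (tor u v)
    (fun x => ![(wt u v 9 : F) * x 0, (wt u v 10 : F) * x 1, (wt u v 11 : F) * x 2])
    (fun S T => by funext i; fin_cases i <;> simp <;> ring)
    (fun S T h => by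
      funext i; fin_cases i
      · exact mul_left_cancel₀ (Units.ne_zero _) (congrFun h 0)
      · exact mul_left_cancel₀ (Units.ne_zero _) (congrFun h 1)
      · exact mul_left_cancel₀ (Units.ne_zero _) (congrFun h 2))
    (fun S => ?_) _ _ _ _ _ _ (fun S => by simp; ring)
  simp only [g3, Matrix.cons_val_zero, Matrix.cons_val_one, Matrix.cons_val]
  calc tor u v * (xr 9 (S 0) * xr 10 (S 1) * xr 11 (S 2))
      = tor u v * xr 9 (S 0) * xr 10 (S 1) * xr 11 (S 2) := by group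
    _ = xr 9 ((wt u v 9 : F) * S 0) * (tor u v * xr 10 (S 1)) * xr 11 (S 2) := by rw [tor_xr]; group
    _ = xr 9 ((wt u v 9 : F) * S 0) * xr 10 ((wt u v 10 : F) * S 1) * (tor u v * xr 11 (S 2)) := by
        rw [tor_xr]; group
    _ = _ := by rw [tor_xr]; group

theorem weyl3 : ∃ e₀ e₁ e₂ : F, e₀ ≠ 0 ∧ e₁ ≠ 0 ∧ e₂ ≠ 0 ∧
    ∀ a b c : F, M3 ρ (e₀ * a) (e₁ * c) (e₂ * b) = M3 ρ a b c := by
  obtain ⟨e9, h9, n9⟩ := carries_nB (F := F) 9 9 (by rw [sB_eq]; rfl)
  obtain ⟨e10, h10, n10⟩ := carries_nB (F := F) 10 11 (by rw [sB_eq]; rfl)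
  obtain ⟨e11, h11, n11⟩ := carries_nB (F := F) 11 10 (by rw [sB_eq]; rfl)
  refine ⟨e9, e10, e11, h9, h10, h11, fun a b c => ?_⟩
  refine M3_move ρ nB (fun x => ![e9 * x 0, e11 * x 2, e10 * x 1])
    (fun S T => by funext i; fin_cases i <;> simp <;> ring)
    (fun S T h => by
      funext i; fin_cases i
      · exact mul_left_cancel₀ h9 (congrFun h 0)
      · exact mul_left_cancel₀ h10 (congrFun h 2)
      · exact mul_left_cancel₀ h11 (congrFun h 1))
    (fun S => ?_) _ _ _ _ _ _ (fun S => by simp; ring)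
  have c1011 : xr 10 (e11 * S 2) * xr 11 (e10 * S 1) = xr 11 (e10 * S 1) * xr 10 (e11 * S 2) :=
    comm_xr 10 11 (by decide) (by decide +kernel) _ _
  simp only [g3, Matrix.cons_val_zero, Matrix.cons_val_one, Matrix.cons_val]
  calc nB * (xr 9 (S 0) * xr 10 (S 1) * xr 11 (S 2))
      = nB * xr 9 (S 0) * xr 10 (S 1) * xr 11 (S 2) := by group
    _ = xr 9 (e9 * S 0) * (nB * xr 10 (S 1)) * xr 11 (S 2) := by rw [n9]; group
    _ = xr 9 (e9 * S 0) * xr 11 (e10 * S 1) * (nB * xr 11 (S 2)) := by rw [n10]; group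
    _ = xr 9 (e9 * S 0) * (xr 11 (e10 * S 1) * xr 10 (e11 * S 2)) * nB := by rw [n11]; group
    _ = _ := by rw [← c1011]; group

/-- The constant multiplicity. -/
noncomputable def mu : ℕ := M3 ρ 0 0 1

theorem M3_const (h3 : (3 : F) ≠ 0) (a b c : F) (h : b ≠ 0 ∨ c ≠ 0) : M3 ρ a b c = mu ρ := by
  have key : ∀ a b c : F, c ≠ 0 → M3 ρ a b c = mu ρ := fun a b c hc => by
    have h1 := shift8 ρ (a / (3 * c)) 0 b c
    rw [show (0 : F) + 3 * (a / (3 * c)) * c = a by field_simp; ring] at h1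
    have h2 := shift6 ρ (b / c) 0 0 c
    rw [zero_add, div_mul_cancel₀ b hc] at h2
    have h4 := torus3 ρ (Units.mk0 c hc) (Units.mk0 c hc)⁻¹ 0 0 1
    rw [mul_zero, mul_zero, mul_one] at h4
    have hw : (wt (Units.mk0 c hc) (Units.mk0 c hc)⁻¹ 11 : F) = c := by
      simp [wt]
      field_simp
    rw [hw] at h4
    rw [h1, h2, h4, mu]
  rcases eq_or_ne c 0 with rfl | hc
  · have hb : b ≠ 0 := h.resolve_right (by simp)
    obtain ⟨e₀, e₁, e₂, -, -, he2, he⟩ := weyl3 ρ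
    rw [← he a b 0, key _ _ _ (mul_ne_zero he2 hb)]
  · exact key a b c hc

/-- The fixed space of the highest root group. -/
noncomputable abbrev W11 : ℕ := fixDim (xr 11 : F → GG F) ρ

theorem single2_chv (c : Fin 3 → F) :
    (chv c).compAddMonoidHom (AddMonoidHom.single (fun _ : Fin 3 => F) 2) = 1 ↔ c 2 = 0 := by
  classical
  rw [← ψ_eq_one_iff, DFunLike.ext_iff]
  refine forall_congr' fun u => ?_
  rw [AddChar.compAddMonoidHom_apply, AddChar.one_apply, chv_apply]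
  simp [Pi.single_apply, Finset.sum_ite_eq']

theorem W11_eq [DecidableEq F] : W11 ρ = ∑ c ∈ Finset.univ.filter (fun c : Fin 3 → F => c 2 = 0), M ρ g3 c := by
  classical
  rw [W11, fixDim, ← mult_chv ρ g3 g3_add (AddMonoidHom.single (fun _ : Fin 3 => F) 2) 1
    (fun c => c 2 = 0) single2_chv]
  congr 1
  funext u
  simp [g3, xr_zero, Function.comp]

theorem degree_eq (h3 : (3 : F) ≠ 0) :
    k = W11 ρ + (Fintype.card F - 1) * Fintype.card F ^ 2 * mu ρ := by
  classical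
  conv_lhs => rw [← sum_M ρ g3 g3_add, ← Finset.sum_filter_add_sum_filter_not Finset.univ (fun c : Fin 3 → F => c 2 = 0)]
  rw [W11_eq]
  congr 1
  rw [Finset.sum_congr rfl fun c hc => (M3_eq ρ c).trans (M3_const ρ h3 _ _ _ (Or.inr (Finset.mem_filter.1 hc).2)),
    Finset.sum_const, smul_eq_mul]
  congr 1
  have hc : (Finset.univ.filter fun c : Fin 3 → F => ¬ c 2 = 0) =
      Fintype.piFinset fun i => if i = 2 then ({0} : Finset F)ᶜ else Finset.univ := by
    ext c
    simp only [Finset.mem_filter, Finset.mem_univ, true_and, Fintype.mem_piFinset]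
    constructor
    · intro h i
      split_ifs with hi
      · subst hi; simpa using h
      · exact Finset.mem_univ _
    · intro h
      simpa using h 2
  rw [hc, Fintype.card_piFinset, Fin.prod_univ_three]
  simp [Finset.card_compl]
  ring

theorem mu_pos (h3 : (3 : F) ≠ 0) (hq : 2 < Fintype.card F) (hρ : ρ.IsIrreducible) (hk : 2 ≤ k) :
    0 < mu ρ := by
  by_contra h0
  have hW : W11 ρ = k := by
    have := degree_eq ρ h3
    rw [Nat.eq_zero_of_not_pos h0, mul_zero, add_zero] at this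
    exact this.symm
  refine one_ne_zero (xr_eq_one_iff.1 (faithful hq ρ hρ hk
    (trivial_of_mult (xr 11 : F → GG F) ρ (xr_add 11) (fun χ hχ => ?_) (1 : F))))
  classical
  have hs := sum_mult (xr 11 : F → GG F) ρ (xr_add 11)
  rw [← Finset.add_sum_erase _ _ (Finset.mem_univ (1 : AddChar F ℂ))] at hs
  have h1 : W11 ρ = mult (xr 11 : F → GG F) ρ 1 := rfl
  exact Finset.sum_eq_zero_iff.1 (by omega : ∑ χ ∈ Finset.univ.erase (1 : AddChar F ℂ),
    mult (xr 11 : F → GG F) ρ χ = 0) χ (Finset.mem_erase.2 ⟨hχ, Finset.mem_univ _⟩)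

end CfsgLib.G2Deg
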