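import Cfsg.Agent.Lib.G2Deg.Three

/-! The fixed space of the highest root group as a module for the roots b, a+b, 2a+b, 3a+b. -/

set_option autoImplicit false
set_option linter.unusedSectionVars false
set_option linter.unnecessarySeqFocus false

namespace CfsgLib.G2Deg

open CfsgLib.RadicalBound CfsgLib.OrthDeg

variable {F : Type*} [Field F] [Fintype F] {k : ℕ} (ρ : Representation ℂ (GG F) (Fin k → ℂ))

local notation "f11" => (xr 11 : F → GG F)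

/-- The new group of the fixed space. -/
abbrev G11 := SubG (xr 11 : F → GG F) ρ

/-- The new representation. -/
noncomputable abbrev rep11 : Representation ℂ (G11 ρ) (Fin (W11 ρ) → ℂ) := subRep (xr 11 : F → GG F) ρ

/-- Transport of an element. -/
noncomputable abbrev res11 (x : GG F) : G11 ρ := res (xr 11 : F → GG F) ρ x

theorem stab_xr (r : Fin 12) (u : F) (hneg : (11 : Fin 12).val ≠ Cfsg.Lie.chevG2.neg r.val)
    (h : Cfsg.Lie.chevG2.commTerms r.val (11 : Fin 12).val = []) : xr r u ∈ stabG f11 ρ :=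
  mem_stabG11 ρ _ (carries_self r 11 hneg h u)

theorem stab6 (u : F) : xr 6 u ∈ stabG f11 ρ := stab_xr ρ 6 u (by decide) (by decide +kernel)
theorem stab7 (u : F) : xr 7 u ∈ stabG f11 ρ := stab_xr ρ 7 u (by decide) (by decide +kernel)
theorem stab8 (u : F) : xr 8 u ∈ stabG f11 ρ := stab_xr ρ 8 u (by decide) (by decide +kernel)
theorem stab9 (u : F) : xr 9 u ∈ stabG f11 ρ := stab_xr ρ 9 u (by decide) (by decide +kernel)
theorem stab10 (u : F) : xr 10 u ∈ stabG f11 ρ := stab_xr ρ 10 u (by decide) (by decide +kernel)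
theorem stab11 (u : F) : xr 11 u ∈ stabG f11 ρ := mem_stabG_of_mem f11 ρ (xr_add 11) u
theorem stabT (a b : Fˣ) : tor a b ∈ stabG f11 ρ := mem_stabG11 ρ _ (carries_tor a b 11)
theorem stabA : (nA : GG F) ∈ stabG f11 ρ := mem_stabG11 ρ _ (carries_nA 11 11 (by rw [sA_eq]; rfl))

theorem res_eleven (u : F) : res f11 ρ (xr 11 u) = 1 := res_apply f11 ρ (xr_add 11) (stab11 ρ u)

/-- The image of a root element. -/
noncomputable def X (r : Fin 12) (u : F) : G11 ρ := res11 ρ (xr r u)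

theorem X_add {r : Fin 12} (hr : ∀ u : F, xr r u ∈ stabG f11 ρ) (u v : F) :
    X ρ r (u + v) = X ρ r u * X ρ r v := by
  rw [X, xr_add]
  exact res_mul f11 ρ (hr u) (hr v)

theorem X_zero (r : Fin 12) : X ρ r 0 = 1 := by
  rw [X, xr_zero, ← xr_zero (F := F) 11]
  exact res_eleven ρ 0

theorem X_comm (r s : Fin 12) (u v : F) (hr : xr r u ∈ stabG f11 ρ) (hs : xr s v ∈ stabG f11 ρ) (w : F)
    (h : xr r u * xr s v = xr s v * xr 11 w * xr r u) : X ρ r u * X ρ s v = X ρ s v * X ρ r u := by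
  show res f11 ρ _ * res f11 ρ _ = res f11 ρ _ * res f11 ρ _
  rw [← res_mul f11 ρ hr hs, h, res_mul f11 ρ (mul_mem hs (stab11 ρ w)) hr, res_mul f11 ρ hs (stab11 ρ w)]
  rw [res_eleven ρ w]
  rw [mul_one]

theorem X_comm' (r s : Fin 12) (u v : F) (hr : xr r u ∈ stabG f11 ρ) (hs : xr s v ∈ stabG f11 ρ)
    (hneg : s.val ≠ Cfsg.Lie.chevG2.neg r.val) (h : Cfsg.Lie.chevG2.commTerms r.val s.val = []) :
    X ρ r u * X ρ s v = X ρ s v * X ρ r u :=
  X_comm ρ r s u v hr hs 0 (by rw [xr_zero, mul_one]; exact comm_xr r s hneg h u v)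

theorem X86 (u v : F) : X ρ 8 u * X ρ 6 v = X ρ 6 v * X ρ 8 u :=
  X_comm' ρ 8 6 u v (stab8 ρ u) (stab6 ρ v) (by decide) (by decide +kernel)
theorem X96 (u v : F) : X ρ 9 u * X ρ 6 v = X ρ 6 v * X ρ 9 u :=
  X_comm' ρ 9 6 u v (stab9 ρ u) (stab6 ρ v) (by decide) (by decide +kernel)
theorem X106 (u v : F) : X ρ 10 u * X ρ 6 v = X ρ 6 v * X ρ 10 u :=
  (X_comm ρ 6 10 v u (stab6 ρ v) (stab10 ρ u) _ (x6_x10 v u)).symm
theorem X98 (u v : F) : X ρ 9 u * X ρ 8 v = X ρ 8 v * X ρ 9 u :=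
  (X_comm ρ 8 9 v u (stab8 ρ v) (stab9 ρ u) _ (x8_x9 v u)).symm
theorem X108 (u v : F) : X ρ 10 u * X ρ 8 v = X ρ 8 v * X ρ 10 u :=
  X_comm' ρ 10 8 u v (stab10 ρ u) (stab8 ρ v) (by decide) (by decide +kernel)
theorem X109 (u v : F) : X ρ 10 u * X ρ 9 v = X ρ 9 v * X ρ 10 u :=
  X_comm' ρ 10 9 u v (stab10 ρ u) (stab9 ρ v) (by decide) (by decide +kernel)

/-- The image of the group of the roots b, a+b, 2a+b, 3a+b. -/
noncomputable def g4 (x : Fin 4 → F) : G11 ρ := X ρ 6 (x 0) * X ρ 8 (x 1) * X ρ 9 (x 2) * X ρ 10 (x 3)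

theorem g4_add (S T : Fin 4 → F) : g4 ρ (S + T) = g4 ρ S * g4 ρ T := by
  simp only [g4, Pi.add_apply, X_add ρ (stab6 ρ), X_add ρ (stab8 ρ), X_add ρ (stab9 ρ), X_add ρ (stab10 ρ)]
  set a := X ρ 6 (S 0); set a' := X ρ 6 (T 0)
  set b := X ρ 8 (S 1); set b' := X ρ 8 (T 1)
  set c := X ρ 9 (S 2); set c' := X ρ 9 (T 2)
  set d := X ρ 10 (S 3); set d' := X ρ 10 (T 3)
  calc a * a' * (b * b') * (c * c') * (d * d')
      = a * (a' * b) * (b' * c) * (c' * d) * d' := by group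
    _ = a * (b * a') * (c * b') * (d * c') * d' := by rw [← X86, ← X98, ← X109]
    _ = a * b * (a' * c) * (b' * d) * c' * d' := by group
    _ = a * b * (c * a') * (d * b') * c' * d' := by rw [← X96, ← X108]
    _ = a * b * c * (a' * d) * b' * c' * d' := by group
    _ = a * b * c * (d * a') * b' * c' * d' := by rw [← X106]
    _ = _ := by group

/-- A multiplicity on the fixed space. -/
noncomputable def M4 (a b c d : F) : ℕ := M (rep11 ρ) (g4 ρ) ![a, b, c, d]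

theorem M4_eq (c : Fin 4 → F) : M (rep11 ρ) (g4 ρ) c = M4 ρ (c 0) (c 1) (c 2) (c 3) := by
  rw [M4]
  congr 1
  funext i
  fin_cases i <;> rfl

theorem M4_move (x : G11 ρ) (L : (Fin 4 → F) → (Fin 4 → F)) (hadd : ∀ S T, L (S + T) = L S + L T)
    (hinj : Function.Injective L) (hx : ∀ S, x * g4 ρ S = g4 ρ (L S) * x) (a b c d a' b' c' d' : F)
    (h : ∀ S : Fin 4 → F, a' * L S 0 + b' * L S 1 + c' * L S 2 + d' * L S 3 =
      a * S 0 + b * S 1 + c * S 2 + d * S 3) :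
    M4 ρ a b c d = M4 ρ a' b' c' d' :=
  M_subst (rep11 ρ) (g4 ρ) (g4_add ρ) x L hadd hinj hx _ _ fun S => by
    simpa [Fin.sum_univ_four] using h S

theorem g4_six (a : F) : g4 ρ ![a, 0, 0, 0] = X ρ 6 a := by simp [g4, X_zero]
theorem g4_eight (a : F) : g4 ρ ![0, a, 0, 0] = X ρ 8 a := by simp [g4, X_zero]
theorem g4_nine (a : F) : g4 ρ ![0, 0, a, 0] = X ρ 9 a := by simp [g4, X_zero]
theorem g4_ten (a : F) : g4 ρ ![0, 0, 0, a] = X ρ 10 a := by simp [g4, X_zero]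

theorem g4_split (S : Fin 4 → F) : g4 ρ S =
    g4 ρ ![S 0, 0, 0, 0] * g4 ρ ![0, S 1, 0, 0] * g4 ρ ![0, 0, S 2, 0] * g4 ρ ![0, 0, 0, S 3] := by
  rw [g4_six, g4_eight, g4_nine, g4_ten]
  rfl

theorem res7_six (t u : F) : X ρ 7 t * X ρ 6 u =
    g4 ρ ![u, -(t * u), t ^ 2 * u, t ^ 3 * u] * X ρ 7 t := by
  show res f11 ρ _ * res f11 ρ _ = _
  rw [← res_mul f11 ρ (stab7 ρ t) (stab6 ρ u), x7_x6]
  have a1 := stab6 ρ u
  have a2 := stab8 ρ (-(t * u))
  have a3 := stab9 ρ (t ^ 2 * u)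
  have a4 := stab10 ρ (t ^ 3 * u)
  have a5 := stab11 ρ (t ^ 3 * u ^ 2)
  rw [res_mul f11 ρ (mul_mem (mul_mem (mul_mem (mul_mem a1 a2) a3) a4) a5) (stab7 ρ t),
    res_mul f11 ρ (mul_mem (mul_mem (mul_mem a1 a2) a3) a4) a5,
    res_mul f11 ρ (mul_mem (mul_mem a1 a2) a3) a4, res_mul f11 ρ (mul_mem a1 a2) a3, res_mul f11 ρ a1 a2]
  rw [res_eleven ρ]
  rw [mul_one]
  rfl

theorem res7_eight (t u : F) : X ρ 7 t * X ρ 8 u =
    g4 ρ ![0, u, -(2 * t * u), -(3 * t ^ 2 * u)] * X ρ 7 t := by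
  show res f11 ρ _ * res f11 ρ _ = _
  rw [← res_mul f11 ρ (stab7 ρ t) (stab8 ρ u), x7_x8]
  have a2 := stab8 ρ u
  have a3 := stab9 ρ (-(2 * t * u))
  have a4 := stab10 ρ (-(3 * t ^ 2 * u))
  have a5 := stab11 ρ (3 * t * u ^ 2)
  rw [res_mul f11 ρ (mul_mem (mul_mem (mul_mem a2 a3) a4) a5) (stab7 ρ t),
    res_mul f11 ρ (mul_mem (mul_mem a2 a3) a4) a5,
    res_mul f11 ρ (mul_mem a2 a3) a4, res_mul f11 ρ a2 a3]
  rw [res_eleven ρ]
  simp [g4, X_zero]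
  rfl

theorem res7_nine (t u : F) : X ρ 7 t * X ρ 9 u = g4 ρ ![0, 0, u, 3 * t * u] * X ρ 7 t := by
  show res f11 ρ _ * res f11 ρ _ = _
  rw [← res_mul f11 ρ (stab7 ρ t) (stab9 ρ u), x7_x9,
    res_mul f11 ρ (mul_mem (stab9 ρ u) (stab10 ρ (3 * t * u))) (stab7 ρ t),
    res_mul f11 ρ (stab9 ρ u) (stab10 ρ (3 * t * u))]
  simp [g4, X_zero]
  rfl

/-- The action of the short fundamental root subgroup. -/
theorem sh (t a b c d : F) :
    M4 ρ (a - t * b + t ^ 2 * c + t ^ 3 * d) (b - 2 * t * c - 3 * t ^ 2 * d) (c + 3 * t * d) d =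
      M4 ρ a b c d := by
  refine M4_move ρ (X ρ 7 t) (fun x => ![x 0, x 1 - t * x 0, x 2 + t ^ 2 * x 0 - 2 * t * x 1,
      x 3 + t ^ 3 * x 0 - 3 * t ^ 2 * x 1 + 3 * t * x 2])
    (fun S T => by funext i; fin_cases i <;> simp <;> ring)
    (fun S T h => by
      have h0 : S 0 = T 0 := congrFun h 0
      have h1 : S 1 - t * S 0 = T 1 - t * T 0 := congrFun h 1
      have h2 : S 2 + t ^ 2 * S 0 - 2 * t * S 1 = T 2 + t ^ 2 * T 0 - 2 * t * T 1 := congrFun h 2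
      have h3 : S 3 + t ^ 3 * S 0 - 3 * t ^ 2 * S 1 + 3 * t * S 2 =
          T 3 + t ^ 3 * T 0 - 3 * t ^ 2 * T 1 + 3 * t * T 2 := congrFun h 3
      have e1 : S 1 = T 1 := by linear_combination h1 + t * h0
      have e2 : S 2 = T 2 := by linear_combination h2 - t ^ 2 * h0 + 2 * t * e1
      funext i; fin_cases i
      · exact h0
      · exact e1
      · exact e2
      · show S 3 = T 3; linear_combination h3 - t ^ 3 * h0 + 3 * t ^ 2 * e1 - 3 * t * e2)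
    (fun S => ?_) _ _ _ _ _ _ _ _ (fun S => by simp; ring)
  have e10 : X ρ 7 t * X ρ 10 (S 3) = g4 ρ ![0, 0, 0, S 3] * X ρ 7 t := by
    rw [g4_ten]
    exact X_comm' ρ 7 10 t (S 3) (stab7 ρ t) (stab10 ρ _) (by decide) (by decide +kernel)
  calc X ρ 7 t * g4 ρ S
      = X ρ 7 t * X ρ 6 (S 0) * X ρ 8 (S 1) * X ρ 9 (S 2) * X ρ 10 (S 3) := by simp only [g4, mul_assoc]
    _ = g4 ρ ![S 0, -(t * S 0), t ^ 2 * S 0, t ^ 3 * S 0] * (X ρ 7 t * X ρ 8 (S 1)) * X ρ 9 (S 2) *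
        X ρ 10 (S 3) := by rw [res7_six]; simp only [mul_assoc]
    _ = g4 ρ ![S 0, -(t * S 0), t ^ 2 * S 0, t ^ 3 * S 0] *
        g4 ρ ![0, S 1, -(2 * t * S 1), -(3 * t ^ 2 * S 1)] * (X ρ 7 t * X ρ 9 (S 2)) * X ρ 10 (S 3) := by
        rw [res7_eight]; simp only [mul_assoc]
    _ = g4 ρ ![S 0, -(t * S 0), t ^ 2 * S 0, t ^ 3 * S 0] *
        g4 ρ ![0, S 1, -(2 * t * S 1), -(3 * t ^ 2 * S 1)] * g4 ρ ![0, 0, S 2, 3 * t * S 2] *
        (X ρ 7 t * X ρ 10 (S 3)) := by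
        rw [res7_nine]; simp only [mul_assoc]
    _ = _ := by
        rw [e10, ← mul_assoc, ← g4_add, ← g4_add, ← g4_add]
        congr 2
        funext i
        fin_cases i <;> simp <;> ring

theorem carry4 {x : GG F} (hx : x ∈ stabG f11 ρ) {r s : Fin 12} (hr : ∀ u : F, xr r u ∈ stabG f11 ρ)
    (hs : ∀ u : F, xr s u ∈ stabG f11 ρ) {e : F} (h : ∀ u, x * xr r u = xr s (e * u) * x) (u : F) :
    res11 ρ x * X ρ r u = X ρ s (e * u) * res11 ρ x := by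
  show res f11 ρ _ * res f11 ρ _ = res f11 ρ _ * res f11 ρ _
  rw [← res_mul f11 ρ hx (hr u), h, res_mul f11 ρ (hs _) hx]

theorem torus4 (u v : Fˣ) (a b c d : F) :
    M4 ρ ((wt u v 6 : F) * a) ((wt u v 8 : F) * b) ((wt u v 9 : F) * c) ((wt u v 10 : F) * d) =
      M4 ρ a b c d := by
  refine M4_move ρ (res11 ρ (tor u v)) (fun x => ![(wt u v 6 : F) * x 0, (wt u v 8 : F) * x 1,
      (wt u v 9 : F) * x 2, (wt u v 10 : F) * x 3])
    (fun S T => by funext i; fin_cases i <;> simp <;> ring)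
    (fun S T h => by
      funext i; fin_cases i
      · exact mul_left_cancel₀ (Units.ne_zero _) (congrFun h 0)
      · exact mul_left_cancel₀ (Units.ne_zero _) (congrFun h 1)
      · exact mul_left_cancel₀ (Units.ne_zero _) (congrFun h 2)
      · exact mul_left_cancel₀ (Units.ne_zero _) (congrFun h 3))
    (fun S => ?_) _ _ _ _ _ _ _ _ (fun S => by simp; ring)
  have h6 := carry4 ρ (stabT ρ u v) (stab6 ρ) (stab6 ρ) (tor_xr u v 6) (S 0)
  have h8 := carry4 ρ (stabT ρ u v) (stab8 ρ) (stab8 ρ) (tor_xr u v 8) (S 1)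
  have h9 := carry4 ρ (stabT ρ u v) (stab9 ρ) (stab9 ρ) (tor_xr u v 9) (S 2)
  have h10 := carry4 ρ (stabT ρ u v) (stab10 ρ) (stab10 ρ) (tor_xr u v 10) (S 3)
  simp only [g4, Matrix.cons_val_zero, Matrix.cons_val_one, Matrix.cons_val]
  simp only [← mul_assoc]
  rw [h6, mul_assoc (X ρ 6 _), h8, ← mul_assoc, mul_assoc (X ρ 6 _ * X ρ 8 _), h9, ← mul_assoc,
    mul_assoc (X ρ 6 _ * X ρ 8 _ * X ρ 9 _), h10, ← mul_assoc]

theorem weyl4 : ∃ e₀ e₁ e₂ e₃ : F, e₀ ≠ 0 ∧ e₁ ≠ 0 ∧ e₂ ≠ 0 ∧ e₃ ≠ 0 ∧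
    ∀ a b c d : F, M4 ρ (e₀ * d) (e₁ * c) (e₂ * b) (e₃ * a) = M4 ρ a b c d := by
  obtain ⟨e6, h6, n6⟩ := carries_nA (F := F) 6 10 (by rw [sA_eq]; rfl)
  obtain ⟨e8, h8, n8⟩ := carries_nA (F := F) 8 9 (by rw [sA_eq]; rfl)
  obtain ⟨e9, h9, n9⟩ := carries_nA (F := F) 9 8 (by rw [sA_eq]; rfl)
  obtain ⟨e10, h10, n10⟩ := carries_nA (F := F) 10 6 (by rw [sA_eq]; rfl)
  refine ⟨e6, e8, e9, e10, h6, h8, h9, h10, fun a b c d => ?_⟩
  refine M4_move ρ (res11 ρ nA) (fun x => ![e10 * x 3, e9 * x 2, e8 * x 1, e6 * x 0])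
    (fun S T => by funext i; fin_cases i <;> simp <;> ring)
    (fun S T h => by
      funext i; fin_cases i
      · exact mul_left_cancel₀ h6 (congrFun h 3)
      · exact mul_left_cancel₀ h8 (congrFun h 2)
      · exact mul_left_cancel₀ h9 (congrFun h 1)
      · exact mul_left_cancel₀ h10 (congrFun h 0))
    (fun S => ?_) _ _ _ _ _ _ _ _ (fun S => by simp; ring)
  have e : g4 ρ ![e10 * S 3, e9 * S 2, e8 * S 1, e6 * S 0] =
      g4 ρ ![0, 0, 0, e6 * S 0] * g4 ρ ![0, 0, e8 * S 1, 0] * g4 ρ ![0, e9 * S 2, 0, 0] *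
        g4 ρ ![e10 * S 3, 0, 0, 0] := by
    rw [← g4_add, ← g4_add, ← g4_add]
    congr 1
    funext i
    fin_cases i <;> simp
  rw [e, g4_six, g4_eight, g4_nine, g4_ten, g4]
  simp only [← mul_assoc]
  rw [carry4 ρ (stabA ρ) (stab6 ρ) (stab10 ρ) n6 (S 0), mul_assoc (X ρ 10 _),
    carry4 ρ (stabA ρ) (stab8 ρ) (stab9 ρ) n8 (S 1), ← mul_assoc, mul_assoc (X ρ 10 _ * X ρ 9 _),
    carry4 ρ (stabA ρ) (stab9 ρ) (stab8 ρ) n9 (S 2), ← mul_assoc, mul_assoc (X ρ 10 _ * X ρ 9 _ * X ρ 8 _),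
    carry4 ρ (stabA ρ) (stab10 ρ) (stab6 ρ) n10 (S 3), ← mul_assoc]

theorem sum_M4 : ∑ c : Fin 4 → F, M (rep11 ρ) (g4 ρ) c = W11 ρ := sum_M (rep11 ρ) (g4 ρ) (g4_add ρ)

/-- The abelian group of the two highest roots. -/
noncomputable def g2 (x : Fin 2 → F) : GG F := g3 ![0, x 0, x 1]

theorem g2_add (S T : Fin 2 → F) : g2 (S + T) = g2 S * g2 T := by
  rw [g2, g2, g2, ← g3_add]
  congr 1
  funext i
  fin_cases i <;> simp

open Classical in
/-- The weights with a given last coordinate. -/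
theorem fibre_ten (l : F) :
    (∑ c ∈ Finset.univ.filter (fun c : Fin 4 → F => c 3 = l), M (rep11 ρ) (g4 ρ) c) =
      ∑ a : F, M3 ρ a l 0 := by
  have hX : ∀ u, xr 10 u ∈ stabG f11 ρ := stab10 ρ
  have hadd : ∀ S T : F, res f11 ρ (xr 10 (S + T)) = res f11 ρ (xr 10 S) * res f11 ρ (xr 10 T) :=
    fun S T => X_add ρ hX S T
  let χ' : AddChar F ℂ := (chv ![l, 0]).compAddMonoidHom (AddMonoidHom.single (fun _ : Fin 2 => F) 0)
  have hsub := sub_mult f11 ρ (xr_add 11) (xr 10 : F → GG F) hX hadd g2 g2_add (chv ![l, 0])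
    (AddMonoidHom.single (fun _ : Fin 2 => F) 0) χ' rfl
    (fun u => by simp [g2, g3, xr_zero]) (AddMonoidHom.single (fun _ : Fin 2 => F) 1)
    (fun u => by simp [g2, g3, xr_zero])
    (by ext u; simp [chv_apply])
    (fun c => ⟨c 0, c 1, by funext i; fin_cases i <;> simp⟩)
  have h1 := mult_chv (rep11 ρ) (g4 ρ) (g4_add ρ) (AddMonoidHom.single (fun _ : Fin 4 => F) 3) χ'
    (fun c => c 3 = l) (fun c => by
      rw [DFunLike.ext_iff, ← ψ_eq_iff]
      refine forall_congr' fun u => ?_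
      simp only [χ', AddChar.compAddMonoidHom_apply, chv_apply, AddMonoidHom.single_apply,
        Fin.sum_univ_four, Fin.sum_univ_two]
      simp)
  let ι : (Fin 2 → F) →+ (Fin 3 → F) := AddMonoidHom.mk' (fun x => ![0, x 0, x 1])
    fun S T => by funext i; fin_cases i <;> simp
  have h2 := mult_chv ρ g3 g3_add ι (chv ![l, 0]) (fun c => c 1 = l ∧ c 2 = 0) (fun c => by
    have e : (chv c).compAddMonoidHom ι = chv ![c 1, c 2] := by
      ext x; simp [ι, chv_apply, Fin.sum_univ_three]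
    rw [e, chv_injective.eq_iff, funext_iff, Fin.forall_fin_two]
    rfl)
  rw [← h1]
  refine Eq.trans ?_ (hsub.trans ?_)
  · congr 1
    funext u
    simp [Function.comp, g4, X_zero]
    rfl
  refine h2.trans ?_
  refine Finset.sum_bij' (fun c _ => c 0) (fun a _ => ![a, l, 0]) (fun c _ => Finset.mem_univ _)
    (fun a _ => by simp) (fun c hc => by
      rw [Finset.mem_filter] at hc
      funext i; fin_cases i
      · rfl
      · exact hc.2.1.symm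
      · exact hc.2.2.symm) (fun a _ => rfl) (fun c hc => by
      rw [Finset.mem_filter] at hc
      rw [M3_eq, hc.2.1, hc.2.2])

end CfsgLib.G2Deg
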